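import Cfsg.Agent.Lib.OrthExt.Full
import Cfsg.Agent.Lib.OrthSubfield.Standard

/-!
The normaliser of a self-adjoint field of prime degree is maximal in the commutator group of an orthogonal group
in odd characteristic.
-/

set_option autoImplicit false
set_option linter.style.haveILetI false

namespace Cfsg.Agent.Lib.OrthExt

open Matrix QuadraticMap Cfsg.Agent.Lib

section NotSemi

variable {F E V : Type*} [Field F] [Field E] [Algebra F E] [AddCommGroup V] [Module F V] [Module E V]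
  [IsScalarTower F E V] {Q : QuadraticForm F V} [Finite E]

/-- Some commutator of isometries is not semilinear. -/
theorem exists_not_semi (D : ExtData E Q) :
    ∃ X ∈ Classical.isoGroup ⇑Q, ∃ Y ∈ Classical.isoGroup ⇑Q, ∀ φ : E → E, ∃ (e : E) (v : V),
      (X * Y * X⁻¹ * Y⁻¹) (e • v) ≠ φ e • (X * Y * X⁻¹ * Y⁻¹) v := by
  haveI := D.finV
  haveI := D.finE
  have h2 := D.two
  obtain ⟨w, -, hw0, hw⟩ := (show NdOn D.qE (⊤ : Submodule E V) from fun x _ hx => by
    obtain ⟨y, hy⟩ := D.ndE.exists_pair hx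
    exact ⟨y, trivial, by rw [hy]; exact one_ne_zero⟩).exists_sing h2 (by rw [finrank_top]; exact D.three_le)
  obtain ⟨w', hw', hww⟩ := D.ndE.exists_partner hw0 hw
  obtain ⟨b, hb, c, hc, hbq⟩ := exists_perp2_value D hw hw' hww (one_ne_zero (α := E))
  obtain ⟨hb1, hb2⟩ := mem_perp2.mp hb
  have hb0 : b ≠ 0 := fun e => hc (by
    rw [e, QuadraticMap.map_zero, mul_one] at hbq
    exact (map_eq_zero _).mp hbq.symm)
  obtain ⟨ε, hε0, hε⟩ : ∃ ε : E, ε ≠ 0 ∧ Algebra.trace F E ε = 0 := by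
    obtain ⟨a, ha, hperp⟩ := exists_trace_perp (S := Submodule.span F ({(1 : E)} : Set E))
      (by rw [finrank_span_singleton one_ne_zero]; exact D.prime.one_lt)
    exact ⟨a, ha, by simpa using hperp 1 (Submodule.mem_span_singleton_self _)⟩
  have hQw : Q w = 0 := by rw [D.Q_eq, hw, map_zero]
  have hQd : polar Q w (ε • w') = 0 := by rw [D.polar_eq, polar_smul_right, hww]; simp [hε]
  obtain ⟨X, hX, Y, hY, heq⟩ := eichler_eq_comm (hu := hQw) D.nd hw0 hQd
  refine ⟨X, hX, Y, hY, fun φ => ?_⟩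
  rw [← heq]
  by_contra hno
  push Not at hno
  have hfix : ∀ e : E, Classical.eichlerEquiv Q w (ε • w') hQw hQd (e • b) = e • b := fun e => by
    rw [Classical.eichlerEquiv_apply, D.polar_eq (e • b), D.polar_eq (e • b), polar_smul_left, polar_smul_left,
      polar_smul_right, polar_comm D.qE b w', hb2, polar_comm D.qE b w, hb1]
    simp
  have hφ : ∀ e, φ e = e := fun e => smul_left_injective E hb0 (by
    have h := hno e b
    have h1 := hfix 1
    rw [one_smul] at h1
    rw [hfix, h1] at h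
    exact h.symm)
  set t₀ := Algebra.trace F E (1 : E) with ht₀
  have hall : ∀ t : E, t₀ • t = algebraMap F E (Algebra.trace F E t) := fun t => by
    have h := hno t w'
    have e1 : ∀ s : E, Classical.eichlerEquiv Q w (ε • w') hQw hQd (s • w')
        = s • w' - Algebra.trace F E s • ε • w' := fun s => by
      rw [Classical.eichlerEquiv_apply, D.polar_eq (s • w'), D.polar_eq (s • w'), D.Q_smul, polar_smul_left,
        polar_smul_left, polar_smul_right, polar_self', hw', polar_comm D.qE w' w, hww]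
      simp
    have h1 := e1 1
    rw [one_smul, ← ht₀] at h1
    rw [hφ, e1, h1, smul_sub, sub_right_inj, ← algebraMap_smul E t₀, ← algebraMap_smul E (Algebra.trace F E t),
      smul_smul, smul_smul, smul_smul] at h
    have hw'0 : w' ≠ 0 := fun e => one_ne_zero (α := E) (by rw [← hww, e, polar_zero_right])
    have h' := mul_right_cancel₀ hε0 (smul_left_injective E hw'0 h)
    rw [Algebra.smul_def, h', mul_comm]
  by_cases ht : t₀ = 0
  · obtain ⟨x, hx⟩ := Algebra.trace_surjective F E 1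
    have h := hall x
    rw [ht, zero_smul, hx, map_one] at h
    exact zero_ne_one h
  · obtain ⟨x, hx⟩ := exists_not_isF (F := F) (E := E) D.prime
    refine hx (isF_iff.mpr ⟨Algebra.trace F E x / t₀, ?_⟩)
    rw [map_div₀, ← hall, Algebra.smul_def, mul_div_cancel_left₀ _ (by simpa using ht)]

end NotSemi

universe u

variable {ι : Type} [Fintype ι] [DecidableEq ι] {F : Type u} [Field F]

theorem isMaximalIn_extField_of [Fintype F] {Q : QuadraticForm F (ι → F)} (hQ : Nd Q) (r : ℕ) (hr : r.Prime)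
    (h3 : 3 * r ≤ Fintype.card ι) (h14 : r = 2 → 8 ≤ Fintype.card ι ∧ (Fintype.card ι = 8 →
      ∀ U : Submodule F (ι → F), (∀ x ∈ U, Q x = 0) → Module.finrank F U < 4))
    (K : Subalgebra F (Matrix ι ι F)) (hK : Cfsg.Geo.IsFieldSubalgebra r K)
    (hsa : Cfsg.Geo.IsSelfAdjointFor (polar ⇑Q) K)
    (hall : ∀ (E : Type u) [Field E] [Algebra F E] [Module E (ι → F)] [IsScalarTower F E (ι → F)] [Finite E]
      (D : ExtData E Q) (M : Subgroup ((ι → F) ≃ₗ[F] (ι → F))),
      Module.finrank F E = r → Over D M → ∀ a ∈ Classical.isoGroup ⇑Q, ∀ b ∈ Classical.isoGroup ⇑Q,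
        a * b * a⁻¹ * b⁻¹ ∈ M) :
    Cfsg.Geo.IsMaximalIn (Cfsg.Geo.omegaGL ⇑Q) (Cfsg.Geo.subalgebraNormalizer K ⊓ Cfsg.Geo.omegaGL ⇑Q) := by
  classical
  have hne : Nonempty ι := Fintype.card_pos_iff.mp (by have := hr.two_le; omega)
  haveI : Nontrivial K := ⟨⟨1, 0, fun h => by
    have := congrArg (fun a : K => (a : Matrix ι ι F) hne.some hne.some) h
    simp at this⟩⟩
  letI fK : Field K :=
    IsField.toField
      { exists_pair_ne := exists_pair_ne K
        mul_comm := fun x y => Subtype.ext (hK.comm x x.2 y y.2)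
        mul_inv_cancel := fun {x} hx => by
          obtain ⟨y, hy, hxy⟩ := hK.inv x x.2 (fun h => hx (Subtype.ext h))
          exact ⟨⟨y, hy⟩, Subtype.ext hxy⟩ }
  letI mK : Module K (ι → F) :=
    { smul := fun a v => (a : Matrix ι ι F) *ᵥ v
      one_smul := fun v => Matrix.one_mulVec v
      mul_smul := fun a b v => (Matrix.mulVec_mulVec v _ _).symm
      smul_zero := fun a => Matrix.mulVec_zero _
      zero_smul := fun v => Matrix.zero_mulVec v
      smul_add := fun a v w => Matrix.mulVec_add _ v w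
      add_smul := fun a b v => Matrix.add_mulVec _ _ v }
  haveI hT : IsScalarTower F K (ι → F) := ⟨fun c a v => Matrix.smul_mulVec c _ v⟩
  haveI : Finite K := Finite.of_injective _ Subtype.val_injective
  have hsm : ∀ (k : K) (v : ι → F), k • v = (k : Matrix ι ι F) *ᵥ v := fun k v => rfl
  have hrK : Module.finrank F K = r := hK.finrank_eq
  have hdim := Module.finrank_mul_finrank F K (ι → F)
  rw [hrK, Module.finrank_fintype_fun_eq_card] at hdim
  have D : ExtData K Q := by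
    refine ⟨hQ, fun e u v => ?_, hrK ▸ hr, ?_, fun h2 => ?_⟩
    · rw [hsm, hsm, hsa e e.2]
    · by_contra hlt
      have := Nat.mul_le_mul_left r (show Module.finrank K (ι → F) ≤ 2 by omega)
      have := hr.two_le
      omega
    · obtain ⟨h8, hmin⟩ := h14 (hrK ▸ h2)
      rw [show r = 2 from hrK ▸ h2] at hdim
      exact ⟨by omega, fun h4 => hmin (by omega)⟩
  -- mapping into the algebra suffices
  have hnorm : ∀ g : GL ι F, (∀ k ∈ K, (g : Matrix ι ι F) * k * ((g⁻¹ : GL ι F) : Matrix ι ι F) ∈ K) →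
      g ∈ Cfsg.Geo.subalgebraNormalizer K := by
    intro g h a
    refine ⟨h a, fun ha => ?_⟩
    let f : K → K := fun x => ⟨_, h x x.2⟩
    have hf : Function.Injective f := fun x y hxy => Subtype.ext
      ((Units.mul_right_inj g).mp ((Units.mul_left_inj g⁻¹).mp (congrArg Subtype.val hxy)))
    obtain ⟨x, hx⟩ := Finite.surjective_of_injective hf ⟨_, ha⟩
    exact ((Units.mul_right_inj g).mp ((Units.mul_left_inj g⁻¹).mp (congrArg Subtype.val hx))) ▸ x.2
  set Φ := Forms.glEquiv ι F with hΦ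
  -- normalising means semilinear
  have hsemi : ∀ A : GL ι F, A ∈ Cfsg.Geo.subalgebraNormalizer K ↔
      ∃ φ : K → K, ∀ (e : K) (v : ι → F), Φ A (e • v) = φ e • Φ A v := by
    intro A
    refine ⟨fun hA => ⟨fun e => ⟨_, (hA e).mp e.2⟩, fun e v => ?_⟩, fun ⟨φ, hφ⟩ => hnorm A fun k hk => ?_⟩
    · rw [hsm, hsm, hΦ, Forms.glEquiv_apply, Forms.glEquiv_apply]
      simp only [mulVec_mulVec, mul_assoc, ← Units.val_mul, inv_mul_cancel, Units.val_one, mul_one]
    · have e : (A : Matrix ι ι F) * k = (φ ⟨k, hk⟩ : Matrix ι ι F) * (A : Matrix ι ι F) := by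
        refine Matrix.ext_iff_mulVec.mpr fun x => ?_
        rw [← mulVec_mulVec, ← mulVec_mulVec, ← Forms.glEquiv_apply, ← Forms.glEquiv_apply]
        exact hφ ⟨k, hk⟩ x
      rw [e, mul_assoc, ← Units.val_mul, mul_inv_cancel, Units.val_one, mul_one]
      exact (φ ⟨k, hk⟩).2
  have hiff : ∀ A : GL ι F, Φ A ∈ Classical.isoGroup ⇑Q ↔ A ∈ Cfsg.isometryGroup F ⇑Q := fun A => by
    rw [Forms.mem_isometryGroup_iff]; rfl
  have hcomm : ∀ X Y : (ι → F) ≃ₗ[F] (ι → F), X ∈ Classical.isoGroup ⇑Q → Y ∈ Classical.isoGroup ⇑Q →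
      Φ.symm (X * Y * X⁻¹ * Y⁻¹) ∈ Cfsg.Geo.omegaGL ⇑Q := by
    intro X Y hX hY
    rw [OrthSubfield.omegaGL_eq_commutator, map_mul, map_mul, map_mul, map_inv, map_inv]
    exact Subgroup.commutator_mem_commutator ((hiff _).mp (by rwa [Φ.apply_symm_apply]))
      ((hiff _).mp (by rwa [Φ.apply_symm_apply]))
  refine ⟨lt_of_le_of_ne inf_le_right fun heq => ?_, fun M hHM hMG => ?_⟩
  · obtain ⟨X, hX, Y, hY, hns⟩ := exists_not_semi D
    obtain ⟨φ, hφ⟩ := (hsemi _).mp (heq.ge (hcomm X Y hX hY)).1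
    obtain ⟨e, v, hev⟩ := hns φ
    rw [Φ.apply_symm_apply] at hφ
    exact hev (hφ e v)
  by_cases hle : M ≤ Cfsg.Geo.subalgebraNormalizer K
  · exact Or.inl (le_antisymm (le_inf hle hMG) hHM)
  right
  obtain ⟨A, hAM, hA⟩ := SetLike.not_le_iff_exists.mp hle
  have hMI : M ≤ Cfsg.isometryGroup F ⇑Q := hMG.trans (Subgroup.map_subtype_le _)
  set M' := M.map Φ.toMonoidHom with hM'
  have hdetC : Cfsg.Geo.omegaGL ⇑Q ≤ (LinearEquiv.det.comp Φ.toMonoidHom).ker := by
    rw [OrthSubfield.omegaGL_eq_commutator, Subgroup.commutator_le]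
    intro a _ b _
    rw [MonoidHom.mem_ker, map_commutatorElement, commutatorElement_eq_one_iff_mul_comm, mul_comm]
  have hO : Over D M' := by
    refine ⟨?_, ?_, fun X hX Y hY => ?_, ?_⟩
    · rintro _ ⟨B, hB, rfl⟩
      exact (hiff B).mpr (hMI hB)
    · rintro _ ⟨B, hB, rfl⟩
      have h := congrArg (fun u : Fˣ => (u : F)) (MonoidHom.mem_ker.mp (hdetC (hMG hB)))
      simp only [MonoidHom.comp_apply, Units.val_one, LinearEquiv.coe_det] at h
      exact h
    · refine ⟨Φ.symm (rs (X * Y * X⁻¹ * Y⁻¹)), hHM ⟨(hsemi _).mpr ⟨id, fun e v => ?_⟩, ?_⟩,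
        Φ.apply_symm_apply _⟩
      · rw [Φ.apply_symm_apply]
        exact map_smul (X * Y * X⁻¹ * Y⁻¹) e v
      · have e : rs (F := F) (X * Y * X⁻¹ * Y⁻¹) = rs X * rs Y * (rs X)⁻¹ * (rs Y)⁻¹ := by
          simp only [map_mul, map_inv]
        rw [e]
        exact hcomm _ _ (rs_mem D hX) (rs_mem D hY)
    · refine ⟨Φ A, Subgroup.mem_map_of_mem _ hAM, fun φ => ?_⟩
      by_contra hno
      push Not at hno
      exact hA ((hsemi A).mpr ⟨φ, hno⟩)
  refine le_antisymm hMG ?_
  rw [OrthSubfield.omegaGL_eq_commutator, Subgroup.commutator_le]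
  intro a ha b hb
  obtain ⟨C, hC, hCe⟩ := hall K D M' hrK hO _ ((hiff a).mpr ha) _ ((hiff b).mpr hb)
  rw [MulEquiv.coe_toMonoidHom, ← map_inv, ← map_inv, ← map_mul, ← map_mul, ← map_mul] at hCe
  rw [commutatorElement_def, ← Φ.injective hCe]
  exact hC

theorem isMaximalIn_extField [Fintype F] {Q : QuadraticForm F (ι → F)} (hQ : Nd Q) (r : ℕ) (hr : r.Prime)
    (h3 : 3 * r ≤ Fintype.card ι) (h14 : r = 2 → 10 ≤ Fintype.card ι)
    (K : Subalgebra F (Matrix ι ι F)) (hK : Cfsg.Geo.IsFieldSubalgebra r K)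
    (hsa : Cfsg.Geo.IsSelfAdjointFor (polar ⇑Q) K)
    (hall : ∀ (E : Type u) [Field E] [Algebra F E] [Module E (ι → F)] [IsScalarTower F E (ι → F)] [Finite E]
      (D : ExtData E Q) (M : Subgroup ((ι → F) ≃ₗ[F] (ι → F))),
      Module.finrank F E = r → Over D M → ∀ a ∈ Classical.isoGroup ⇑Q, ∀ b ∈ Classical.isoGroup ⇑Q,
        a * b * a⁻¹ * b⁻¹ ∈ M) :
    Cfsg.Geo.IsMaximalIn (Cfsg.Geo.omegaGL ⇑Q) (Cfsg.Geo.subalgebraNormalizer K ⊓ Cfsg.Geo.omegaGL ⇑Q) :=
  isMaximalIn_extField_of hQ r hr h3 (fun h => ⟨by have := h14 h; omega, fun h8 => absurd h8 (by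
    have := h14 h; omega)⟩) K hK hsa hall

/-- The case of even dimension. -/
theorem isMaximalIn_extField_even [Fintype F] {Q : QuadraticForm F (ι → F)} (hQ : Nd Q) (r : ℕ) (hr : r.Prime)
    (h3 : 3 * r ≤ Fintype.card ι) (hev : Even (Fintype.card ι)) (hn : 13 ≤ Fintype.card ι)
    (K : Subalgebra F (Matrix ι ι F)) (hK : Cfsg.Geo.IsFieldSubalgebra r K)
    (hsa : Cfsg.Geo.IsSelfAdjointFor (polar ⇑Q) K) :
    Cfsg.Geo.IsMaximalIn (Cfsg.Geo.omegaGL ⇑Q) (Cfsg.Geo.subalgebraNormalizer K ⊓ Cfsg.Geo.omegaGL ⇑Q) := by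
  obtain ⟨j, hj⟩ := hev
  refine isMaximalIn_extField hQ r hr h3 (fun _ => by omega) K hK hsa ?_
  intro E _ _ _ _ _ D M hE hO a ha b hb
  refine commutator_mem_four hO ?_ ha hb
  have h := Module.finrank_mul_finrank F E (ι → F)
  rw [hE, Module.finrank_fintype_fun_eq_card] at h
  by_contra hlt
  have := D.three_le
  rw [show Module.finrank E (ι → F) = 3 by omega] at h
  rcases hr.eq_two_or_odd with h2 | h2 <;> omega

end Cfsg.Agent.Lib.OrthExt
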