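import Cfsg.Agent.Lib.OrthExt.Data

/-!
Unipotent elements supported on one singular line, from elements stabilising the line without being semilinear on
it.
-/

set_option autoImplicit false

namespace Cfsg.Agent.Lib.OrthExt

open QuadraticMap Module Cfsg.Agent.Lib Cfsg.Agent.Lib.SympExt

variable {F E V : Type*} [Field F] [Field E] [Algebra F E] [AddCommGroup V] [Module F V] [Module E V]
  [IsScalarTower F E V] {Q : QuadraticForm F V} [Finite E] {D : ExtData E Q} {M : Subgroup (V ≃ₗ[F] V)}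

/-- The adjoint for the trace form. -/
noncomputable def tadj (τ : E →ₗ[F] E) : E →ₗ[F] E :=
  haveI : Finite F := finite_base (E := E)
  (LinearMap.BilinForm.toDual (Algebra.traceForm F E) traceForm_nd).symm.toLinearMap ∘ₗ τ.dualMap ∘ₗ
    (LinearMap.BilinForm.toDual (Algebra.traceForm F E) traceForm_nd).toLinearMap

theorem tadj_spec (τ : E →ₗ[F] E) (a e : E) :
    Algebra.trace F E (tadj τ a * e) = Algebra.trace F E (a * τ e) := by
  rw [← Algebra.traceForm_apply, ← Algebra.traceForm_apply, tadj]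
  simp only [LinearMap.comp_apply, LinearEquiv.coe_coe, LinearMap.BilinForm.apply_toDual_symm_apply,
    LinearMap.dualMap_apply, LinearMap.BilinForm.toDual_def]

theorem tadj_unique (τ : E →ₗ[F] E) {a b : E}
    (h : ∀ e, Algebra.trace F E (b * e) = Algebra.trace F E (a * τ e)) : tadj τ a = b :=
  eq_of_trace (F := F) fun e => by rw [mul_comm e, mul_comm e b, tadj_spec, h]

theorem tadj_mulLeft (s a : E) : tadj (LinearMap.mulLeft F s) a = s * a :=
  tadj_unique _ fun e => by rw [LinearMap.mulLeft_apply]; ring_nf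

theorem tadj_injective {τ : E →ₗ[F] E} (hτ : Function.Surjective τ) : Function.Injective (tadj τ) := by
  refine (injective_iff_map_eq_zero _).mpr fun a ha => eq_zero_of_trace (F := F) fun e => ?_
  obtain ⟨e', rfl⟩ := hτ e
  rw [mul_comm, ← tadj_spec, ha, zero_mul, map_zero]

/-- The rank two skew map of two scalars. -/
noncomputable def dec (p q : E) : E →ₗ[F] E :=
  ((Algebra.trace F E).comp (LinearMap.mulRight F q)).smulRight p
    - ((Algebra.trace F E).comp (LinearMap.mulRight F p)).smulRight q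

theorem dec_apply (p q a : E) :
    dec (F := F) p q a = Algebra.trace F E (a * q) • p - Algebra.trace F E (a * p) • q := rfl

variable (D M) in
/-- `x ↦ x + ψ (b(x, v)) • v` lies in the group. -/
def AltMem (v : V) (ψ : E →ₗ[F] E) : Prop := ∃ z ∈ M, ∀ x, z x = x + ψ (polar D.qE x v) • v

theorem altMem_zero (v : V) : AltMem D M v 0 := ⟨1, one_mem M, fun x => by simp⟩

theorem AltMem.add {v : V} (hv : D.qE v = 0) {ψ ψ' : E →ₗ[F] E} (h : AltMem D M v ψ) (h' : AltMem D M v ψ') :
    AltMem D M v (ψ + ψ') := by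
  obtain ⟨z, hz, ez⟩ := h
  obtain ⟨z', hz', ez'⟩ := h'
  refine ⟨z * z', mul_mem hz hz', fun x => ?_⟩
  rw [LinearEquiv.mul_apply, ez', ez, polar_add_left, polar_smul_left, polar_self', hv, LinearMap.add_apply,
    add_smul]
  simp only [smul_zero, add_zero, mul_zero]
  abel

theorem AltMem.neg {v : V} (hv : D.qE v = 0) {ψ : E →ₗ[F] E} (h : AltMem D M v ψ) : AltMem D M v (-ψ) := by
  obtain ⟨z, hz, ez⟩ := h
  refine ⟨z⁻¹, inv_mem hz, fun x => ?_⟩
  show z.symm x = _
  rw [LinearEquiv.symm_apply_eq, ez, LinearMap.neg_apply, polar_add_left, polar_smul_left, polar_self', hv]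
  simp

theorem AltMem.sub {v : V} (hv : D.qE v = 0) {ψ ψ' : E →ₗ[F] E} (h : AltMem D M v ψ) (h' : AltMem D M v ψ') :
    AltMem D M v (ψ - ψ') := by
  rw [sub_eq_add_neg]; exact h.add hv (h'.neg hv)

theorem AltMem.skew (hO : Over D M) {v : V} (hv : D.qE v = 0) (hv0 : v ≠ 0) {ψ : E →ₗ[F] E}
    (h : AltMem D M v ψ) (a e : E) :
    Algebra.trace F E (ψ a * e) + Algebra.trace F E (a * ψ e) = 0 := by
  obtain ⟨z, hz, ez⟩ := h
  obtain ⟨v', hv', hvv⟩ := D.ndE.exists_partner hv0 hv
  have hv'v : polar D.qE v' v = 1 := by rw [polar_comm, hvv]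
  have h := hO.iso_polar hz (a • v') (e • v')
  rw [ez, ez, D.polar_eq, D.polar_eq] at h
  simp only [polar_add_left, polar_add_right, polar_smul_left, polar_smul_right, polar_self', hv, hv', hvv, hv'v,
    smul_eq_mul, mul_one, mul_zero, add_zero, zero_add, map_zero] at h
  rw [← map_add]
  convert h using 2
  ring

variable {v : V} {n : V ≃ₗ[F] V} {τ : E →ₗ[F] E}

theorem tau_bij (hv0 : v ≠ 0) (hn : ∀ e : E, n (e • v) = τ e • v) : Function.Bijective τ := by
  have hi : Function.Injective τ := fun a b h =>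
    smul_left_injective E hv0 (n.injective (by rw [hn, hn, h]))
  exact ⟨hi, Finite.surjective_of_injective hi⟩

theorem symm_polar (hO : Over D M) (hnM : n ∈ M) (hn : ∀ e : E, n (e • v) = τ e • v) (x : V) :
    polar D.qE (n.symm x) v = tadj τ (polar D.qE x v) :=
  (tadj_unique τ fun e => by
    rw [mul_comm, D.trace_polar, D.adj]
    conv_lhs => rw [← hO.iso_polar hnM, n.apply_symm_apply, hn, ← D.adj]
    rw [← D.trace_polar, mul_comm]).symm

theorem perp_map (hO : Over D M) (hv0 : v ≠ 0) (hnM : n ∈ M) (hn : ∀ e : E, n (e • v) = τ e • v) {y : V}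
    (hy : polar D.qE y v = 0) : polar D.qE (n y) v = 0 := by
  apply tadj_injective (tau_bij hv0 hn).2
  rw [← symm_polar hO hnM hn, n.symm_apply_apply, hy, map_zero]

theorem symm_smul (hv0 : v ≠ 0) (hn : ∀ e : E, n (e • v) = τ e • v) (e : E) :
    ∃ e' : E, n.symm (e • v) = e' • v := by
  obtain ⟨e', rfl⟩ := (tau_bij hv0 hn).2 e
  exact ⟨e', by rw [← hn, n.symm_apply_apply]⟩

theorem AltMem.conj (hO : Over D M) (hnM : n ∈ M) (hn : ∀ e : E, n (e • v) = τ e • v) {ψ : E →ₗ[F] E}
    (h : AltMem D M v ψ) : AltMem D M v (τ ∘ₗ ψ ∘ₗ tadj τ) := by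
  obtain ⟨z, hz, ez⟩ := h
  refine ⟨n * z * n⁻¹, mul_mem (mul_mem hnM hz) (inv_mem hnM), fun x => ?_⟩
  show n (z (n.symm x)) = _
  rw [ez, map_add, hn, n.apply_symm_apply, symm_polar hO hnM hn]
  rfl

theorem AltMem.twist (hO : Over D M) (hv0 : v ≠ 0) (hv : D.qE v = 0) (t : Eˣ) {ψ : E →ₗ[F] E}
    (h : AltMem D M v ψ) :
    AltMem D M v (LinearMap.mulLeft F ((t : E) * t) ∘ₗ ψ ∘ₗ LinearMap.mulLeft F ((t : E) * t)) := by
  obtain ⟨v', hv', hvv⟩ := D.ndE.exists_partner hv0 hv
  have := h.conj hO (τ := LinearMap.mulLeft F ((t : E) * t)) (hO.tor_sq_mem hv hv' hvv t) fun e => by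
    rw [rs_apply, LinearEquiv.mul_apply, map_smul, tor_left, map_smul, map_smul, tor_left, smul_smul,
      smul_smul, LinearMap.mulLeft_apply]
    ring_nf
  rwa [show tadj (LinearMap.mulLeft F ((t : E) * t)) = LinearMap.mulLeft F ((t : E) * t) from
    LinearMap.ext (tadj_mulLeft _)] at this

/-- An element stabilising a line gives, by commutators, an element supported on the line, or its action on the
orthogonal quotient is tied to the adjoint of its action on the line. -/
theorem exists_alt_or (hO : Over D M) (hv0 : v ≠ 0) (hv : D.qE v = 0) (hnM : n ∈ M)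
    (hn : ∀ e : E, n (e • v) = τ e • v) :
    (∃ ψ, ψ ≠ 0 ∧ AltMem D M v ψ) ∨
      ∀ a : E, ∀ b b' : V, polar D.qE v b = 0 → polar D.qE v b' = 0 →
        polar D.qE (n (tadj τ a • b')) b = τ (polar D.qE (n.symm (a • b)) b') := by
  by_cases hall : ∀ a : E, ∀ b b' : V, polar D.qE v b = 0 → polar D.qE v b' = 0 →
      polar D.qE (n (tadj τ a • b')) b = τ (polar D.qE (n.symm (a • b)) b')
  · exact Or.inr hall
  left
  push Not at hall
  obtain ⟨a₀, b, b', hb, hb', hne⟩ := hall
  let ψ : E →ₗ[F] E :=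
    τ ∘ₗ (((QuadraticMap.polarBilin D.qE).flip b').restrictScalars F) ∘ₗ (n.symm : V →ₗ[F] V)
        ∘ₗ (LinearMap.toSpanSingleton E V b).restrictScalars F
      - ((QuadraticMap.polarBilin D.qE).flip b).restrictScalars F ∘ₗ (n : V →ₗ[F] V)
          ∘ₗ (LinearMap.toSpanSingleton E V b').restrictScalars F ∘ₗ tadj τ
  have hψ : ∀ a, ψ a = τ (polar D.qE (n.symm (a • b)) b') - polar D.qE (n (tadj τ a • b')) b := fun a => rfl
  refine ⟨ψ, fun h0 => hne (sub_eq_zero.mp (by rw [← hψ, h0]; rfl)).symm, ?_⟩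
  set R := rho D v b hv hb with hR
  set R₀ := rho D v b' hv hb' with hR₀
  set R' := n * R₀ * n⁻¹ with hR'
  have hbv : polar D.qE b v = 0 := by rw [polar_comm, hb]
  have hb'v : polar D.qE b' v = 0 := by rw [polar_comm, hb']
  have hvv : polar D.qE v v = 0 := by rw [polar_self', hv, mul_zero]
  have hsv : ∀ e, polar D.qE (n.symm (e • v)) b' = 0 := fun e => by
    obtain ⟨e', he'⟩ := symm_smul hv0 hn e
    rw [he', polar_smul_left, hb', smul_zero]
  have eR' : ∀ x, R' x = x + τ (polar D.qE (n.symm x) b') • v - n (tadj τ (polar D.qE x v) • b')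
      - τ (D.qE b' * tadj τ (polar D.qE x v)) • v := fun x => by
    show n (R₀ (n.symm x)) = _
    rw [hR₀, rho_apply, map_sub, map_sub, map_add, n.apply_symm_apply, hn, hn, symm_polar hO hnM hn]
  have hcv : ∀ e : E, polar D.qE (n (e • b')) v = 0 := fun e =>
    perp_map hO hv0 hnM hn (by rw [polar_smul_left, hb'v, smul_zero])
  have key : ∀ x, R (R' x) = R' (R x) + ψ (polar D.qE x v) • v ∧
      polar D.qE (R' (R x)) v = polar D.qE x v := fun x => by
    set a := polar D.qE x v with ha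
    have eRx : R x = x + polar D.qE x b • v - a • b - (D.qE b * a) • v := rho_apply ..
    have ha' : polar D.qE (R x) v = a := by
      rw [eRx]
      simp [polar_add_left, polar_sub_left, polar_smul_left, hvv, hbv, ha]
    have e2 : polar D.qE (n.symm (R x)) b' = polar D.qE (n.symm x) b' - polar D.qE (n.symm (a • b)) b' := by
      rw [eRx, map_sub, map_sub, map_add, polar_sub_left, polar_sub_left, polar_add_left, hsv, hsv, add_zero,
        sub_zero]
    constructor
    · rw [hR, rho_apply, eR', eR', ha', e2, eRx, hψ, τ.map_sub, ← ha]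
      simp only [polar_add_left, polar_sub_left, polar_smul_left, hvv, hb, hcv, smul_eq_mul, mul_zero, add_zero,
        sub_zero, ← ha]
      module
    · rw [eR', polar_sub_left, polar_sub_left, polar_add_left, hcv, ha']
      simp [polar_smul_left, hvv]
  have hRM : R ∈ M := hO.rho_mem _ _ _ _
  have hR'M : R' ∈ M := mul_mem (mul_mem hnM (hO.rho_mem _ _ _ _)) (inv_mem hnM)
  refine ⟨R * R' * R⁻¹ * R'⁻¹, mul_mem (mul_mem (mul_mem hRM hR'M) (inv_mem hRM)) (inv_mem hR'M), fun x => ?_⟩
  obtain ⟨x', rfl⟩ := R'.surjective x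
  obtain ⟨y, rfl⟩ := R.surjective x'
  show R (R' (R.symm (R'.symm (R' (R y))))) = _
  rw [R'.symm_apply_apply, R.symm_apply_apply, (key y).2]
  exact (key y).1

/-- An element whose action on a line is not semilinear gives an element supported on the line. -/
theorem exists_alt_or_semi (hO : Over D M) (hv0 : v ≠ 0) (hv : D.qE v = 0) (hnM : n ∈ M)
    (hn : ∀ e : E, n (e • v) = τ e • v) :
    (∃ ψ, ψ ≠ 0 ∧ AltMem D M v ψ) ∨
      ∃ σ : E → E, Function.Bijective σ ∧ (∀ a e, τ (σ a * e) = a * τ e) ∧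
        ∀ a b b', polar D.qE v b = 0 → polar D.qE v b' = 0 →
          polar D.qE (n (σ a • b')) b = a * polar D.qE (n b') b := by
  rcases exists_alt_or hO hv0 hv hnM hn with h | h
  · exact Or.inl h
  right
  set c₀ := tadj τ 1
  have hc₀ : c₀ ≠ 0 := fun e => one_ne_zero (α := E)
    (tadj_injective (tau_bij hv0 hn).2 (e.trans (map_zero _).symm))
  have hscale : ∀ a b b', polar D.qE v b = 0 → polar D.qE v b' = 0 →
      polar D.qE (n (tadj τ a • b')) b = a * polar D.qE (n (c₀ • b')) b := fun a b b' hb hb' => by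
    have h1 := h a b b' hb hb'
    have h2 := h 1 (a • b) b' (by rw [polar_smul_right, hb, smul_zero]) hb'
    rw [one_smul] at h2
    rw [h1, ← h2, polar_smul_right, smul_eq_mul]
  set σ : E → E := fun a => tadj τ a / c₀ with hσdef
  have hσ : ∀ a b b', polar D.qE v b = 0 → polar D.qE v b' = 0 →
      polar D.qE (n (σ a • b')) b = a * polar D.qE (n b') b := fun a b b' hb hb' => by
    have hb'' : polar D.qE v (c₀⁻¹ • b') = 0 := by rw [polar_smul_right, hb', smul_zero]
    have h1 := hscale a b _ hb hb''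
    rwa [smul_smul, smul_smul, mul_inv_cancel₀ hc₀, one_smul, ← div_eq_mul_inv] at h1
  have hσbij : Function.Bijective σ := by
    have hi : Function.Injective σ := fun a a' e => tadj_injective (tau_bij hv0 hn).2 (by
      simpa [hσdef, hc₀] using e)
    exact ⟨hi, Finite.surjective_of_injective hi⟩
  -- a vector of the orthogonal complement, seen by the element
  obtain ⟨b', hb', b, hb, hβ⟩ : ∃ b', polar D.qE v b' = 0 ∧ ∃ b, polar D.qE v b = 0 ∧
      polar D.qE (n b') b ≠ 0 := by
    haveI := D.finV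
    obtain ⟨v', hv', hvv⟩ := D.ndE.exists_partner hv0 hv
    obtain ⟨p, hp, hp0⟩ := Submodule.exists_mem_ne_zero_of_ne_bot (p := perp2 D.qE v v') fun e => by
      have := finrank_perp2 (q := D.qE) v v'
      rw [e, finrank_bot] at this
      have := D.three_le
      omega
    obtain ⟨q, hq, hpq⟩ := ndOn_perp2 D.ndE hv hv' hvv p hp hp0
    refine ⟨n.symm p, ?_, q, (mem_perp2.mp hq).1, by rwa [n.apply_symm_apply]⟩
    rw [polar_comm, symm_polar hO hnM hn, polar_comm D.qE p v, (mem_perp2.mp hp).1, map_zero]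
  have hmul : ∀ a a', σ (a * a') = σ a * σ a' := fun a a' => by
    have hb'' : polar D.qE v (σ a' • b') = 0 := by rw [polar_smul_right, hb', smul_zero]
    have h1 := hσ a b _ hb hb''
    rw [smul_smul, hσ a' b b' hb hb', ← mul_assoc, ← hσ (a * a') b b' hb hb'] at h1
    -- both sides act alike on the quotient
    by_contra hne
    apply hβ
    have hd0 : σ a * σ a' - σ (a * a') ≠ 0 := sub_ne_zero.mpr (Ne.symm hne)
    set d := σ a * σ a' - σ (a * a')
    obtain ⟨a'', ha''⟩ := hσbij.2 d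
    have h2 := hσ a'' b b' hb hb'
    rw [ha'', sub_smul, map_sub, polar_sub_left, h1, sub_self] at h2
    exact (mul_eq_zero.mp h2.symm).resolve_left fun e => hd0 (by
      rw [← ha'', e]; simp [hσdef])
  refine ⟨σ, hσbij, fun a e => eq_of_trace (F := F) fun x => ?_, hσ⟩
  have e1 : tadj τ (x * a) = tadj τ x * σ a := by
    have h1 := hmul x a
    simp only [hσdef] at h1
    rw [div_mul_div_comm, div_eq_div_iff hc₀ (mul_ne_zero hc₀ hc₀)] at h1
    simp only [hσdef]
    field_simp
    apply mul_right_cancel₀ hc₀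
    linear_combination h1
  rw [← tadj_spec, ← mul_assoc x a, ← tadj_spec, e1, mul_assoc]

/-- A transvection on a line gives an element supported on the line. -/
theorem exists_alt (hO : Over D M) (hv0 : v ≠ 0) (hv : D.qE v = 0) (hnM : n ∈ M) {x₀ : E} {f : E →ₗ[F] F}
    (hx₀ : x₀ ≠ 0) (hfx : f x₀ = 0) (hf : ∃ e, f e ≠ 0) (hn : ∀ e : E, n (e • v) = (e + f e • x₀) • v) :
    ∃ ψ, ψ ≠ 0 ∧ AltMem D M v ψ := by
  let τ : E →ₗ[F] E := LinearMap.id + f.smulRight x₀
  have hn' : ∀ e : E, n (e • v) = τ e • v := hn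
  rcases exists_alt_or_semi hO hv0 hv hnM hn' with h | ⟨σ, hσ, hτ, -⟩
  · exact h
  exfalso
  obtain ⟨e₁, he₁⟩ := hf
  -- the ring map moves nothing modulo the base
  have hd : ∀ a, ∃ c : F, σ a + algebraMap F E c = a := fun a => by
    refine ⟨f (σ a * x₀), ?_⟩
    have h := hτ a x₀
    change σ a * x₀ + f (σ a * x₀) • x₀ = a * (x₀ + f x₀ • x₀) at h
    rw [hfx, zero_smul, add_zero, Algebra.smul_def, ← add_mul] at h
    exact mul_right_cancel₀ hx₀ h
  choose c hc using hd
  have hmul : ∀ a a', σ (a * a') = σ a * σ a' := fun a a' => by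
    have h1 : τ (σ (a * a') * 1) = τ (σ a * σ a') := by
      rw [hτ, hτ, ← mul_one (σ a'), hτ, mul_assoc]
    simpa using (tau_bij hv0 hn').1 h1
  have hσid : ∀ a, σ a = a := fun a => by
    by_contra hne
    have hc0 : c a ≠ 0 := fun h0 => hne (by simpa [h0] using hc a)
    -- the element lies in the base field
    have e := hc (a * a)
    rw [hmul] at e
    have ha : IsF F a := by
      refine isF_iff.mpr ⟨(c a * c a + c (a * a)) / (2 * c a), ?_⟩
      have hc0' : algebraMap F E (c a) ≠ 0 := by simpa using hc0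
      rw [map_div₀, map_add, map_mul, map_mul, map_ofNat, div_eq_iff (mul_ne_zero D.two hc0')]
      linear_combination e - (σ a + a - algebraMap F E (c a)) * hc a
    obtain ⟨k, rfl⟩ := isF_iff.mp ha
    apply hne
    have h := hτ (algebraMap F E k) 1
    have h1 : τ (σ (algebraMap F E k)) = τ (algebraMap F E k) := by
      rw [mul_one] at h
      rw [h, Algebra.algebraMap_eq_smul_one, map_smul, smul_mul_assoc, one_mul]
    exact (tau_bij hv0 hn').1 h1
  have h := hτ e₁ 1
  rw [hσid, mul_one] at h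
  change e₁ + f e₁ • x₀ = e₁ * (1 + f 1 • x₀) at h
  have h' := hτ x₀ 1
  rw [hσid, mul_one] at h'
  change x₀ + f x₀ • x₀ = x₀ * (1 + f 1 • x₀) at h'
  rw [hfx, zero_smul, add_zero, mul_add, mul_one, left_eq_add, mul_eq_zero] at h'
  rw [h'.resolve_left hx₀, add_zero, mul_one, add_eq_left, smul_eq_zero] at h
  exact he₁ (h.resolve_right hx₀)

/-- In odd degree the values of the supported elements at a vector pair non-trivially with anything off it. -/
theorem exists_pairing_ne (hO : Over D M) (hodd : finrank F E ≠ 2) (hv0 : v ≠ 0) (hv : D.qE v = 0)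
    {ψ : E →ₗ[F] E} (hψ0 : ψ ≠ 0) (hψ : AltMem D M v ψ) {f₀ e : E} (hf₀ : f₀ ≠ 0)
    (hef : e ∉ Submodule.span F ({f₀} : Set E)) :
    ∃ ψ', AltMem D M v ψ' ∧ Algebra.trace F E (ψ' f₀ * e) ≠ 0 := by
  by_contra hno
  push Not at hno
  have hε : ¬ IsF F (e / f₀) := fun h => hef (by
    obtain ⟨c, hc⟩ := isF_iff.mp h
    exact Submodule.mem_span_singleton.mpr ⟨c, by rw [Algebra.smul_def, hc, div_mul_cancel₀ _ hf₀]⟩)
  set ε := e / f₀ with hεdef
  -- the twisted values vanish
  have hsq : ∀ h : E, Algebra.trace F E (ψ h * (ε * h)) = 0 := fun h => by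
    obtain ⟨c, hc, t, ht⟩ := exists_smul_isSquare D.prime D.two hodd (h / f₀)
    by_cases ht0 : t = 0
    · have : h = 0 := by
        rw [ht0, mul_zero, mul_eq_zero, div_eq_zero_iff] at ht
        simpa [hc, hf₀] using ht
      simp [this]
    have h0 : Algebra.trace F E (t * t * ψ (t * t * f₀) * e) = 0 :=
      hno _ (hψ.twist hO hv0 hv (Units.mk0 t ht0))
    rw [← ht, show algebraMap F E c * (h / f₀) * f₀ = c • h by
      rw [Algebra.smul_def]; field_simp, show algebraMap F E c * (h / f₀) * ψ (c • h) * e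
        = (c * c) • (ψ h * (ε * h)) by
          rw [ψ.map_smul, Algebra.smul_def, Algebra.smul_def, map_mul, hεdef]; field_simp,
      (Algebra.trace F E).map_smul, smul_eq_zero] at h0
    exact h0.resolve_left (mul_ne_zero hc hc)
  have hcomm : ∀ a, ψ (ε * a) = ε * ψ a := fun a => eq_of_trace (F := F) fun b => by
    have h1 := hsq (a + b)
    rw [map_add, mul_add, mul_add, add_mul, add_mul, map_add, map_add, map_add, hsq a, hsq b] at h1
    have h2 := hψ.skew hO hv hv0 b (ε * a)
    rw [show ψ a * (ε * b) = b * (ε * ψ a) by ring] at h1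
    linear_combination h2 - h1
  have hlin : ∀ a, ψ a = a * ψ 1 := fun a => by
    let A : Subalgebra F E :=
      { carrier := {a | ∀ b, ψ (a * b) = a * ψ b}
        mul_mem' := fun {x y} hx hy b => by rw [mul_assoc, hx, hy, mul_assoc]
        add_mem' := fun {x y} hx hy b => by rw [add_mul, map_add, hx, hy, add_mul]
        algebraMap_mem' := fun c b => by rw [← Algebra.smul_def, ψ.map_smul, Algebra.smul_def] }
    have hle : Algebra.adjoin F ({ε} : Set E) ≤ A := Algebra.adjoin_le fun y hy => by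
      rw [Set.mem_singleton_iff] at hy; subst hy; exact hcomm
    rw [adjoin_eq_top D.prime hε] at hle
    simpa using hle (Algebra.mem_top : a ∈ ⊤) 1
  refine hψ0 (LinearMap.ext fun a => ?_)
  rw [hlin a, eq_zero_of_trace_sq (F := F) D.two (x := ψ 1) fun b => ?_, mul_zero, LinearMap.zero_apply]
  have h := hψ.skew hO hv hv0 b b
  rw [hlin b, show b * ψ 1 * b = b * b * ψ 1 by ring, ← mul_assoc b b, ← two_mul, mul_eq_zero] at h
  exact h.resolve_left D.nd.two

/-- In odd degree the values of the supported elements at a vector are not all on one line. -/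
theorem exists_apply_not_mem (hO : Over D M) (hodd : finrank F E ≠ 2) (hv0 : v ≠ 0) (hv : D.qE v = 0)
    {ψ : E →ₗ[F] E} (hψ0 : ψ ≠ 0) (hψ : AltMem D M v ψ) {f₀ : E} (hf₀ : f₀ ≠ 0) (x₀ : E) :
    ∃ ψ', AltMem D M v ψ' ∧ ψ' f₀ ∉ Submodule.span F ({x₀} : Set E) := by
  haveI := D.finE
  let L : E →ₗ[F] F := (Algebra.trace F E).comp (LinearMap.mulLeft F x₀)
  obtain ⟨e, ⟨he, hef⟩⟩ : ∃ e, e ∈ LinearMap.ker L ∧ e ∉ Submodule.span F ({f₀} : Set E) := by
    by_contra h
    push Not at h
    have h1 := finrank_ker_le L (⊤ : Submodule F E)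
    rw [top_inf_eq, finrank_top] at h1
    have h2 := Submodule.finrank_mono (show LinearMap.ker L ≤ Submodule.span F ({f₀} : Set E) from h)
    rw [finrank_span_singleton hf₀] at h2
    have := D.prime.two_le
    omega
  obtain ⟨ψ', hψ', hne⟩ := exists_pairing_ne hO hodd hv0 hv hψ0 hψ hf₀ hef
  refine ⟨ψ', hψ', fun hm => hne ?_⟩
  obtain ⟨k, hk⟩ := Submodule.mem_span_singleton.mp hm
  rw [← hk, smul_mul_assoc, (Algebra.trace F E).map_smul, show Algebra.trace F E (x₀ * e) = 0 from he,
    smul_zero]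

/-- In odd degree a transvection on a line gives a long root element supported on it. -/
theorem exists_dec (hO : Over D M) (hodd : finrank F E ≠ 2) (hv0 : v ≠ 0) (hv : D.qE v = 0) (hnM : n ∈ M)
    {x₀ : E} {f : E →ₗ[F] F} (hx₀ : x₀ ≠ 0) (hfx : f x₀ = 0) (hf : ∃ e, f e ≠ 0)
    (hn : ∀ e : E, n (e • v) = (e + f e • x₀) • v) :
    ∃ p, p ∉ Submodule.span F ({x₀} : Set E) ∧ AltMem D M v (dec p x₀) := by
  obtain ⟨ψ₀, hψ₀0, hψ₀⟩ := exists_alt hO hv0 hv hnM hx₀ hfx hf hn
  obtain ⟨f₀, hf₀⟩ := exists_trace_eq f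
  have hf₀0 : f₀ ≠ 0 := fun e => by
    obtain ⟨e₁, he₁⟩ := hf
    exact he₁ (by rw [← hf₀, e, zero_mul, map_zero])
  obtain ⟨ψ, hψ, hp⟩ := exists_apply_not_mem hO hodd hv0 hv hψ₀0 hψ₀ hf₀0 x₀
  refine ⟨ψ f₀, hp, ?_⟩
  let τ : E →ₗ[F] E := LinearMap.id + f.smulRight x₀
  have hadj : ∀ a, tadj τ a = a + Algebra.trace F E (a * x₀) • f₀ := fun a => tadj_unique τ fun e => by
    show _ = Algebra.trace F E (a * (e + f e • x₀))
    rw [add_mul, map_add, smul_mul_assoc, (Algebra.trace F E).map_smul, hf₀, mul_add, map_add, mul_smul_comm,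
      (Algebra.trace F E).map_smul, smul_eq_mul, smul_eq_mul, mul_comm (f e)]
  have h := (hψ.conj hO hnM (τ := τ) hn).sub hv hψ
  convert h using 1
  refine LinearMap.ext fun a => ?_
  have h0 : f (ψ f₀) = 0 := by
    have := hψ.skew hO hv hv0 f₀ f₀
    rw [mul_comm (ψ f₀), ← two_mul, mul_eq_zero] at this
    rw [← hf₀]; exact this.resolve_left D.nd.two
  have h1 : f (ψ a) = -Algebra.trace F E (a * ψ f₀) := by
    have := hψ.skew hO hv hv0 a f₀
    rw [← hf₀, mul_comm f₀]
    linear_combination this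
  rw [LinearMap.sub_apply, LinearMap.comp_apply, LinearMap.comp_apply, hadj, ψ.map_add, ψ.map_smul, dec_apply]
  show _ = ψ a + _ • ψ f₀ + f (ψ a + _ • ψ f₀) • x₀ - ψ a
  rw [f.map_add, f.map_smul, h0, h1, smul_zero, add_zero, neg_smul]
  abel

end Cfsg.Agent.Lib.OrthExt
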