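import Cfsg.Agent.Lib.OrthExt.Start

/-!
Images of singular lines meeting singular lines: from one intersection to one in a hyperplane, and a transvection
on a line.
-/

set_option autoImplicit false

namespace Cfsg.Agent.Lib.OrthExt

open QuadraticMap Module Cfsg.Agent.Lib Cfsg.Agent.Lib.SympExt

variable {F E V : Type*} [Field F] [Field E] [Algebra F E] [AddCommGroup V] [Module F V] [Module E V]
  [IsScalarTower F E V] {Q : QuadraticForm F V} [Finite E] {D : ExtData E Q} {M : Subgroup (V ≃ₗ[F] V)}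

/-- The image of a singular line meets another one, without being equal to it, in dimension at least `s`. -/
structure Conf (D : ExtData E Q) (M : Subgroup (V ≃ₗ[F] V)) (g : V ≃ₗ[F] V) (v w : V) (s : ℕ) : Prop where
  hg : g ∈ M
  hv0 : v ≠ 0
  hv : D.qE v = 0
  hw0 : w ≠ 0
  hw : D.qE w = 0
  ne : img E g v ≠ ln E w
  le : s ≤ finrank F ↥(img E g v ⊓ ln E w)

/-- The image has a vector orthogonal to the second line and outside it. -/
def Good (D : ExtData E Q) (g : V ≃ₗ[F] V) (v w : V) : Prop :=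
  ∃ y ∈ img E g v, y ∉ ln (F := F) E w ∧ polar D.qE w y = 0

/-- Some configuration meets in dimension at least `s`. -/
def HasConf (D : ExtData E Q) (M : Subgroup (V ≃ₗ[F] V)) (s : ℕ) : Prop :=
  ∃ g v w, Conf D M g v w s

theorem HasConf.mono {s t : ℕ} (h : HasConf D M s) (ht : t ≤ s) : HasConf D M t := by
  obtain ⟨g, v, w, C⟩ := h
  exact ⟨g, v, w, C.hg, C.hv0, C.hv, C.hw0, C.hw, C.ne, ht.trans C.le⟩

theorem hasConf_of_inter {v : V} (hv0 : v ≠ 0) (hv : D.qE v = 0) {s : ℕ}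
    (h : ∃ g' ∈ M, img E g' v ≠ ln E v ∧ s ≤ finrank F ↥(img E g' v ⊓ ln E v)) : HasConf D M s := by
  obtain ⟨g', hg', hne, hle⟩ := h
  exact ⟨g', v, v, hg', hv0, hv, hv0, hv, hne, hle⟩

theorem hasConf_one (hO : Over D M) : HasConf D M 1 := by
  haveI := D.finE
  haveI := D.finVF
  obtain ⟨g, hg, v, hv0, hv, hgv, hne⟩ := exists_config hO
  have hgv0 : g v ≠ 0 := fun e => hv0 (by simpa using e)
  refine ⟨g, v, g v, hg, hv0, hv, hgv0, hgv, hne, Submodule.one_le_finrank_iff.mpr fun h => hgv0 ?_⟩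
  have hm : g v ∈ img E g v ⊓ ln E (g v) := ⟨⟨v, self_mem_ln v, rfl⟩, self_mem_ln _⟩
  rw [h] at hm
  simpa using hm

theorem Conf.hF {g : V ≃ₗ[F] V} {v w : V} {s : ℕ} (_C : Conf D M g v w s) : FiniteDimensional F V := D.finVF

theorem Conf.inter_ne_bot {g : V ≃ₗ[F] V} {v w : V} {s : ℕ} (C : Conf D M g v w s) (hs : 1 ≤ s) :
    ∃ x ∈ img E g v ⊓ ln E w, x ≠ 0 :=
  Submodule.exists_mem_ne_zero_of_ne_bot fun e => by
    have h := C.le
    rw [e, finrank_bot] at h
    omega

theorem Conf.inter_lt {g : V ≃ₗ[F] V} {v w : V} {s : ℕ} (C : Conf D M g v w s) :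
    finrank F ↥(img E g v ⊓ ln E w) < finrank F E :=
  haveI := C.hF
  finrank_inter_lt C.hv0 C.hw0 C.ne

theorem Conf.not_le {g : V ≃ₗ[F] V} {v w : V} {s : ℕ} (C : Conf D M g v w s) :
    ∃ y ∈ img E g v, y ∉ ln (F := F) E w := by
  haveI := C.hF
  by_contra h
  push Not at h
  exact C.ne (Submodule.eq_of_le_of_finrank_le (fun y hy => h y hy)
    (by rw [finrank_img g C.hv0, finrank_ln C.hw0]))

theorem polar_inter_zero {g : V ≃ₗ[F] V} {v w x : V} (hw : D.qE w = 0) (hx : x ∈ img E g v ⊓ ln E w) :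
    polar D.qE w x = 0 := by
  obtain ⟨e, rfl⟩ := hx.2
  show polar D.qE w (e • w) = 0
  rw [polar_smul_right, polar_self', hw]; simp

/-- An element keeping the intersection and producing a vector orthogonal to the image gives a good
configuration. -/
theorem exists_good (hO : Over D M) {g : V ≃ₗ[F] V} {v w : V} {s : ℕ} (C : Conf D M g v w s) {h : V ≃ₗ[F] V}
    (hh : h ∈ M) (hfix : ∀ x ∈ img E g v ⊓ ln E w, h x = x) {y : V} (hy : y ∈ img E g v)
    (hhy : h y ∉ img E g v) (hperp : ∀ z ∈ img E g v, polar Q z (h y) = 0) :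
    ∃ g', Conf D M g' v v s ∧ Good D g' v v := by
  haveI := C.hF
  obtain ⟨u, hu, rfl⟩ := hy
  refine ⟨g⁻¹ * h * g, ⟨mul_mem (mul_mem (inv_mem C.hg) hh) C.hg, C.hv0, C.hv, C.hv0, C.hv, fun e => ?_, ?_⟩,
    (g⁻¹ * h * g) u, ⟨u, hu, rfl⟩, fun hm => hhy ?_, ?_⟩
  · apply hhy
    have h1 : (g⁻¹ * h * g) u ∈ ln (F := F) E v := e ▸ ⟨u, hu, rfl⟩
    exact ⟨_, h1, g.apply_symm_apply _⟩
  · refine C.le.trans ?_
    have hle : (img E g v ⊓ ln E w).map ((g⁻¹ : V ≃ₗ[F] V) : V →ₗ[F] V)
        ≤ img E (g⁻¹ * h * g) v ⊓ ln E v := by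
      rintro _ ⟨x, hx, rfl⟩
      obtain ⟨u', hu', rfl⟩ := hx.1
      refine ⟨⟨u', hu', ?_⟩, ?_⟩
      · show g⁻¹ (h (g u')) = g⁻¹ (g u')
        rw [show h (g u') = g u' from hfix _ hx]
      · show g.symm (g u') ∈ _
        rwa [g.symm_apply_apply]
    have := Submodule.finrank_mono hle
    rwa [LinearEquiv.finrank_map_eq] at this
  · exact ⟨_, hm, g.apply_symm_apply _⟩
  · refine eq_zero_of_trace (F := F) fun e => ?_
    rw [D.trace_polar, ← hO.iso_polar C.hg]
    have e' : g ((g⁻¹ * h * g) u) = h (g u) := g.apply_symm_apply _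
    rw [e']
    exact hperp _ ⟨e • v, smul_mem_ln e v, rfl⟩

/-- If the image is orthogonal to the second line, shears increase the intersection. -/
theorem perp_step (hO : Over D M) {g : V ≃ₗ[F] V} {v w : V} {s : ℕ} (C : Conf D M g v w s) (hs : 1 ≤ s)
    (hlt : finrank F ↥(img E g v ⊓ ln E w) + 1 < finrank F E) (hperp : ∀ y ∈ img E g v, polar D.qE w y = 0) :
    HasConf D M (finrank F ↥(img E g v ⊓ ln E w) + 1) := by
  haveI := C.hF
  haveI := D.finV
  obtain ⟨y₀, hy₀, hy₀w⟩ := C.not_le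
  have hy₀S : y₀ ∉ Submodule.span E ({w} : Set V) := fun h => by
    obtain ⟨e, he⟩ := Submodule.mem_span_singleton.mp h
    exact hy₀w ⟨e, he⟩
  obtain ⟨b, hbS, hby⟩ := D.ndE.exists_sep hy₀S
  have hbw : polar D.qE b w = 0 := hbS w (Submodule.mem_span_singleton_self w)
  have hwab : ∀ a : E, polar D.qE w (a • b) = 0 := fun a => by
    rw [polar_smul_right, polar_comm D.qE w b, hbw, smul_zero]
  refine hasConf_of_inter C.hv0 C.hv (inter_step' D.prime C.hg C.hv0 C.hw0 C.ne (lt_of_lt_of_le hs C.le) hlt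
    ((QuadraticMap.polarBilin D.qE b).restrictScalars F) ?_ hy₀ (by simp [hby])
    (fun a => rho D w (a • b) C.hw (hwab a)) (fun a => hO.rho_mem _ _ _ _) ?_ ?_)
  · intro x hx
    obtain ⟨e, rfl⟩ := hx.2
    show polar D.qE b (e • w) = 0
    rw [polar_smul_right, hbw, smul_zero]
  · intro a x hx
    obtain ⟨e, rfl⟩ := hx.2
    refine rho_fix D C.hw (hwab a) ?_ ?_
    · show polar D.qE (e • w) (a • b) = 0
      rw [polar_smul_left, hwab, smul_zero]
    · show polar D.qE (e • w) w = 0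
      rw [polar_smul_left, polar_self', C.hw]; simp
  · intro a y hy
    have h0 : polar D.qE y w = 0 := by rw [polar_comm]; exact hperp y hy
    rw [rho_apply, h0, polar_smul_right, polar_comm D.qE y b]
    simp

/-- The partner of `w` in the plane of `w` and `y`. -/
noncomputable def partner (D : ExtData E Q) (w y : V) : V :=
  (polar D.qE w y)⁻¹ • (y - (D.qE y / polar D.qE w y) • w)

theorem partner_spec {w y : V} (hw : D.qE w = 0) (hwy : polar D.qE w y ≠ 0) :
    D.qE (partner D w y) = 0 ∧ polar D.qE w (partner D w y) = 1 ∧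
      y = (D.qE y / polar D.qE w y) • w + polar D.qE w y • partner D w y := by
  refine ⟨?_, ?_, ?_⟩
  · rw [partner, QuadraticMap.map_smul, sub_eq_add_neg, ← neg_smul, QuadraticMap.map_add (⇑D.qE),
      QuadraticMap.map_smul, hw, polar_smul_right, polar_comm D.qE y w]
    simp only [smul_eq_mul, mul_zero, add_zero]
    field_simp
    ring
  · rw [partner, polar_smul_right, polar_sub_right, polar_smul_right, polar_self', hw]
    simp [hwy]
  · rw [partner, smul_smul, mul_inv_cancel₀ hwy, one_smul]; abel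

/-- A vector of the image off the plane of `w` and `y₁` gives a larger intersection. -/
theorem off_plane_step (hO : Over D M) (hk : 4 ≤ finrank E V) (hr3 : finrank F E ≠ 2) {g : V ≃ₗ[F] V} {v w : V} {s : ℕ}
    (C : Conf D M g v w s) (hs : 1 ≤ s) {y₁ : V} (hy₁ : y₁ ∈ img E g v) (h₁ : polar D.qE w y₁ ≠ 0)
    {y₂ : V} (hy₂ : y₂ ∈ img E g v)
    (h₂ : ∀ α β : E, y₂ ≠ α • w + β • partner D w y₁) :
    HasConf D M (finrank F ↥(img E g v ⊓ ln E w) + 1) := by
  haveI := C.hF
  haveI := D.finV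
  obtain ⟨hw', hww, hy₁e⟩ := partner_spec C.hw h₁
  set w' := partner D w y₁
  set P := perp2 D.qE w w' with hP
  have hPnd : NdOn D.qE P := ndOn_perp2 D.ndE C.hw hw' hww
  have hd : finrank E V ≤ finrank E P + 2 := finrank_perp2 w w'
  by_cases hmove : ∃ a ∈ P, ∃ b ∈ P, ∃ (ha : D.qE a ≠ 0) (hb : D.qE b ≠ 0),
      ∃ y' ∈ img E g v, rot D a b ha hb y' ∉ img E g v
  · obtain ⟨a, haP, b, hbP, ha, hb, y', hy', hy''⟩ := hmove
    obtain ⟨ha1, ha2⟩ := mem_perp2.mp haP
    obtain ⟨hb1, hb2⟩ := mem_perp2.mp hbP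
    have hfix1 : rot D a b ha hb y₁ = y₁ := by
      rw [hy₁e]
      refine rot_fix D ha hb ?_ ?_ <;> simp [polar_add_left, polar_smul_left, ha1, ha2, hb1, hb2]
    refine hasConf_of_inter C.hv0 C.hv (inter_shift' C.hg (hO.refl_sq_mem ha hb) inf_le_left ?_ hy₁
      (hfix1.symm ▸ hy₁) (fun h => h₁ (polar_inter_zero C.hw h)) hy' hy'')
    intro x hx
    obtain ⟨e, he⟩ := hx.2
    change e • w = x at he
    subst he
    rw [show rs (refl D.qE a ha * refl D.qE b hb * (refl D.qE a ha * refl D.qE b hb)) = rot D a b ha hb from rfl,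
      rot_fix D ha hb (by simp [polar_smul_left, ha1]) (by simp [polar_smul_left, hb1])]
    exact hx.1
  push Not at hmove
  exfalso
  have hproj := proj_mem_perp2 C.hw hw' hww y₂
  set p₂ := y₂ - polar D.qE y₂ w' • w - polar D.qE y₂ w • w' with hp₂
  have hp0 : p₂ ≠ 0 := fun e => h₂ (polar D.qE y₂ w') (polar D.qE y₂ w) (by
    rw [hp₂, sub_sub, sub_eq_zero] at e; exact e)
  obtain ⟨p', hp', hpp⟩ := hPnd p₂ hproj hp0
  have hup : polar D.qE y₂ p' ≠ 0 := by
    obtain ⟨h1, h1'⟩ := mem_perp2.mp hp'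
    intro h
    apply hpp
    rw [hp₂, polar_sub_left, polar_sub_left, polar_smul_left, polar_smul_left, h, h1, h1']
    simp
  obtain ⟨p, hp, hp0', hline⟩ := exists_line D hPnd (by omega)
    (fun h2 => absurd h2 hr3) hmove hy₂ hp' hup
  have hle : ln E p ≤ img E g v := by rintro _ ⟨e, rfl⟩; exact hline e
  have he := Submodule.eq_of_le_of_finrank_le hle (by rw [finrank_img g C.hv0, finrank_ln hp0'])
  obtain ⟨x, hx, hx0⟩ := C.inter_ne_bot hs
  obtain ⟨e, rfl⟩ := hx.2
  obtain ⟨f, hf⟩ := (he.ge hx.1 : _ ∈ ln (F := F) E p)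
  have h := congrArg (polar D.qE w') (show f • p = e • w from hf)
  obtain ⟨-, hp2⟩ := mem_perp2.mp hp
  rw [polar_smul_right, hp2, polar_smul_right, polar_comm D.qE w' w, hww] at h
  simp only [smul_zero, smul_eq_mul, mul_one] at h
  exact hx0 (by simp [← h])

/-- Values in a multiple of a given one are represented orthogonally to a hyperbolic pair. -/
theorem exists_perp2_value (D : ExtData E Q) {w w' : V} (hw : D.qE w = 0) (hw' : D.qE w' = 0)
    (hww : polar D.qE w w' = 1) {z : E} (hz : z ≠ 0) :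
    ∃ b ∈ perp2 D.qE w w', ∃ c : F, c ≠ 0 ∧ D.qE b = algebraMap F E c * z := by
  haveI := D.finV
  have hP := ndOn_perp2 D.ndE hw hw' hww
  have hd := finrank_perp2 (q := D.qE) w w'
  by_cases hd2 : 2 ≤ finrank E (perp2 D.qE w w')
  · obtain ⟨b, hb, -, hbq⟩ := hP.exists_value D.two hd2 hz
    exact ⟨b, hb, 1, one_ne_zero, by rw [map_one, one_mul, hbq]⟩
  have hodd : finrank F E ≠ 2 := fun h => by have := (D.seven_le h).1; omega
  obtain ⟨x, hx, hx0⟩ := Submodule.exists_mem_ne_zero_of_ne_bot (p := perp2 D.qE w w') fun e => by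
    rw [e, finrank_bot] at hd
    have := D.three_le
    omega
  obtain ⟨y, hy, hxy⟩ := hP x hx hx0
  obtain ⟨a, ha, haq, -⟩ := hP.exists_anis D.two hy hxy
  obtain ⟨c, hc, t, ht⟩ := exists_smul_isSquare D.prime D.two hodd (z / D.qE a)
  refine ⟨t • a, Submodule.smul_mem _ t ha, c, hc, ?_⟩
  rw [QuadraticMap.map_smul, smul_eq_mul, ← ht]
  field_simp

/-- A configuration inside a hyperbolic plane gives a good one. -/
theorem plane_good (hO : Over D M) {g : V ≃ₗ[F] V} {v w : V} {s : ℕ} (C : Conf D M g v w s) (hs : 1 ≤ s)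
    {y₀ : V} (hy₀ : y₀ ∈ img E g v) (h₀ : polar D.qE w y₀ ≠ 0)
    (hall : ∀ y ∈ img E g v, ∃ α β : E, y = α • w + β • partner D w y₀) :
    ∃ g', Conf D M g' v v s ∧ Good D g' v v := by
  haveI := C.hF
  haveI := D.finE
  obtain ⟨hw', hww, -⟩ := partner_spec C.hw h₀
  set w' := partner D w y₀
  let L : V →ₗ[F] E :=
    (LinearMap.mulLeft F (polar D.qE w y₀)).comp ((QuadraticMap.polarBilin D.qE w).restrictScalars F)
  have hlt : finrank F ((img E g v).map L) < finrank F E := by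
    have h1 := (L.comp (img E g v).subtype).finrank_range_add_finrank_ker
    rw [LinearMap.range_comp, Submodule.range_subtype, finrank_img g C.hv0] at h1
    obtain ⟨x, hx, hx0⟩ := C.inter_ne_bot hs
    have h2 : 1 ≤ finrank F (LinearMap.ker (L.comp (img E g v).subtype)) :=
      Submodule.one_le_finrank_iff.mpr fun e => hx0 (by
        have hm : (⟨x, hx.1⟩ : img E g v) ∈ LinearMap.ker (L.comp (img E g v).subtype) := by
          show polar D.qE w y₀ * polar D.qE w x = 0
          rw [polar_inter_zero C.hw hx, mul_zero]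
        rw [e] at hm
        simpa using hm)
    omega
  obtain ⟨z, hz, hzperp⟩ := exists_trace_perp hlt
  obtain ⟨b, hb, c, hc, hbq⟩ := exists_perp2_value D C.hw hw' hww hz
  obtain ⟨hb1, hb2⟩ := mem_perp2.mp hb
  have hbq0 : D.qE b ≠ 0 := by
    rw [hbq]; exact mul_ne_zero (by simpa using hc) hz
  have horth : ∀ y ∈ img E g v, polar D.qE y b = 0 := fun y hy => by
    obtain ⟨α, β, rfl⟩ := hall y hy
    simp [polar_add_left, polar_smul_left, hb1, hb2]
  have himg : rho D w b C.hw hb1 y₀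
      = y₀ - polar D.qE w y₀ • b - (D.qE b * polar D.qE w y₀) • w := by
    rw [rho_apply, horth y₀ hy₀, polar_comm D.qE y₀ w, zero_smul, add_zero]
  refine exists_good hO C (hO.rho_mem w b C.hw hb1) (fun x hx => ?_) hy₀ (fun h => ?_) fun y hy => ?_
  · refine rho_fix D C.hw hb1 (horth x hx.1) ?_
    rw [polar_comm]; exact polar_inter_zero C.hw hx
  · have e := horth _ h
    rw [himg, polar_sub_left, polar_sub_left, polar_smul_left, polar_smul_left, horth y₀ hy₀, hb1,
      polar_self'] at e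
    simp only [smul_eq_mul, mul_zero, sub_zero, zero_sub, neg_eq_zero, mul_eq_zero, h₀, D.two, hbq0,
      or_self] at e
  · rw [himg, polar_sub_right, polar_sub_right, img_polar hO C.hg C.hv hy hy₀, D.polar_eq y (_ • b),
      D.polar_eq y (_ • w), polar_smul_right, horth y hy, smul_zero, map_zero, sub_zero, zero_sub,
      neg_eq_zero, polar_smul_right, polar_comm D.qE y w, hbq, smul_eq_mul, mul_assoc, mul_assoc,
      ← Algebra.smul_def, (Algebra.trace F E).map_smul]
    have h := hzperp _ ⟨y, hy, rfl⟩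
    change Algebra.trace F E (z * (polar D.qE w y₀ * polar D.qE w y)) = 0 at h
    rw [h, smul_zero]

theorem good_step_four (hO : Over D M) (hk : 4 ≤ finrank E V) {g : V ≃ₗ[F] V} {v w : V} {s : ℕ}
    (C : Conf D M g v w s) (hs : 1 ≤ s) (hlt : finrank F ↥(img E g v ⊓ ln E w) + 1 < finrank F E)
    (hG : Good D g v w) : HasConf D M (finrank F ↥(img E g v ⊓ ln E w) + 1) := by
  obtain ⟨y, hy, hyw, hwy⟩ := hG
  by_cases hperp : ∀ y ∈ img E g v, polar D.qE w y = 0
  · exact perp_step hO C hs hlt hperp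
  push Not at hperp
  obtain ⟨y₁, hy₁, h₁⟩ := hperp
  obtain ⟨-, hww, -⟩ := partner_spec C.hw h₁
  refine off_plane_step hO hk (fun h => by have := C.le; omega) C hs hy₁ h₁ hy fun α β e => hyw ⟨α, ?_⟩
  show α • w = y
  have hβ : β = 0 := by
    rw [e, polar_add_right, polar_smul_right, polar_smul_right, polar_self', C.hw, hww] at hwy
    simpa using hwy
  rw [e, hβ, zero_smul, add_zero]

/-- In dimension at least four every intersection below a hyperplane can be increased. -/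
theorem step_four (hO : Over D M) (hk : 4 ≤ finrank E V) {s : ℕ} (hs : 1 ≤ s) (hsr : s + 1 < finrank F E)
    (h : HasConf D M s) : HasConf D M (s + 1) := by
  obtain ⟨g, v, w, C⟩ := h
  by_cases hbig : s + 1 ≤ finrank F ↥(img E g v ⊓ ln E w)
  · exact ⟨g, v, w, C.hg, C.hv0, C.hv, C.hw0, C.hw, C.ne, hbig⟩
  have hX : finrank F ↥(img E g v ⊓ ln E w) = s := le_antisymm (by omega) C.le
  by_cases hperp : ∀ y ∈ img E g v, polar D.qE w y = 0
  · exact hX ▸ perp_step hO C hs (by omega) hperp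
  push Not at hperp
  obtain ⟨y₁, hy₁, h₁⟩ := hperp
  by_cases hall : ∀ y ∈ img E g v, ∃ α β : E, y = α • w + β • partner D w y₁
  swap
  · push Not at hall
    obtain ⟨y₂, hy₂, h₂⟩ := hall
    exact hX ▸ off_plane_step hO hk (fun h => by omega) C hs hy₁ h₁ hy₂ h₂
  obtain ⟨g', C', hG⟩ := plane_good hO C hs hy₁ h₁ hall
  by_cases hbig' : s + 1 ≤ finrank F ↥(img E g' v ⊓ ln E v)
  · exact ⟨g', v, v, C'.hg, C'.hv0, C'.hv, C'.hw0, C'.hw, C'.ne, hbig'⟩
  have hX' : finrank F ↥(img E g' v ⊓ ln E v) = s := le_antisymm (by omega) C'.le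
  exact hX' ▸ good_step_four hO hk C' hs (by omega) hG

/-- The intersection reaches a hyperplane, given a step. -/
theorem hasConf_hyperplane (hO : Over D M)
    (hstep : ∀ s, 1 ≤ s → s + 1 < finrank F E → HasConf D M s → HasConf D M (s + 1)) :
    ∀ s, s < finrank F E → HasConf D M s := by
  intro s hs
  by_cases h0 : s = 0
  · exact (hasConf_one hO).mono (by omega)
  have h1 : 1 ≤ s := by omega
  clear h0
  induction s, h1 using Nat.le_induction with
  | base => exact hasConf_one hO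
  | succ n hn ih => exact hstep n hn hs (ih (by omega))

/-- A configuration with a hyperplane may be taken orthogonal. -/
theorem exists_perp_hyperplane (hO : Over D M) (h : HasConf D M (finrank F E - 1)) :
    ∃ g v w, Conf D M g v w (finrank F E - 1) ∧ ∀ y ∈ img E g v, polar D.qE w y = 0 := by
  obtain ⟨g, v, w, C⟩ := h
  haveI := C.hF
  have hr := D.prime.two_le
  -- every element is in the intersection plus a line
  have hdec : ∀ {g : V ≃ₗ[F] V} {v w : V}, Conf D M g v w (finrank F E - 1) → ∀ y₁ ∈ img E g v,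
      y₁ ∉ ln (F := F) E w → ∀ y ∈ img E g v, ∃ x ∈ img E g v ⊓ ln E w, ∃ c : F, y = x + c • y₁ := by
    intro g v w C y₁ hy₁ hy₁w y hy
    set X := img E g v ⊓ ln E w
    have hlt : X < X ⊔ Submodule.span F {y₁} := lt_of_le_of_ne le_sup_left fun e => hy₁w
      ((e.ge (Submodule.mem_sup_right (Submodule.mem_span_singleton_self y₁)) : y₁ ∈ X).2)
    have hle : X ⊔ Submodule.span F {y₁} ≤ img E g v := sup_le inf_le_left (by simpa using hy₁)
    have h1 := Submodule.finrank_lt_finrank_of_lt hlt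
    have h2 : _ ≤ finrank F X := C.le
    have he := Submodule.eq_of_le_of_finrank_le hle (by rw [finrank_img g C.hv0]; omega)
    obtain ⟨x, hx, z, hz, e⟩ := Submodule.mem_sup.mp (he.ge hy)
    obtain ⟨c, rfl⟩ := Submodule.mem_span_singleton.mp hz
    exact ⟨x, hx, c, e.symm⟩
  by_cases hperp : ∀ y ∈ img E g v, polar D.qE w y = 0
  · exact ⟨g, v, w, C, hperp⟩
  push Not at hperp
  obtain ⟨y₁, hy₁, h₁⟩ := hperp
  obtain ⟨-, hww, hy₁e⟩ := partner_spec C.hw h₁
  have hy₁w : y₁ ∉ ln (F := F) E w := fun h => h₁ (polar_inter_zero C.hw ⟨hy₁, h⟩)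
  obtain ⟨g', C', y', hy', hy'v, hvy⟩ := plane_good hO C (by omega) hy₁ h₁ fun y hy => by
    obtain ⟨x, hx, c, rfl⟩ := hdec C y₁ hy₁ hy₁w y hy
    obtain ⟨e, rfl⟩ := hx.2
    refine ⟨e + algebraMap F E c * (D.qE y₁ / polar D.qE w y₁), algebraMap F E c * polar D.qE w y₁, ?_⟩
    show e • w + c • y₁ = _
    rw [add_smul, ← algebraMap_smul E c y₁]
    conv_lhs => rw [hy₁e]
    module
  refine ⟨g', v, v, C', fun y hy => ?_⟩
  obtain ⟨x, hx, c, rfl⟩ := hdec C' y' hy' hy'v y hy
  rw [polar_add_right, polar_inter_zero C'.hw hx, ← algebraMap_smul E c y', polar_smul_right, hvy]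
  simp

/-- An element acts on a singular line as a transvection. -/
theorem exists_transv (hO : Over D M) (h : HasConf D M (finrank F E - 1)) :
    ∃ n ∈ M, ∃ v : V, v ≠ 0 ∧ D.qE v = 0 ∧ ∃ (x₀ : E) (f : E →ₗ[F] F),
      x₀ ≠ 0 ∧ f x₀ = 0 ∧ (∃ e, f e ≠ 0) ∧ ∀ e : E, n (e • v) = (e + f e • x₀) • v := by
  obtain ⟨g, v, w, C, hperp⟩ := exists_perp_hyperplane hO h
  haveI := C.hF
  haveI := D.finV
  have hr := D.prime.two_le
  obtain ⟨y, hy, hyw⟩ := C.not_le
  have hyS : y ∉ Submodule.span E ({w} : Set V) := fun h => by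
    obtain ⟨e, he⟩ := Submodule.mem_span_singleton.mp h
    exact hyw ⟨e, he⟩
  obtain ⟨u, huS, huy⟩ := D.ndE.exists_sep hyS
  have huw : polar D.qE u w = 0 := huS w (Submodule.mem_span_singleton_self w)
  obtain ⟨xw, hxw, hxw0⟩ := C.inter_ne_bot (by omega)
  obtain ⟨x, hxe⟩ := hxw.2
  change x • w = xw at hxe
  subst hxe
  obtain ⟨_, ⟨x₀, rfl⟩, hx₀⟩ := hxw.1
  change g (x₀ • v) = x • w at hx₀
  have hwxu : polar D.qE w (x • u) = 0 := by rw [polar_smul_right, polar_comm D.qE w u, huw, smul_zero]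
  -- the image decomposes
  set X := img E g v ⊓ ln E w with hX
  have hlt : X < X ⊔ Submodule.span F {y} := lt_of_le_of_ne le_sup_left fun e => hyw
      ((e.ge (Submodule.mem_sup_right (Submodule.mem_span_singleton_self y)) : y ∈ X).2)
  have h1 := Submodule.finrank_lt_finrank_of_lt hlt
  have h2 : _ ≤ finrank F X := C.le
  have he := Submodule.eq_of_le_of_finrank_le
    (sup_le inf_le_left (by simpa using hy) : X ⊔ Submodule.span F {y} ≤ img E g v)
    (by rw [finrank_img g C.hv0]; omega)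
  have hcoef : ∀ z ∈ img E g v, ∃ c : F, polar D.qE u z = algebraMap F E c := fun z hz => by
    obtain ⟨z₁, hz₁, z₂, hz₂, rfl⟩ := Submodule.mem_sup.mp (he.ge hz)
    obtain ⟨c, rfl⟩ := Submodule.mem_span_singleton.mp hz₂
    obtain ⟨e, rfl⟩ := hz₁.2
    refine ⟨c, ?_⟩
    show polar D.qE u (e • w + c • y) = _
    rw [polar_add_right, polar_smul_right, huw, ← algebraMap_smul E c y, polar_smul_right, huy]
    simp
  obtain ⟨inv, hinv⟩ := (Algebra.linearMap F E).exists_leftInverse_of_injective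
    (LinearMap.ker_eq_bot.mpr (algebraMap F E).injective)
  let f : E →ₗ[F] F := inv ∘ₗ (QuadraticMap.polarBilin D.qE u).restrictScalars F
    ∘ₗ (g : V →ₗ[F] V) ∘ₗ (LinearMap.toSpanSingleton E V v).restrictScalars F
  have hf : ∀ e, algebraMap F E (f e) = polar D.qE u (g (e • v)) := fun e => by
    obtain ⟨c, hc⟩ := hcoef (g (e • v)) ⟨e • v, smul_mem_ln e v, rfl⟩
    show algebraMap F E (inv (polar D.qE u (g (e • v)))) = _
    rw [hc]
    exact congrArg _ (LinearMap.congr_fun hinv c)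
  refine ⟨g⁻¹ * rho D w (x • u) C.hw hwxu * g,
    mul_mem (mul_mem (inv_mem C.hg) (hO.rho_mem _ _ _ _)) C.hg, v, C.hv0, C.hv, x₀, f, fun e => hxw0 ?_, ?_,
    ?_, fun e => ?_⟩
  · rw [← hx₀, e, zero_smul, map_zero]
  · apply (algebraMap F E).injective
    rw [hf, hx₀, polar_smul_right, huw, smul_zero, map_zero]
  · obtain ⟨_, ⟨e, rfl⟩, hye⟩ := hy
    refine ⟨e, fun h0 => one_ne_zero (α := E) ?_⟩
    change g (e • v) = y at hye
    rw [← huy, ← hye, ← hf, h0, map_zero]
  · set z := g (e • v)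
    have hz : z ∈ img E g v := ⟨e • v, smul_mem_ln e v, rfl⟩
    show g.symm (rho D w (x • u) C.hw hwxu z) = _
    have e1 : polar D.qE z w = 0 := by rw [polar_comm]; exact hperp z hz
    have e2 : polar D.qE z (x • u) = x * algebraMap F E (f e) := by
      rw [polar_smul_right, polar_comm D.qE z u, ← hf, smul_eq_mul]
    rw [LinearEquiv.symm_apply_eq, rho_apply, e1, e2, add_smul, g.map_add, smul_assoc, g.map_smul, hx₀,
      ← algebraMap_smul E (f e) (x • w)]
    simp [z, smul_smul, mul_comm]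

end Cfsg.Agent.Lib.OrthExt
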