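import Mathlib

/-!
Squares, traces and generators in a finite extension of prime degree in odd characteristic.
-/

set_option autoImplicit false

namespace Cfsg.Agent.Lib.OrthExt

open Module

variable {F E : Type*} [Field F] [Field E] [Algebra F E]

/-- An additive subgroup with every square is everything. -/
theorem eq_top_of_sq_mem (h2 : (2 : E) ≠ 0) {S : AddSubgroup E} (h : ∀ e : E, e * e ∈ S) (x : E) : x ∈ S := by
  have h4 : (4 : E) ≠ 0 := by rw [show (4 : E) = 2 * 2 by norm_num]; exact mul_ne_zero h2 h2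
  have e : x = (x / 2 + 1 / 2) * (x / 2 + 1 / 2) + (x / 2 + 1 / 2) * (x / 2 + 1 / 2)
      - (x / 2) * (x / 2) - (x / 2) * (x / 2) - (1 / 2) * (1 / 2) - (1 / 2) * (1 / 2) := by
    field_simp; ring
  rw [e]
  exact S.sub_mem (S.sub_mem (S.sub_mem (S.sub_mem (S.add_mem (h _) (h _)) (h _)) (h _)) (h _)) (h _)

variable [Finite E]

include E in
theorem finite_base : Finite F := Finite.of_injective (algebraMap F E) (algebraMap F E).injective

theorem traceForm_nd : (Algebra.traceForm F E).Nondegenerate :=
  haveI : Finite F := finite_base (E := E)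
  traceForm_nondegenerate F E

theorem eq_zero_of_trace {x : E} (h : ∀ e : E, Algebra.trace F E (e * x) = 0) : x = 0 :=
  (traceForm_nd (F := F)).1 x fun e => by rw [Algebra.traceForm_apply, mul_comm]; exact h e

theorem eq_of_trace {x y : E} (h : ∀ e : E, Algebra.trace F E (e * x) = Algebra.trace F E (e * y)) : x = y :=
  sub_eq_zero.mp (eq_zero_of_trace (F := F) fun e => by rw [mul_sub, map_sub, h, sub_self])

theorem eq_zero_of_trace_sq (h2 : (2 : E) ≠ 0) {x : E} (h : ∀ e : E, Algebra.trace F E (e * e * x) = 0) :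
    x = 0 :=
  eq_zero_of_trace (F := F) fun e =>
    eq_top_of_sq_mem h2
      (S := (LinearMap.ker ((Algebra.trace F E).comp (LinearMap.mulRight F x))).toAddSubgroup) h e

/-- Every functional is a trace product. -/
theorem exists_trace_eq (f : E →ₗ[F] F) : ∃ a : E, ∀ e, Algebra.trace F E (a * e) = f e := by
  haveI : Finite F := finite_base (E := E)
  refine ⟨(LinearMap.BilinForm.toDual (Algebra.traceForm F E) traceForm_nd).symm f, fun e => ?_⟩
  rw [← Algebra.traceForm_apply, LinearMap.BilinForm.apply_toDual_symm_apply]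

/-- A proper subspace has a non-zero trace-orthogonal element. -/
theorem exists_trace_perp {S : Submodule F E} (hS : finrank F S < finrank F E) :
    ∃ a : E, a ≠ 0 ∧ ∀ e ∈ S, Algebra.trace F E (a * e) = 0 := by
  haveI : Finite F := finite_base (E := E)
  obtain ⟨x, hx⟩ : ∃ x, x ∉ S := by
    by_contra h
    push Not at h
    rw [Submodule.eq_top_iff'.mpr h, finrank_top] at hS
    exact lt_irrefl _ hS
  obtain ⟨φ, hφ, hφS⟩ := Submodule.exists_dual_map_eq_bot_of_notMem hx inferInstance
  obtain ⟨a, ha⟩ := exists_trace_eq φ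
  refine ⟨a, fun e => hφ (by rw [← ha, e, zero_mul, map_zero]), fun e he => ?_⟩
  have : φ e ∈ S.map φ := ⟨e, he, rfl⟩
  rw [hφS, Submodule.mem_bot] at this
  rw [ha, this]

variable (F) in
/-- Membership in the base field. -/
def IsF (x : E) : Prop := x ∈ (⊥ : Subalgebra F E)

omit [Finite E] in
theorem isF_iff {x : E} : IsF F x ↔ ∃ c : F, algebraMap F E c = x := Algebra.mem_bot

variable (hr : (finrank F E).Prime)
include hr

omit [Finite E] in
theorem adjoin_eq_top {x : E} (hx : ¬ IsF F x) : Algebra.adjoin F ({x} : Set E) = ⊤ := by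
  haveI := Subalgebra.isSimpleOrder_of_finrank_prime F E hr
  rcases IsSimpleOrder.eq_bot_or_eq_top (Algebra.adjoin F ({x} : Set E)) with h | h
  · exact absurd (h ▸ Algebra.subset_adjoin (Set.mem_singleton x) : x ∈ (⊥ : Subalgebra F E)) hx
  · exact h

omit [Finite E] in
theorem exists_not_isF : ∃ x : E, ¬ IsF F x := by
  haveI := Subalgebra.isSimpleOrder_of_finrank_prime F E hr
  by_contra h
  push Not at h
  exact bot_ne_top (eq_top_iff.mpr fun x _ => h x : (⊥ : Subalgebra F E) = ⊤)

omit [Finite E] in
/-- A subspace stable under an element outside the base field is stable under everything. -/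
theorem mul_mem_of_stable {θ : E} (hθ : ¬ IsF F θ) {S : Submodule F E} (h : ∀ x ∈ S, θ * x ∈ S) (e : E) {x : E}
    (hx : x ∈ S) : e * x ∈ S := by
  let A : Subalgebra F E :=
    { carrier := {e | ∀ x ∈ S, e * x ∈ S}
      mul_mem' := fun {a b} ha hb x hx => by rw [mul_assoc]; exact ha _ (hb _ hx)
      add_mem' := fun {a b} ha hb x hx => by rw [add_mul]; exact S.add_mem (ha _ hx) (hb _ hx)
      algebraMap_mem' := fun c x hx => by rw [← Algebra.smul_def]; exact S.smul_mem c hx }
  have hle : Algebra.adjoin F ({θ} : Set E) ≤ A := Algebra.adjoin_le fun y hy => by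
    rw [Set.mem_singleton_iff] at hy
    subst hy
    exact h
  rw [adjoin_eq_top hr hθ] at hle
  exact hle (Algebra.mem_top : e ∈ ⊤) x hx

omit [Finite E] in
/-- In odd degree a square root of an element of the base field lies in it. -/
theorem isF_of_sq (hodd : finrank F E ≠ 2) {x : E} (h : IsF F (x * x)) : IsF F x := by
  by_contra hx
  obtain ⟨c, hc⟩ := isF_iff.mp h
  haveI : FiniteDimensional F E := FiniteDimensional.of_finrank_pos hr.pos
  set P : Submodule F E := Submodule.span F {(1 : E), x}
  have hstab : ∀ y ∈ P, x * y ∈ P := fun y hy => by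
    obtain ⟨a, b, rfl⟩ := Submodule.mem_span_pair.mp hy
    refine Submodule.mem_span_pair.mpr ⟨b * c, a, ?_⟩
    rw [Algebra.smul_def, Algebra.smul_def, Algebra.smul_def, Algebra.smul_def, map_mul, hc]
    ring
  have htop : P = ⊤ := Submodule.eq_top_iff'.mpr fun e => by
    simpa using mul_mem_of_stable hr hx hstab e (Submodule.subset_span (by simp) : (1 : E) ∈ P)
  have h2 : finrank F P ≤ 2 := by
    classical
    have h := finrank_span_le_card (R := F) ({(1 : E), x} : Set E)
    rw [Set.toFinset_insert, Set.toFinset_singleton] at h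
    exact h.trans Finset.card_le_two
  rw [htop, finrank_top] at h2
  have := hr.two_le
  omega

/-- Some square times a given non-zero element is outside the base field. -/
theorem exists_sq_mul_not_isF (h2 : (2 : E) ≠ 0) {ρ : E} (hρ : ρ ≠ 0) : ∃ y : E, ¬ IsF F (y * y * ρ) := by
  obtain ⟨x, hx⟩ := exists_not_isF (F := F) hr
  by_contra h
  push Not at h
  let S : AddSubgroup E :=
    ((⊥ : Subalgebra F E).toSubmodule.comap (LinearMap.mulRight F ρ)).toAddSubgroup
  have := eq_top_of_sq_mem h2 (S := S) h (x / ρ)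
  apply hx
  change (x / ρ) * ρ ∈ (⊥ : Subalgebra F E) at this
  rwa [div_mul_cancel₀ _ hρ] at this

/-- In odd degree every element becomes a square after scaling by the base field. -/
theorem exists_smul_isSquare (h2 : (2 : E) ≠ 0) (hodd : finrank F E ≠ 2) (x : E) :
    ∃ c : F, c ≠ 0 ∧ IsSquare (algebraMap F E c * x) := by
  classical
  haveI : Finite F := finite_base (E := E)
  haveI := Fintype.ofFinite F
  haveI := Fintype.ofFinite E
  by_cases hx : IsSquare x
  · exact ⟨1, one_ne_zero, by simpa using hx⟩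
  have hF : ringChar F ≠ 2 := fun e => h2 (by
    rw [← map_ofNat (algebraMap F E) 2]
    haveI := ringChar.of_eq e
    rw [CharTwo.two_eq_zero, map_zero])
  have hE : ringChar E ≠ 2 := fun e => h2 (by
    haveI := ringChar.of_eq e
    exact CharTwo.two_eq_zero)
  obtain ⟨ν, hν⟩ := FiniteField.exists_nonsquare hF
  have hν0 : ν ≠ 0 := fun e => hν (e ▸ IsSquare.zero)
  have hνE : ¬ IsSquare (algebraMap F E ν) := by
    rintro ⟨y, hy⟩
    obtain ⟨c, rfl⟩ := isF_iff.mp (isF_of_sq hr hodd (isF_iff.mpr ⟨ν, hy⟩) )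
    exact hν ⟨c, (algebraMap F E).injective (by rw [hy, map_mul])⟩
  refine ⟨ν, hν0, ?_⟩
  have hν0' : algebraMap F E ν ≠ 0 := by simpa using hν0
  have hx0 : x ≠ 0 := fun e => hx (e ▸ IsSquare.zero)
  rw [← quadraticChar_one_iff_isSquare (mul_ne_zero hν0' hx0), map_mul,
    quadraticChar_neg_one_iff_not_isSquare.mpr hνE, quadraticChar_neg_one_iff_not_isSquare.mpr hx]
  norm_num

end Cfsg.Agent.Lib.OrthExt
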