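import Cfsg.Agent.Lib.OrthExt.Tools
import Cfsg.Agent.Lib.OrthExt.Scalars
import Cfsg.Agent.Lib.SympExt.Inter

/-!
A quadratic space over `F` for which an extension field acts by self-adjoint maps: the form over the extension,
its isometries, and overgroups of their commutators.
-/

set_option autoImplicit false

namespace Cfsg.Agent.Lib.OrthExt

open QuadraticMap Module Cfsg.Agent.Lib

variable {F E V : Type*} [Field F] [Field E] [Algebra F E] [AddCommGroup V] [Module F V] [Module E V]
  [IsScalarTower F E V] {Q : QuadraticForm F V}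

/-- A non-degenerate quadratic space with self-adjoint scalars from an extension of prime degree. -/
structure ExtData (E : Type*) [Field E] [Algebra F E] [Module E V] (Q : QuadraticForm F V) : Prop where
  nd : Nd Q
  adj : ∀ (e : E) u v, polar Q (e • u) v = polar Q u (e • v)
  prime : (finrank F E).Prime
  three_le : 3 ≤ finrank E V
  seven_le : finrank F E = 2 → 4 ≤ finrank E V ∧
    (finrank E V = 4 → ∀ U : Submodule F V, (∀ x ∈ U, Q x = 0) → finrank F U < 4)

namespace ExtData

theorem two (D : ExtData E Q) : (2 : E) ≠ 0 := by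
  rw [← map_ofNat (algebraMap F E) 2]
  simpa using D.nd.two

theorem finE (D : ExtData E Q) : FiniteDimensional F E :=
  FiniteDimensional.of_finrank_pos D.prime.pos

theorem finV (D : ExtData E Q) : FiniteDimensional E V :=
  FiniteDimensional.of_finrank_pos (by have := D.three_le; omega)

theorem finVF (D : ExtData E Q) : FiniteDimensional F V :=
  haveI := D.finE
  haveI := D.finV
  Module.Finite.trans E V

variable [Finite E]

/-- The `E`-valued polar form. -/
noncomputable def BE (_D : ExtData E Q) (u v : V) : E :=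
  (LinearMap.BilinForm.toDual (Algebra.traceForm F E) traceForm_nd).symm
    ((QuadraticMap.polarBilin Q).flip v ∘ₗ (LinearMap.toSpanSingleton E V u).restrictScalars F)

variable (D : ExtData E Q)

theorem trace_BE (u v : V) (e : E) : Algebra.trace F E (e * D.BE u v) = polar Q (e • u) v := by
  haveI : Finite F := finite_base (E := E)
  rw [mul_comm, ← Algebra.traceForm_apply, BE, LinearMap.BilinForm.apply_toDual_symm_apply]
  simp

theorem BE_unique {u v : V} {a : E} (h : ∀ e : E, Algebra.trace F E (e * a) = polar Q (e • u) v) :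
    D.BE u v = a :=
  eq_of_trace (F := F) fun e => by rw [h, D.trace_BE]

theorem BE_comm (u v : V) : D.BE u v = D.BE v u := D.BE_unique fun e => by
  rw [D.trace_BE, D.adj, polar_comm]

theorem BE_add_left (u u' v : V) : D.BE (u + u') v = D.BE u v + D.BE u' v :=
  D.BE_unique fun e => by rw [mul_add, map_add, D.trace_BE, D.trace_BE, smul_add, polar_add_left]

theorem BE_add_right (u v v' : V) : D.BE u (v + v') = D.BE u v + D.BE u v' := by
  rw [D.BE_comm, D.BE_add_left, D.BE_comm v, D.BE_comm v']

theorem BE_smul_left (a : E) (u v : V) : D.BE (a • u) v = a * D.BE u v :=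
  D.BE_unique fun e => by rw [← mul_assoc, D.trace_BE, mul_smul]

theorem BE_smul_right (a : E) (u v : V) : D.BE u (a • v) = a * D.BE u v := by
  rw [D.BE_comm, D.BE_smul_left, D.BE_comm v]

/-- The quadratic form over `E`. -/
noncomputable def qE : QuadraticForm E V :=
  (2 : E)⁻¹ • LinearMap.BilinMap.toQuadraticMap
    (LinearMap.mk₂ E D.BE D.BE_add_left D.BE_smul_left D.BE_add_right D.BE_smul_right)

theorem qE_apply (v : V) : D.qE v = (2 : E)⁻¹ * D.BE v v := rfl

theorem polar_qE (u v : V) : polar D.qE u v = D.BE u v := by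
  simp only [polar, qE_apply, D.BE_add_left, D.BE_add_right, D.BE_comm v u]
  have := D.two
  field_simp
  ring

theorem trace_polar (u v : V) (e : E) : Algebra.trace F E (e * polar D.qE u v) = polar Q (e • u) v := by
  rw [D.polar_qE, D.trace_BE]

theorem Q_smul (v : V) (e : E) : Q (e • v) = Algebra.trace F E (e * e * D.qE v) := by
  have h := polar_self' Q (e • v)
  rw [D.adj, polar_comm, smul_smul, ← D.trace_BE] at h
  have hv : e * e * D.qE v = algebraMap F E (2⁻¹) * (e * e * D.BE v v) := by
    rw [qE_apply, map_inv₀, map_ofNat]; ring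
  rw [hv, ← Algebra.smul_def, (Algebra.trace F E).map_smul, h, smul_eq_mul, inv_mul_cancel_left₀ D.nd.two]

theorem Q_eq (v : V) : Q v = Algebra.trace F E (D.qE v) := by
  have h := D.Q_smul v 1
  rwa [one_smul, one_mul, one_mul] at h

theorem polar_eq (u v : V) : polar Q u v = Algebra.trace F E (polar D.qE u v) := by
  have h := D.trace_polar u v 1
  rw [one_smul, one_mul] at h
  exact h.symm

theorem ndE : Nd D.qE :=
  ⟨D.two, fun z hz => D.nd.nondeg z fun w => by rw [D.polar_eq, hz, map_zero]⟩

end ExtData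

/-- An `E`-linear map as an `F`-linear map. -/
def rs : (V ≃ₗ[E] V) →* (V ≃ₗ[F] V) where
  toFun g := g.restrictScalars F
  map_one' := rfl
  map_mul' _ _ := rfl

theorem rs_apply (g : V ≃ₗ[E] V) (x : V) : rs (F := F) g x = g x := rfl

variable [Finite E]

theorem rs_mem (D : ExtData E Q) {g : V ≃ₗ[E] V} (hg : g ∈ Classical.isoGroup ⇑D.qE) :
    rs g ∈ Classical.isoGroup ⇑Q := fun x => by
  rw [rs_apply, D.Q_eq, hg, ← D.Q_eq]

/-- An overgroup of the commutators of `E`-isometries with an element that is not semilinear. -/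
structure Over (D : ExtData E Q) (M : Subgroup (V ≃ₗ[F] V)) : Prop where
  iso : M ≤ Classical.isoGroup ⇑Q
  det : ∀ g ∈ M, LinearMap.det (g : V →ₗ[F] V) = 1
  linC : ∀ X ∈ Classical.isoGroup ⇑D.qE, ∀ Y ∈ Classical.isoGroup ⇑D.qE, rs (X * Y * X⁻¹ * Y⁻¹) ∈ M
  notSemi : ∃ g ∈ M, ∀ φ : E → E, ∃ (e : E) (v : V), g (e • v) ≠ φ e • g v

/-- An Eichler transformation over `E`, over `F`. -/
noncomputable def rho (D : ExtData E Q) (u w : V) (hu : D.qE u = 0) (huw : polar D.qE u w = 0) :
    V ≃ₗ[F] V :=
  rs (Classical.eichlerEquiv D.qE u w hu huw)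

theorem rho_apply (D : ExtData E Q) (u w : V) (hu : D.qE u = 0) (huw : polar D.qE u w = 0) (x : V) :
    rho D u w hu huw x
      = x + polar D.qE x w • u - polar D.qE x u • w - (D.qE w * polar D.qE x u) • u := rfl

theorem rho_smul (D : ExtData E Q) (u w : V) (hu : D.qE u = 0) (huw : polar D.qE u w = 0) (e : E) (x : V) :
    rho D u w hu huw (e • x) = e • rho D u w hu huw x :=
  map_smul (Classical.eichlerEquiv D.qE u w hu huw) e x

theorem rho_fix (D : ExtData E Q) {u w x : V} (hu : D.qE u = 0) (huw : polar D.qE u w = 0)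
    (h1 : polar D.qE x w = 0) (h2 : polar D.qE x u = 0) : rho D u w hu huw x = x := by
  rw [rho_apply, h1, h2]; simp

namespace Over

variable {D : ExtData E Q} {M : Subgroup (V ≃ₗ[F] V)} (hO : Over D M)
include hO

theorem rho_mem (u w : V) (hu : D.qE u = 0) (huw : polar D.qE u w = 0) : rho D u w hu huw ∈ M := by
  by_cases h0 : u = 0
  · have : rho D u w hu huw = 1 := LinearEquiv.ext fun x => by subst h0; simp [rho_apply]
    rw [this]; exact one_mem M
  obtain ⟨X, hX, Y, hY, e⟩ := eichler_eq_comm (hu := hu) D.ndE h0 huw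
  rw [rho, e]
  exact hO.linC X hX Y hY

theorem refl_pair_mem {a b : V} (ha : D.qE a ≠ 0) (hb : D.qE b ≠ 0) (hab : D.qE a = D.qE b) :
    rs (refl D.qE a ha * refl D.qE b hb) ∈ M := by
  obtain ⟨X, hX, Y, hY, e⟩ := refl_mul_eq_comm_of_eq D.two ha hb hab
  rw [e]
  exact hO.linC X hX Y hY

theorem refl_sq_mem {a b : V} (ha : D.qE a ≠ 0) (hb : D.qE b ≠ 0) :
    rs (refl D.qE a ha * refl D.qE b hb * (refl D.qE a ha * refl D.qE b hb)) ∈ M := by
  rw [← mul_assoc, refl_sq_eq_comm ha hb]
  exact hO.linC _ (refl_mem a ha) _ (refl_mem b hb)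

theorem tor_sq_mem {u u' : V} (hu : D.qE u = 0) (hu' : D.qE u' = 0) (h : polar D.qE u u' = 1) (t : Eˣ) :
    rs (tor D.qE u u' hu hu' h t * tor D.qE u u' hu hu' h t) ∈ M := by
  obtain ⟨X, hX, Y, hY, e⟩ := tor_sq_eq_comm (hu := hu) (hu' := hu') (h := h) D.ndE t
  rw [e]
  exact hO.linC X hX Y hY

theorem iso_polar {g : V ≃ₗ[F] V} (hg : g ∈ M) (u v : V) : polar Q (g u) (g v) = polar Q u v :=
  Classical.isometry_polar (hO.iso hg) u v

end Over

end Cfsg.Agent.Lib.OrthExt
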