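import Cfsg.Agent.Lib.OrthExt.Seed

/-!
From one long root element off an orthogonal complement to every Eichler transformation of a singular vector, and
to every commutator of isometries.
-/

set_option autoImplicit false

namespace Cfsg.Agent.Lib.OrthExt

open QuadraticMap Module Cfsg.Agent.Lib Cfsg.Agent.Lib.SympExt

variable {F E V : Type*} [Field F] [Field E] [Algebra F E] [AddCommGroup V] [Module F V] [Module E V]
  [IsScalarTower F E V] {Q : QuadraticForm F V} [Finite E] {D : ExtData E Q} {M : Subgroup (V ≃ₗ[F] V)}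

theorem exists_trace_pair {a b : E} (h : b ∉ Submodule.span F ({a} : Set E)) :
    ∃ l : E, Algebra.trace F E (l * a) = 0 ∧ Algebra.trace F E (l * b) = 1 := by
  haveI : Finite F := finite_base (E := E)
  obtain ⟨φ, hφ, hφS⟩ := Submodule.exists_dual_map_eq_bot_of_notMem h inferInstance
  obtain ⟨l, hl⟩ := exists_trace_eq ((φ b)⁻¹ • φ)
  have ha : φ a ∈ (Submodule.span F ({a} : Set E)).map φ := ⟨a, Submodule.mem_span_singleton_self a, rfl⟩
  rw [hφS, Submodule.mem_bot] at ha
  exact ⟨l, by rw [hl, LinearMap.smul_apply, ha, smul_zero],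
    by rw [hl, LinearMap.smul_apply, smul_eq_mul, inv_mul_cancel₀ hφ]⟩

/-- One long root element off the orthogonal complement gives the whole complement. -/
theorem perp_full (hO : Over D M) {w d : V} (hw0 : w ≠ 0) (hw : D.qE w = 0) (h : LongMem Q M w d)
    (hβ : polar D.qE w d ≠ 0) {e : V} (he : polar D.qE w e = 0) : LongMem Q M w e := by
  have hQw : ∀ t : E, Q (t • w) = 0 := fun t => by rw [D.Q_smul, hw, mul_zero, map_zero]
  have hQw1 : Q w = 0 := by simpa using hQw 1
  set β := polar D.qE w d with hβdef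
  have key : ∀ e : V, polar D.qE w e = 0 →
      LongMem Q M w (polar D.qE d e • w - β • e - (D.qE e * β) • w) := by
    intro e he
    have hdw : polar D.qE d w = β := by rw [polar_comm]
    have h' := h.map (hO.rho_mem w e hw he) (hO.iso (hO.rho_mem w e hw he))
    have e1 : rho D w e hw he w = w := by
      refine rho_fix D hw he he ?_
      rw [polar_self', hw, mul_zero]
    have e2 : rho D w e hw he d = d + (polar D.qE d e • w - β • e - (D.qE e * β) • w) := by
      rw [rho_apply, hdw]; abel
    rw [e1, e2] at h'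
    simpa using h'.sub h
  -- multiples of the vector
  have hline : ∀ t : E, LongMem Q M w (t • w) := by
    let S : AddSubgroup E :=
      { carrier := {t | LongMem Q M w (t • w)}
        zero_mem' := by show LongMem Q M w ((0 : E) • w); rw [zero_smul]; exact LongMem.zero hQw1
        add_mem' := fun {s t} hs ht => by show LongMem Q M w ((s + t) • w); rw [add_smul]; exact hs.add ht
        neg_mem' := fun {t} ht => by show LongMem Q M w ((-t) • w); rw [neg_smul]; exact ht.neg }
    obtain ⟨w', hw', hww⟩ := D.ndE.exists_partner hw0 hw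
    obtain ⟨b, hb, c, hc, hbq⟩ := exists_perp2_value D hw hw' hww (one_ne_zero (α := E))
    rw [mul_one] at hbq
    obtain ⟨hb1, -⟩ := mem_perp2.mp hb
    set κ := 2 * D.qE b * β with hκ
    have hκ0 : κ ≠ 0 := mul_ne_zero (mul_ne_zero D.two (by rw [hbq]; simpa using hc)) hβ
    have hsq : ∀ t : E, t * t * κ ∈ S := fun t => by
      have h1 : polar D.qE w (t • b) = 0 := by rw [polar_smul_right, hb1, smul_zero]
      have h2 : polar D.qE w (-(t • b)) = 0 := by rw [polar_neg_right, h1, neg_zero]
      have h3 := ((key _ h1).add (key _ h2)).neg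
      show LongMem Q M w ((t * t * κ) • w)
      convert h3 using 1
      rw [polar_neg_right, QuadraticMap.map_neg, QuadraticMap.map_smul, smul_eq_mul, hκ]
      module
    intro t
    have h' := eq_top_of_sq_mem D.two (S := S.comap (AddMonoidHom.mulRight κ)) hsq (t / κ)
    change LongMem Q M w (((t / κ) * κ) • w) at h'
    rwa [div_mul_cancel₀ _ hκ0] at h'
  -- the complement
  have he' : polar D.qE w (-β⁻¹ • e) = 0 := by rw [polar_smul_right, he, smul_zero]
  have h1 := key _ he'
  have h2 := (h1.sub (hline (polar D.qE d (-β⁻¹ • e)))).add (hline (D.qE (-β⁻¹ • e) * β))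
  convert h2 using 1
  rw [smul_smul β, mul_neg, mul_inv_cancel₀ hβ]
  simp only [neg_smul, one_smul]
  abel

/-- Every Eichler transformation of a vector singular over the extension lies in the group. -/
theorem longMem_all (hO : Over D M) (h : HasConf D M (finrank F E - 1)) {u : V} (hu0 : u ≠ 0) (hu : D.qE u = 0)
    {e : V} (he : polar Q u e = 0) : LongMem Q M u e := by
  haveI := D.finV
  haveI := D.finE
  obtain ⟨w, hw0, hw, f, hf, hl⟩ := exists_line_long hO h
  obtain ⟨w₁, d, hw₁0, hw₁, hd, hβ⟩ : ∃ w d, w ≠ 0 ∧ D.qE w = 0 ∧ LongMem Q M w d ∧ polar D.qE w d ≠ 0 := by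
    by_cases hr2 : finrank F E = 2
    · exact seed_two hO hr2 hw0 hw hf hl
    · obtain ⟨d, hd, hβ⟩ := seed_odd hO hr2 hw0 hw hf hl
      exact ⟨w, d, hw0, hw, hd, hβ⟩
  have hperp : ∀ {u e : V}, u ≠ 0 → D.qE u = 0 → polar D.qE u e = 0 → LongMem Q M u e := by
    intro u e hu0 hu he
    obtain ⟨X, hX, hXM, c, hc, hXw⟩ := exists_move hO hw₁0 hw₁ hu0 hu
    obtain ⟨e', he'⟩ := X.surjective (c⁻¹ • e)
    have h1 : polar D.qE w₁ e' = 0 := by
      rw [← Classical.isometry_polar hX, hXw, he', ← algebraMap_smul E c, ← algebraMap_smul E c⁻¹,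
        polar_smul_left, polar_smul_right, he, smul_zero, smul_zero]
    have h2 := (perp_full hO hw₁0 hw₁ hd hβ h1).map hXM (rs_mem D hX)
    rw [rs_apply, rs_apply, hXw, he'] at h2
    have h3 := h2.of_smul hc
    rwa [smul_inv_smul₀ hc] at h3
  obtain ⟨u', hu', huu⟩ := D.ndE.exists_partner hu0 hu
  set ε := polar D.qE u e with hε
  have htr : Algebra.trace F E ε = 0 := by rw [hε, ← D.polar_eq, he]
  have hmain : LongMem Q M u (ε • u') := by
    by_cases hε0 : ε = 0
    · rw [hε0, zero_smul]; exact LongMem.zero (by rw [D.Q_eq, hu, map_zero])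
    obtain ⟨b, hb, c₀, hc₀, hbq⟩ := exists_perp2_value D hu hu' huu (one_ne_zero (α := E))
    rw [mul_one] at hbq
    obtain ⟨hb1, hb2⟩ := mem_perp2.mp hb
    have hbb : polar D.qE b b ≠ 0 := by
      rw [polar_self', hbq]; exact mul_ne_zero D.two (by simpa using hc₀)
    obtain ⟨l, -, hl⟩ := exists_trace_pair (F := F) (a := (0 : E)) (b := 1) (by simp)
    rw [mul_one] at hl
    set t := l / polar D.qE b b
    have hεu : D.qE (ε • u') = 0 := by rw [QuadraticMap.map_smul, hu', smul_zero]
    have hεu0 : ε • u' ≠ 0 := smul_ne_zero hε0 fun h => one_ne_zero (α := E) (by rw [← huu, h, polar_zero_right])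
    obtain ⟨hq1, hq2, hm⟩ := hperp hεu0 hεu
      (show polar D.qE (ε • u') (t • b) = 0 by rw [polar_smul_left, polar_smul_right, hb2, smul_zero, smul_zero])
    set G := Classical.eichlerEquiv Q (ε • u') (t • b) hq1 hq2 with hG
    have p1 : polar Q u (ε • u') = 0 := by rw [D.polar_eq, polar_smul_right, huu, smul_eq_mul, mul_one, htr]
    have p2 : polar Q u (t • b) = 0 := by rw [D.polar_eq, polar_smul_right, hb1, smul_zero, map_zero]
    have p3 : polar Q b (ε • u') = 0 := by
      rw [D.polar_eq, polar_smul_right, polar_comm D.qE b u', hb2, smul_zero, map_zero]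
    have p4 : polar Q b (t • b) = 1 := by
      rw [D.polar_eq, polar_smul_right, smul_eq_mul, div_mul_cancel₀ _ hbb, hl]
    have hGu : G u = u := by rw [hG, Classical.eichlerEquiv_apply, p1, p2]; simp
    have hGb : G b = b + ε • u' := by rw [hG, Classical.eichlerEquiv_apply, p3, p4]; simp
    have h1 := (hperp hu0 hu hb1).map hm (Classical.eichlerEquiv_mem _ _ _ _ _)
    rw [hGu, hGb] at h1
    simpa using h1.sub (hperp hu0 hu hb1)
  have hrest : LongMem Q M u (e - ε • u') := hperp hu0 hu (by
    rw [polar_sub_right, polar_smul_right, huu, smul_eq_mul, mul_one, sub_self])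
  simpa using hrest.add hmain

/-- The group contains every commutator of isometries. -/
theorem commutator_mem_of_conf (hO : Over D M) (h : HasConf D M (finrank F E - 1)) {a b : V ≃ₗ[F] V}
    (ha : a ∈ Classical.isoGroup ⇑Q) (hb : b ∈ Classical.isoGroup ⇑Q) : a * b * a⁻¹ * b⁻¹ ∈ M := by
  haveI := D.finV
  haveI := D.finE
  haveI := D.finVF
  obtain ⟨g, v, w, C⟩ := hasConf_one hO
  obtain ⟨w', hw', hww⟩ := D.ndE.exists_partner C.hw0 C.hw
  have hw'0 : w' ≠ 0 := fun e => one_ne_zero (α := E) (by rw [← hww, e, polar_zero_right])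
  obtain ⟨ε, hε⟩ := exists_not_isF (F := F) (E := E) D.prime
  have h1ε : (1 : E) ∉ Submodule.span F ({ε} : Set E) := fun hm => by
    obtain ⟨c, hc⟩ := Submodule.mem_span_singleton.mp hm
    have hc0 : c ≠ 0 := fun e => one_ne_zero (α := E) (by rw [← hc, e, zero_smul])
    refine hε (isF_iff.mpr ⟨c⁻¹, ?_⟩)
    rw [Algebra.algebraMap_eq_smul_one, ← hc, inv_smul_smul₀ hc0]
  have hε1 : ε ∉ Submodule.span F ({(1 : E)} : Set E) := fun hm => by
    obtain ⟨c, hc⟩ := Submodule.mem_span_singleton.mp hm
    exact hε (isF_iff.mpr ⟨c, by rw [Algebra.algebraMap_eq_smul_one, hc]⟩)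
  obtain ⟨l, hl0, hl1⟩ := exists_trace_pair h1ε
  obtain ⟨σ, hσ0, hσ1⟩ := exists_trace_pair hε1
  rw [mul_one] at hl1 hσ0
  have hl : l ≠ 0 := fun e => one_ne_zero (α := F) (by rw [← hl1, e, map_zero])
  have hpol : ∀ s t : E, polar Q (s • w) (t • w') = Algebra.trace F E (t * s) := fun s t => by
    rw [D.polar_eq, polar_smul_left, polar_smul_right, hww]; simp [mul_comm]
  have hp1 : ∀ t : E, polar Q w (t • w') = Algebra.trace F E t := fun t => by
    rw [D.polar_eq, polar_smul_right, hww]; simp
  have hsing : ∀ {x : V}, D.qE x = 0 → ∀ s t : E, polar Q (s • x) (t • x) = 0 := fun {x} hx s t => by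
    rw [D.polar_eq, polar_smul_left, polar_smul_right, polar_self', hx]; simp
  have hQ0 : ∀ {x : V}, D.qE x = 0 → ∀ s : E, Q (s • x) = 0 := fun {x} hx s => by
    rw [D.Q_smul, hx, mul_zero, map_zero]
  have hlw : D.qE (l • w') = 0 := by rw [QuadraticMap.map_smul, hw', smul_zero]
  refine commutator_mem_of_long (e := w) (f := l • w') (u₀ := ε • w) (u₁ := σ • w') D.nd ?_
    (by rw [D.Q_eq, C.hw, map_zero]) (hQ0 hw' l) (by rw [hp1, hl1]) ?_ ?_ (hQ0 C.hw ε) (hQ0 hw' σ)
    (by rw [hpol, hσ1]) (fun d hd => longMem_all hO h C.hw0 C.hw hd)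
    (fun d hd => longMem_all hO h (smul_ne_zero hl hw'0) hlw hd) ha hb
  · rw [← Module.finrank_mul_finrank F E V]
    have := Nat.mul_le_mul D.prime.two_le D.three_le
    omega
  · rw [mem_perp2]
    refine ⟨?_, by rw [polar_comm, hpol, hl0]⟩
    have := hsing C.hw 1 ε
    rwa [one_smul] at this
  · rw [mem_perp2]
    exact ⟨by rw [hp1, hσ0], hsing hw' l σ⟩

/-- In dimension at least four over the extension the group contains every commutator. -/
theorem commutator_mem_four (hO : Over D M) (hk : 4 ≤ finrank E V) {a b : V ≃ₗ[F] V}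
    (ha : a ∈ Classical.isoGroup ⇑Q) (hb : b ∈ Classical.isoGroup ⇑Q) : a * b * a⁻¹ * b⁻¹ ∈ M :=
  commutator_mem_of_conf hO
    (hasConf_hyperplane hO (fun _ hs hsr h => step_four hO hk hs hsr h) _
      (by have := D.prime.two_le; omega)) ha hb

end Cfsg.Agent.Lib.OrthExt
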