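import Cfsg.Agent.Lib.OrthExt.Tools

/-!
Eichler transformations of one space inside a group: their algebra, and the commutator group from two opposite
full sets of them.
-/

set_option autoImplicit false

namespace Cfsg.Agent.Lib.OrthExt

open QuadraticMap Module Cfsg.Agent.Lib

variable {F V : Type*} [Field F] [AddCommGroup V] [Module F V] {Q : QuadraticForm F V}
  {M : Subgroup (V ≃ₗ[F] V)}

variable (Q M) in
/-- The Eichler transformation of the pair lies in the group. -/
def LongMem (u d : V) : Prop :=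
  ∃ (h1 : Q u = 0) (h2 : polar Q u d = 0), Classical.eichlerEquiv Q u d h1 h2 ∈ M

namespace LongMem

variable {u d d' : V}

theorem add (h : LongMem Q M u d) (h' : LongMem Q M u d') : LongMem Q M u (d + d') := by
  obtain ⟨hu, hd, hm⟩ := h
  obtain ⟨_, hd', hm'⟩ := h'
  refine ⟨hu, by rw [polar_add_right, hd, hd', add_zero], ?_⟩
  rw [← eichler_mul (hu := hu) hd hd']
  exact mul_mem hm hm'

theorem neg (h : LongMem Q M u d) : LongMem Q M u (-d) := by
  obtain ⟨hu, hd, hm⟩ := h
  refine ⟨hu, by rw [polar_neg_right, hd, neg_zero], ?_⟩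
  rw [← eichler_inv (hu := hu) hd]
  exact inv_mem hm

theorem sub (h : LongMem Q M u d) (h' : LongMem Q M u d') : LongMem Q M u (d - d') := by
  rw [sub_eq_add_neg]; exact h.add h'.neg

theorem zero (hu : Q u = 0) : LongMem Q M u 0 :=
  ⟨hu, by rw [polar_zero_right], by rw [eichler_zero]; exact one_mem M⟩

theorem map (h : LongMem Q M u d) {g : V ≃ₗ[F] V} (hg : g ∈ M) (hgi : g ∈ Classical.isoGroup ⇑Q) :
    LongMem Q M (g u) (g d) := by
  obtain ⟨hu, hd, hm⟩ := h
  refine ⟨by rw [hgi, hu], by rw [Classical.isometry_polar hgi, hd], ?_⟩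
  rw [← Classical.eichlerEquiv_conj Q u d hu hd hgi]
  exact mul_mem (mul_mem hg hm) (inv_mem hg)

theorem of_smul {c : F} (hc : c ≠ 0) (h : LongMem Q M (c • u) d) : LongMem Q M u (c • d) := by
  obtain ⟨hcu, hcd, hm⟩ := h
  have hu : Q u = 0 := by
    rw [QuadraticMap.map_smul, smul_eq_mul] at hcu
    exact (mul_eq_zero.mp hcu).resolve_left (mul_ne_zero hc hc)
  have hd : polar Q u d = 0 := by
    rw [polar_smul_left, smul_eq_mul] at hcd
    exact (mul_eq_zero.mp hcd).resolve_left hc
  refine ⟨hu, by rw [polar_smul_right, hd, smul_zero], ?_⟩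
  rw [← eichler_smul (hu := hu) hd c]
  exact hm

/-- A change of basis of the plane. -/
theorem basis {a b c e : F} (hu : Q u = 0) (hd : Q d = 0) (hud : polar Q u d = 0)
    (h : LongMem Q M (a • u + b • d) (c • u + e • d)) : LongMem Q M u ((a * e - b * c) • d) := by
  obtain ⟨h1, h2, hm⟩ := h
  refine ⟨hu, by rw [polar_smul_right, hud, smul_zero], ?_⟩
  convert hm using 1
  refine LinearEquiv.ext fun x => ?_
  simp only [Classical.eichlerEquiv_apply, QuadraticMap.map_add (⇑Q), QuadraticMap.map_smul, polar_add_right,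
    polar_smul_right, polar_smul_left, hu, hd, hud, smul_eq_mul]
  module

end LongMem

/-- Opposite full sets of Eichler transformations give every commutator. -/
theorem commutator_mem_of_long [FiniteDimensional F V] (N : Nd Q) (h5 : 5 ≤ finrank F V) {e f u₀ u₁ : V}
    (he : Q e = 0) (hf : Q f = 0) (hef : polar Q e f = 1) (h0 : u₀ ∈ perp2 Q e f) (h1 : u₁ ∈ perp2 Q e f)
    (hu0 : Q u₀ = 0) (hu1 : Q u₁ = 0) (hu01 : polar Q u₀ u₁ = 1)
    (hA : ∀ d, polar Q e d = 0 → LongMem Q M e d) (hB : ∀ d, polar Q f d = 0 → LongMem Q M f d)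
    {a b : V ≃ₗ[F] V} (ha : a ∈ Classical.isoGroup ⇑Q) (hb : b ∈ Classical.isoGroup ⇑Q) :
    a * b * a⁻¹ * b⁻¹ ∈ M := by
  have hfe : polar Q f e = 1 := by rw [polar_comm, hef]
  let W : Submodule F V := perp2 Q e f
  let Q' : QuadraticForm F W := Q.comp W.subtype
  have hQ' : ∀ z : W, Q' z = Q (z : V) := fun z => rfl
  have hp' : ∀ z z' : W, polar Q' z z' = polar Q (z : V) (z' : V) := fun z z' => rfl
  have hW : ∀ z : W, polar Q (z : V) e = 0 ∧ polar Q (z : V) f = 0 := fun z => by
    rw [polar_comm Q (z : V) e, polar_comm Q (z : V) f]; exact mem_perp2.mp z.2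
  let φ : (F × F × W) ≃ₗ[F] V :=
    { toFun := fun p => p.1 • e + p.2.1 • f + (p.2.2 : V)
      invFun := fun x => (polar Q x f, polar Q x e, ⟨_, proj_mem_perp2 he hf hef x⟩)
      map_add' := fun p q => by simp only [Prod.fst_add, Prod.snd_add, Submodule.coe_add, add_smul]; abel
      map_smul' := fun c p => by
        simp only [Prod.smul_fst, Prod.smul_snd, Submodule.coe_smul, RingHom.id_apply, smul_add, smul_smul,
          smul_eq_mul]
      left_inv := fun p => by
        obtain ⟨h1, h2⟩ := hW p.2.2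
        refine Prod.ext ?_ (Prod.ext ?_ (Subtype.ext ?_))
        · simp [polar_add_left, polar_smul_left, polar_self', hef, hf, h2]
        · simp [polar_add_left, polar_smul_left, polar_self', hfe, he, h1]
        · simp [polar_add_left, polar_smul_left, polar_self', hef, hfe, he, hf, h1, h2]
          abel
      right_inv := fun x => by simp }
  have hφ : ∀ p, φ p = p.1 • e + p.2.1 • f + (p.2.2 : V) := fun p => rfl
  have hQφ : ∀ p, Q (φ p) = Classical.hypExt Q' p := fun p => by
    obtain ⟨h1, h2⟩ := hW p.2.2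
    rw [hφ, QuadraticMap.map_add (⇑Q), QuadraticMap.map_add (⇑Q), QuadraticMap.map_smul, QuadraticMap.map_smul,
      polar_add_left, polar_smul_left, polar_smul_left, polar_smul_left, polar_smul_right, he, hf, hef,
      polar_comm Q e, h1, polar_comm Q f, h2, Classical.hypExt_apply, hQ']
    simp
  have hnd : Classical.IsotropicNondeg Q' ⟨u₀, h0⟩ ⟨u₁, h1⟩ := by
    refine ⟨fun z hz => Subtype.ext (N.nondeg _ fun y => ?_), hu0, hu1, hu01⟩
    obtain ⟨h1, h2⟩ := hW z
    obtain ⟨p, rfl⟩ := φ.surjective y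
    rw [hφ, polar_add_right, polar_add_right, polar_smul_right, polar_smul_right, h1, h2, ← hp', hz]
    simp
  have hle : Classical.eichlerGroup Q' ≤ M.comap (Classical.autConj φ).toMonoidHom := by
    rw [Classical.eichlerGroup, Subgroup.closure_le]
    rintro _ (⟨z, rfl⟩ | ⟨z, rfl⟩) <;> obtain ⟨z1, z2⟩ := hW z
    · obtain ⟨he', hd, hg⟩ := hA (-(z : V)) (by rw [polar_neg_right, polar_comm Q e, z1, neg_zero])
      show Classical.autConj φ (Classical.hypSiegel Q' z) ∈ M
      convert hg using 1
      refine LinearEquiv.ext fun y => ?_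
      obtain ⟨p, rfl⟩ := φ.surjective y
      obtain ⟨h1, h2⟩ := hW p.2.2
      rw [Classical.autConj_apply, LinearEquiv.symm_apply_apply, Classical.eichlerEquiv_apply,
        Classical.hypSiegel_apply, hφ, hφ, hp', hQ']
      simp only [Submodule.coe_add, Submodule.coe_smul, QuadraticMap.map_neg, polar_add_left, polar_smul_left,
        polar_neg_right, polar_self', he, hfe, h1, polar_comm Q e (z : V), z1, polar_comm Q f (z : V), z2,
        polar_comm Q (z : V) (p.2.2 : V), smul_eq_mul]
      match_scalars <;> ring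
    · obtain ⟨hf', hd, hg⟩ := hB (-(z : V)) (by rw [polar_neg_right, polar_comm Q f, z2, neg_zero])
      show Classical.autConj φ (Classical.hypSiegel' Q' z) ∈ M
      convert hg using 1
      refine LinearEquiv.ext fun y => ?_
      obtain ⟨p, rfl⟩ := φ.surjective y
      obtain ⟨h1, h2⟩ := hW p.2.2
      rw [Classical.autConj_apply, LinearEquiv.symm_apply_apply, Classical.eichlerEquiv_apply,
        Classical.hypSiegel'_apply, hφ, hφ, hp', hQ']
      simp only [Submodule.coe_add, Submodule.coe_smul, QuadraticMap.map_neg, polar_add_left, polar_smul_left,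
        polar_neg_right, polar_self', hf, hef, h2, polar_comm Q e (z : V), z1, polar_comm Q f (z : V), z2,
        polar_comm Q (z : V) (p.2.2 : V), smul_eq_mul]
      match_scalars <;> ring
  have conjMem : ∀ {c : V ≃ₗ[F] V}, c ∈ Classical.isoGroup ⇑Q →
      Classical.autConj φ.symm c ∈ Classical.isoGroup ⇑(Classical.hypExt Q') := fun {c} hc p => by
    rw [Classical.autConj_apply, ← hQφ, LinearEquiv.apply_symm_apply, LinearEquiv.symm_symm, hc, hQφ]
  have h := hle (Classical.commutator_mem_eichler hnd (Or.inr (by rw [φ.finrank_eq]; omega))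
    (conjMem ha) (conjMem hb))
  rw [Subgroup.mem_comap, map_mul, map_mul, map_mul, map_inv, map_inv] at h
  have hcancel : ∀ c, (Classical.autConj φ).toMonoidHom (Classical.autConj φ.symm c) = c := fun c =>
    LinearEquiv.ext fun y => by simp [Classical.autConj_apply]
  rwa [hcancel, hcancel] at h

end Cfsg.Agent.Lib.OrthExt
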