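import Cfsg.Agent.Lib.OrthExt.Conf
import Cfsg.Agent.Lib.OrthExt.Long

/-!
Isometries over the extension inside the group move any singular vector to any other, up to a scalar of the base.
-/

set_option autoImplicit false

namespace Cfsg.Agent.Lib.OrthExt

open QuadraticMap Module Cfsg.Agent.Lib Cfsg.Agent.Lib.SympExt

variable {F E V : Type*} [Field F] [Field E] [Algebra F E] [AddCommGroup V] [Module F V] [Module E V]
  [IsScalarTower F E V] {Q : QuadraticForm F V} [Finite E] {D : ExtData E Q} {M : Subgroup (V ≃ₗ[F] V)}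

/-- A singular vector is moved onto a multiple of any other. -/
theorem exists_move_line (hO : Over D M) {x y : V} (hx0 : x ≠ 0) (hx : D.qE x = 0) (hy0 : y ≠ 0)
    (hy : D.qE y = 0) :
    ∃ X : V ≃ₗ[E] V, X ∈ Classical.isoGroup ⇑D.qE ∧ rs X ∈ M ∧ ∃ l : E, l ≠ 0 ∧ X x = l • y := by
  haveI := D.finV
  have h2 := D.two
  obtain ⟨x', hx', hxx⟩ := D.ndE.exists_partner hx0 hx
  obtain ⟨u, hu, hux, huy⟩ : ∃ u, D.qE u = 0 ∧ polar D.qE x u ≠ 0 ∧ polar D.qE y u ≠ 0 := by
    by_contra hno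
    push Not at hno
    -- the partners of the first vector are all orthogonal to the second
    have hd : ∀ d ∈ perp2 D.qE x x', polar D.qE y x' - polar D.qE y d - D.qE d * polar D.qE y x = 0 := by
      intro d hd
      obtain ⟨hd1, hd2⟩ := mem_perp2.mp hd
      have e1 : D.qE (x' - d - D.qE d • x) = 0 := by
        rw [sub_eq_add_neg, sub_eq_add_neg, ← neg_smul, QuadraticMap.map_add (⇑D.qE),
          QuadraticMap.map_add (⇑D.qE), QuadraticMap.map_smul, QuadraticMap.map_neg, polar_neg_right,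
          polar_smul_right, polar_add_left, polar_neg_left, polar_comm D.qE x' x, polar_comm D.qE d x, hxx, hd1,
          hd2, hx, hx']
        simp
      have e2 := hno _ e1 (by
        rw [polar_sub_right, polar_sub_right, polar_smul_right, polar_self', hx, hd1, hxx]; simp)
      rwa [polar_sub_right, polar_sub_right, polar_smul_right, smul_eq_mul] at e2
    have h0 : polar D.qE y x' = 0 := by simpa using hd 0 (Submodule.zero_mem _)
    obtain ⟨q, hq, hqq⟩ : ∃ q ∈ perp2 D.qE x x', D.qE q ≠ 0 := by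
      obtain ⟨b, hb, c, hc, hbq⟩ := exists_perp2_value D hx hx' hxx (one_ne_zero (α := E))
      exact ⟨b, hb, by rw [hbq, mul_one]; simpa using hc⟩
    have hx0' : ∀ d ∈ perp2 D.qE x x', polar D.qE y d = 0 ∧ D.qE d * polar D.qE y x = 0 := by
      intro d hdP
      have e1 := hd d hdP
      have e2 := hd (-d) (Submodule.neg_mem _ hdP)
      rw [h0, polar_neg_right, QuadraticMap.map_neg] at e2
      rw [h0] at e1
      constructor <;> apply mul_left_cancel₀ h2
      · linear_combination e2 - e1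
      · linear_combination -e1 - e2
    have hyx : polar D.qE y x = 0 := (mul_eq_zero.mp (hx0' q hq).2).resolve_left hqq
    apply hy0
    refine D.ndE.nondeg _ fun z => ?_
    have hz := (hx0' _ (proj_mem_perp2 hx hx' hxx z)).1
    rw [polar_sub_right, polar_sub_right, polar_smul_right, polar_smul_right, hyx, h0] at hz
    simpa using hz
  set a := polar D.qE x u
  set b := polar D.qE y u
  have hxa : polar D.qE (a⁻¹ • x) u = 1 := by rw [polar_smul_left, smul_eq_mul, inv_mul_cancel₀ hux]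
  have hyb : polar D.qE (b⁻¹ • y) u = 1 := by rw [polar_smul_left, smul_eq_mul, inv_mul_cancel₀ huy]
  set d := a⁻¹ • x - b⁻¹ • y
  have hud : polar D.qE u d = 0 := by
    rw [polar_comm, polar_sub_left, hxa, hyb, sub_self]
  refine ⟨Classical.eichlerEquiv D.qE u d hu hud, Classical.eichlerEquiv_mem _ _ _ _ _,
    hO.rho_mem u d hu hud, a * b⁻¹, mul_ne_zero hux (inv_ne_zero huy), ?_⟩
  have key : Classical.eichlerEquiv D.qE u d hu hud (a⁻¹ • x) = b⁻¹ • y := by
    rw [Classical.eichlerEquiv_apply, hxa]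
    have e1 : polar D.qE (a⁻¹ • x) d = -polar D.qE (a⁻¹ • x) (b⁻¹ • y) := by
      rw [polar_sub_right, polar_self', QuadraticMap.map_smul, hx]; simp
    have e2 : D.qE d = -polar D.qE (a⁻¹ • x) (b⁻¹ • y) := by
      simp only [d, sub_eq_add_neg, QuadraticMap.map_add (⇑D.qE), QuadraticMap.map_neg, QuadraticMap.map_smul,
        polar_neg_right, hx, hy]
      simp
    rw [e1, e2, mul_one, one_smul, show d = a⁻¹ • x - b⁻¹ • y from rfl]
    module
  have e3 : x = a • a⁻¹ • x := by rw [smul_smul, mul_inv_cancel₀ hux, one_smul]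
  rw [mul_smul]
  conv_lhs => rw [e3, map_smul, key]

/-- A singular vector is scaled by any element, up to the base field. -/
theorem exists_scale_line (hO : Over D M) {u : V} (hu0 : u ≠ 0) (hu : D.qE u = 0) {l : E} (hl : l ≠ 0) :
    ∃ X : V ≃ₗ[E] V, X ∈ Classical.isoGroup ⇑D.qE ∧ rs X ∈ M ∧ ∃ c : F, c ≠ 0 ∧ X u = (c • l) • u := by
  haveI := D.finV
  obtain ⟨u', hu', huu⟩ := D.ndE.exists_partner hu0 hu
  -- one exchange
  have step : ∀ (u u' : V), D.qE u = 0 → D.qE u' = 0 → polar D.qE u u' = 1 → ∀ z : E, z ≠ 0 →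
      ∃ X : V ≃ₗ[E] V, X ∈ Classical.isoGroup ⇑D.qE ∧ rs X ∈ M ∧ ∃ c : F, c ≠ 0 ∧ X u = -(c • z) • u' := by
    intro u u' hu hu' huu z hz
    obtain ⟨b, hb, c, hc, hbq⟩ := exists_perp2_value D hu hu' huu hz
    obtain ⟨hb1, -⟩ := mem_perp2.mp hb
    rw [← Algebra.smul_def] at hbq
    have hm : c • z ≠ 0 := smul_ne_zero hc hz
    have hqa : D.qE (u + (c • z) • u') = c • z := by
      rw [QuadraticMap.map_add (⇑D.qE), QuadraticMap.map_smul, polar_smul_right, hu, hu', huu]; simp
    have hqa0 : D.qE (u + (c • z) • u') ≠ 0 := by rw [hqa]; exact hm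
    have hqb0 : D.qE b ≠ 0 := by rw [hbq]; exact hm
    refine ⟨refl D.qE _ hqa0 * refl D.qE b hqb0, mul_mem (refl_mem _ hqa0) (refl_mem _ hqb0),
      hO.refl_pair_mem hqa0 hqb0 (hqa.trans hbq.symm), c, hc, ?_⟩
    rw [LinearEquiv.mul_apply, refl_of_perp hqb0 hb1, refl_apply, polar_add_right, polar_smul_right, polar_self',
      hu, huu, hqa, smul_eq_mul, mul_one, mul_zero, zero_add, div_self hm, one_smul, sub_add_cancel_left, neg_smul]
  obtain ⟨X, hX, hXM, c, hc, hXu⟩ := step u u' hu hu' huu l hl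
  obtain ⟨Y, hY, hYM, c', hc', hYu⟩ := step u' u hu' hu (by rw [polar_comm]; exact huu) 1 one_ne_zero
  refine ⟨Y * X, mul_mem hY hX, by rw [map_mul]; exact mul_mem hYM hXM, c * c', mul_ne_zero hc hc', ?_⟩
  rw [LinearEquiv.mul_apply, hXu, map_smul, hYu, smul_smul]
  congr 1
  rw [Algebra.smul_def, Algebra.smul_def, Algebra.smul_def, map_mul]
  ring

/-- A singular vector is moved to any other, up to the base field. -/
theorem exists_move (hO : Over D M) {x y : V} (hx0 : x ≠ 0) (hx : D.qE x = 0) (hy0 : y ≠ 0) (hy : D.qE y = 0) :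
    ∃ X : V ≃ₗ[E] V, X ∈ Classical.isoGroup ⇑D.qE ∧ rs X ∈ M ∧ ∃ c : F, c ≠ 0 ∧ X x = c • y := by
  obtain ⟨X, hX, hXM, l, hl, hXx⟩ := exists_move_line hO hx0 hx hy0 hy
  obtain ⟨Y, hY, hYM, c, hc, hYy⟩ := exists_scale_line hO hy0 hy (inv_ne_zero hl)
  refine ⟨Y * X, mul_mem hY hX, by rw [map_mul]; exact mul_mem hYM hXM, c, hc, ?_⟩
  rw [LinearEquiv.mul_apply, hXx, map_smul, hYy, smul_smul, mul_smul_comm, mul_inv_cancel₀ hl, smul_assoc,
    one_smul]

end Cfsg.Agent.Lib.OrthExt
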