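import Mathlib
import Cfsg.Agent.Lib.Classical.Eichler

/-!
Elementary tools on a non-degenerate quadratic space in odd characteristic: partners, represented values,
reflections, hyperbolic scalings, and commutator forms of Eichler transformations.
-/

set_option autoImplicit false

namespace Cfsg.Agent.Lib.OrthExt

open QuadraticMap Module Cfsg.Agent.Lib

variable {K W : Type*} [Field K] [AddCommGroup W] [Module K W] {q : QuadraticForm K W}

/-- A non-degenerate quadratic space in odd characteristic. -/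
structure Nd (q : QuadraticForm K W) : Prop where
  two : (2 : K) ≠ 0
  nondeg : ∀ z, (∀ w, polar q z w = 0) → z = 0

theorem polar_self' (q : QuadraticForm K W) (x : W) : polar q x x = 2 * q x := by
  rw [polar_self, two_nsmul, two_mul]

namespace Nd

variable (N : Nd q)
include N

theorem exists_pair {x : W} (hx : x ≠ 0) : ∃ y, polar q x y = 1 := by
  obtain ⟨y, hy⟩ : ∃ y, polar q x y ≠ 0 := by
    by_contra h
    push Not at h
    exact hx (N.nondeg x h)
  exact ⟨(polar q x y)⁻¹ • y, by rw [polar_smul_right, smul_eq_mul, inv_mul_cancel₀ hy]⟩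

theorem bil_nondeg : (QuadraticMap.polarBilin q).Nondegenerate :=
  ⟨fun z hz => N.nondeg z fun w => by simpa using hz w,
    fun z hz => N.nondeg z fun w => by rw [polar_comm]; simpa using hz w⟩

/-- A vector outside a subspace is separated from it. -/
theorem exists_sep [FiniteDimensional K W] {S : Submodule K W} {y : W} (hy : y ∉ S) :
    ∃ u, (∀ s ∈ S, polar q u s = 0) ∧ polar q u y = 1 := by
  obtain ⟨φ, hφ, hS⟩ := Submodule.exists_dual_map_eq_bot_of_notMem hy inferInstance
  set u := (LinearMap.BilinForm.toDual (QuadraticMap.polarBilin q) N.bil_nondeg).symm φ with hu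
  have key : ∀ v, polar q u v = φ v := fun v => by
    rw [← QuadraticMap.polarBilin_apply_apply, hu, LinearMap.BilinForm.apply_toDual_symm_apply]
  refine ⟨(φ y)⁻¹ • u, fun s hs => ?_, ?_⟩
  · have h : φ s ∈ S.map φ := ⟨s, hs, rfl⟩
    rw [hS, Submodule.mem_bot] at h
    rw [polar_smul_left, key, h, smul_eq_mul, mul_zero]
  · rw [polar_smul_left, key, smul_eq_mul, inv_mul_cancel₀ hφ]

theorem exists_partner {u : W} (hu0 : u ≠ 0) (hu : q u = 0) : ∃ u', q u' = 0 ∧ polar q u u' = 1 := by
  obtain ⟨y, hy⟩ := N.exists_pair hu0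
  refine ⟨y + (-q y) • u, ?_, ?_⟩
  · rw [QuadraticMap.map_add (⇑q), QuadraticMap.map_smul, hu, polar_smul_right, polar_comm q y u, hy]
    simp
  · rw [polar_add_right, polar_smul_right, polar_self', hu, hy]
    simp

end Nd

variable (q) in
/-- The vectors orthogonal to both of two vectors. -/
def perp2 (u v : W) : Submodule K W :=
  LinearMap.ker (QuadraticMap.polarBilin q u) ⊓ LinearMap.ker (QuadraticMap.polarBilin q v)

theorem mem_perp2 {u v x : W} : x ∈ perp2 q u v ↔ polar q u x = 0 ∧ polar q v x = 0 := Iff.rfl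

variable (q) in
/-- The vectors orthogonal to one vector. -/
def perp1 (u : W) : Submodule K W := LinearMap.ker (QuadraticMap.polarBilin q u)

theorem mem_perp1 {u x : W} : x ∈ perp1 q u ↔ polar q u x = 0 := Iff.rfl

/-- The orthogonal part of a vector along a hyperbolic pair. -/
theorem proj_mem_perp2 {u u' : W} (hu : q u = 0) (hu' : q u' = 0) (h : polar q u u' = 1) (x : W) :
    x - polar q x u' • u - polar q x u • u' ∈ perp2 q u u' := by
  rw [mem_perp2]
  simp only [polar_sub_right, polar_smul_right, polar_self', hu, hu', h, polar_comm q u' u, polar_comm q u x,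
    polar_comm q u' x, smul_eq_mul]
  constructor <;> ring

/-- `P` carries a non-degenerate form. -/
def NdOn (q : QuadraticForm K W) (P : Submodule K W) : Prop :=
  ∀ x ∈ P, x ≠ 0 → ∃ y ∈ P, polar q x y ≠ 0

theorem ndOn_perp2 (N : Nd q) {u u' : W} (hu : q u = 0) (hu' : q u' = 0) (h : polar q u u' = 1) :
    NdOn q (perp2 q u u') := by
  intro x hx hx0
  obtain ⟨y, hy⟩ := N.exists_pair hx0
  refine ⟨_, proj_mem_perp2 hu hu' h y, ?_⟩
  obtain ⟨h1, h2⟩ := mem_perp2.mp hx
  simp [polar_sub_right, polar_smul_right, hy, polar_comm q x u, polar_comm q x u', h1, h2]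

theorem ndOn_perp1 (N : Nd q) {u : W} (hu : q u ≠ 0) : NdOn q (perp1 q u) := by
  intro x hx hx0
  rw [mem_perp1] at hx
  obtain ⟨y, hy⟩ := N.exists_pair hx0
  refine ⟨y - (polar q u y / (2 * q u)) • u, ?_, ?_⟩
  · rw [mem_perp1, polar_sub_right, polar_smul_right, polar_self', smul_eq_mul,
      div_mul_cancel₀ _ (mul_ne_zero N.two hu), sub_self]
  · simp [polar_sub_right, polar_smul_right, hy, polar_comm q x u, hx]

theorem finrank_ker_le [FiniteDimensional K W] (φ : W →ₗ[K] K) (P : Submodule K W) :
    finrank K P ≤ finrank K (P ⊓ LinearMap.ker φ : Submodule K W) + 1 := by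
  have h1 := (φ.comp P.subtype).finrank_range_add_finrank_ker
  have h2 := Submodule.finrank_le (LinearMap.range (φ.comp P.subtype))
  rw [finrank_self] at h2
  rw [LinearMap.ker_comp] at h1
  have h4 : finrank K ((LinearMap.ker φ).comap P.subtype) = finrank K (P ⊓ LinearMap.ker φ : Submodule K W) := by
    rw [← Submodule.finrank_map_subtype_eq, Submodule.map_comap_subtype]
  omega

theorem finrank_perp2 [FiniteDimensional K W] (u v : W) : finrank K W ≤ finrank K (perp2 q u v) + 2 := by
  have h1 := finrank_ker_le (QuadraticMap.polarBilin q u) (⊤ : Submodule K W)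
  rw [finrank_top, top_inf_eq] at h1
  have h2 := finrank_ker_le (QuadraticMap.polarBilin q v) (LinearMap.ker (QuadraticMap.polarBilin q u))
  change _ ≤ finrank K (perp2 q u v) + 1 at h2
  omega

theorem finrank_perp1 [FiniteDimensional K W] (u : W) : finrank K W ≤ finrank K (perp1 q u) + 1 := by
  have h1 := finrank_ker_le (QuadraticMap.polarBilin q u) (⊤ : Submodule K W)
  rwa [finrank_top, top_inf_eq] at h1

/-- An anisotropic vector not orthogonal to a given one. -/
theorem NdOn.exists_anis (h2 : (2 : K) ≠ 0) {P : Submodule K W} (hP : NdOn q P) {x : W} {p : W} (hp : p ∈ P)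
    (hxp : polar q x p ≠ 0) : ∃ a ∈ P, q a ≠ 0 ∧ polar q x a ≠ 0 := by
  by_cases hq : q p ≠ 0
  · exact ⟨p, hp, hq, hxp⟩
  push Not at hq
  have hp0 : p ≠ 0 := fun e => hxp (by rw [e, polar_zero_right])
  obtain ⟨y, hy, hpy⟩ := hP p hp hp0
  have hQ : ∀ c : K, q (y + c • p) = q y + c * polar q p y := fun c => by
    rw [QuadraticMap.map_add (⇑q), QuadraticMap.map_smul, hq, polar_smul_right, polar_comm q y p]
    simp
  by_contra hno
  push Not at hno
  have hf : ∀ c : K, q y + c * polar q p y ≠ 0 → polar q x y + c * polar q x p = 0 := fun c hc => by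
    have h := hno (y + c • p) (P.add_mem hy (P.smul_mem c hp)) (by rwa [hQ])
    rwa [polar_add_right, polar_smul_right, smul_eq_mul] at h
  set c0 := -q y / polar q p y with hc0
  have e : ∀ d : K, q y + (c0 + d) * polar q p y = d * polar q p y := fun d => by
    rw [hc0]; field_simp; ring
  have h1 := hf (c0 + 1) (by rw [e, one_mul]; exact hpy)
  have h2' := hf (c0 + -1) (by rw [e]; exact mul_ne_zero (neg_ne_zero.mpr one_ne_zero) hpy)
  have h3 : (2 : K) * polar q x p = 0 := by linear_combination h1 - h2'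
  exact hxp ((mul_eq_zero.mp h3).resolve_left h2)

/-- A non-degenerate space of dimension at least two represents every value. -/
theorem NdOn.exists_value [Finite K] [FiniteDimensional K W] (h2 : (2 : K) ≠ 0) {P : Submodule K W}
    (hP : NdOn q P) (hd : 2 ≤ finrank K P) {c : K} (hc : c ≠ 0) : ∃ x ∈ P, x ≠ 0 ∧ q x = c := by
  classical
  haveI := Fintype.ofFinite K
  obtain ⟨x₀, hx₀, hx₀0⟩ := Submodule.exists_mem_ne_zero_of_ne_bot (p := P) fun e => by
    rw [e, finrank_bot] at hd; omega
  obtain ⟨y₀, hy₀, hxy⟩ := hP x₀ hx₀ hx₀0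
  obtain ⟨a, ha, haq, -⟩ := hP.exists_anis h2 hy₀ hxy
  obtain ⟨z, ⟨hz, hza⟩, hz0⟩ := Submodule.exists_mem_ne_zero_of_ne_bot
    (p := P ⊓ LinearMap.ker (QuadraticMap.polarBilin q a)) fun e => by
      have h := finrank_ker_le (QuadraticMap.polarBilin q a) P
      rw [e, finrank_bot] at h; omega
  replace hza : polar q a z = 0 := hza
  obtain ⟨w, hw, hzw⟩ := hP z hz hz0
  set w' := w - (polar q a w / (2 * q a)) • a with hw'
  have hw'a : polar q a w' = 0 := by
    rw [hw', polar_sub_right, polar_smul_right, polar_self', smul_eq_mul,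
      div_mul_cancel₀ _ (mul_ne_zero h2 haq), sub_self]
  have hw'P : w' ∈ P := P.sub_mem hw (P.smul_mem _ ha)
  have hzw' : polar q z w' ≠ 0 := by
    rw [hw', polar_sub_right, polar_smul_right, polar_comm q z a, hza, smul_zero, sub_zero]; exact hzw
  obtain ⟨b, hb, hba, hbq⟩ : ∃ b ∈ P, polar q a b = 0 ∧ q b ≠ 0 := by
    by_cases h : q z ≠ 0
    · exact ⟨z, hz, hza, h⟩
    by_cases h' : q w' ≠ 0
    · exact ⟨w', hw'P, hw'a, h'⟩
    push Not at h h'
    exact ⟨z + w', P.add_mem hz hw'P, by rw [polar_add_right, hza, hw'a, add_zero],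
      by rw [QuadraticMap.map_add (⇑q), h, h', zero_add, zero_add]; exact hzw'⟩
  have hval : ∀ s t : K, q (s • a + t • b) = s * s * q a + t * t * q b := fun s t => by
    rw [QuadraticMap.map_add (⇑q), QuadraticMap.map_smul, QuadraticMap.map_smul, polar_smul_left,
      polar_smul_right, hba]
    simp
  obtain ⟨s, t, hst⟩ := FiniteField.exists_root_sum_quadratic (R := K)
    (f := Polynomial.C (q a) * Polynomial.X ^ 2 + Polynomial.C (-c))
    (g := Polynomial.C (q b) * Polynomial.X ^ 2)
    (by compute_degree!) (by compute_degree!)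
    (FiniteField.odd_card_of_char_ne_two fun e => h2 (by
      haveI := ringChar.of_eq e
      exact CharTwo.two_eq_zero))
  simp only [Polynomial.eval_add, Polynomial.eval_mul, Polynomial.eval_C, Polynomial.eval_pow,
    Polynomial.eval_X] at hst
  refine ⟨_, P.add_mem (P.smul_mem s ha) (P.smul_mem t hb), fun e => hc ?_, by rw [hval]; linear_combination hst⟩
  have h := hval s t
  rw [e, QuadraticMap.map_zero] at h
  linear_combination -h - hst

/-- A non-degenerate space of dimension at least three has a singular vector. -/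
theorem NdOn.exists_sing [Finite K] [FiniteDimensional K W] (h2 : (2 : K) ≠ 0) {P : Submodule K W}
    (hP : NdOn q P) (hd : 3 ≤ finrank K P) : ∃ x ∈ P, x ≠ 0 ∧ q x = 0 := by
  obtain ⟨x, hx, hx0, hqx⟩ := hP.exists_value h2 (by omega) (one_ne_zero (α := K))
  have hP' : NdOn q (P ⊓ perp1 q x) := by
    intro y hy hy0
    obtain ⟨hyP, hyx⟩ := hy
    obtain ⟨z, hz, hyz⟩ := hP y hyP hy0
    refine ⟨z - (polar q x z / 2) • x, ⟨P.sub_mem hz (P.smul_mem _ hx), ?_⟩, ?_⟩
    · show polar q x _ = 0
      rw [polar_sub_right, polar_smul_right, polar_self', hqx, smul_eq_mul, mul_one, div_mul_cancel₀ _ h2, sub_self]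
    · have hyx' : polar q y x = 0 := by rw [polar_comm]; exact hyx
      rw [polar_sub_right, polar_smul_right, hyx', smul_zero, sub_zero]; exact hyz
  have hd' : 2 ≤ finrank K (P ⊓ perp1 q x : Submodule K W) := by
    have h := finrank_ker_le (QuadraticMap.polarBilin q x) P
    change _ ≤ finrank K (P ⊓ perp1 q x : Submodule K W) + 1 at h
    omega
  obtain ⟨y, ⟨hy, hyx⟩, -, hqy⟩ := hP'.exists_value h2 hd' (neg_ne_zero.mpr (one_ne_zero (α := K)))
  have hyx' : polar q x y = 0 := hyx
  refine ⟨x + y, P.add_mem hx hy, fun e => ?_, ?_⟩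
  · rw [← neg_eq_of_add_eq_zero_right e, QuadraticMap.map_neg, hqx] at hqy
    exact h2 (by linear_combination hqy)
  · rw [QuadraticMap.map_add (⇑q), hqx, hqy, hyx']; ring

end Cfsg.Agent.Lib.OrthExt
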