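import Cfsg.Agent.Lib.OrthExt.Data

/-!
Rotations of anisotropic planes: a subspace over `F` stable under the squares of products of two reflections
contains a line over the extension.
-/

set_option autoImplicit false

namespace Cfsg.Agent.Lib.OrthExt

open QuadraticMap Module Cfsg.Agent.Lib Cfsg.Agent.Lib.SympExt

variable {F E V : Type*} [Field F] [Field E] [Algebra F E] [AddCommGroup V] [Module F V] [Module E V]
  [IsScalarTower F E V] {Q : QuadraticForm F V} [Finite E]

theorem NdOn.inf_perp1 {K W : Type*} [Field K] [AddCommGroup W] [Module K W] {q : QuadraticForm K W}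
    (h2 : (2 : K) ≠ 0) {P : Submodule K W} (hP : NdOn q P) {a : W} (ha : a ∈ P) (haq : q a ≠ 0) :
    NdOn q (P ⊓ perp1 q a) := by
  intro x hx hx0
  obtain ⟨hxP, hxa⟩ := hx
  obtain ⟨y, hy, hxy⟩ := hP x hxP hx0
  have hxa' : polar q x a = 0 := by rw [polar_comm]; exact hxa
  refine ⟨y - (polar q a y / (2 * q a)) • a, ⟨P.sub_mem hy (P.smul_mem _ ha), ?_⟩, ?_⟩
  · show polar q a _ = 0
    rw [polar_sub_right, polar_smul_right, polar_self', smul_eq_mul,
      div_mul_cancel₀ _ (mul_ne_zero h2 haq), sub_self]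
  · rw [polar_sub_right, polar_smul_right, hxa', smul_zero, sub_zero]; exact hxy

theorem finrank_inf_perp1 {K W : Type*} [Field K] [AddCommGroup W] [Module K W] [FiniteDimensional K W]
    (q : QuadraticForm K W) (P : Submodule K W) (a : W) :
    finrank K P ≤ finrank K (P ⊓ perp1 q a : Submodule K W) + 1 :=
  finrank_ker_le (QuadraticMap.polarBilin q a) P

/-- The square of a product of two reflections. -/
noncomputable def rot (D : ExtData E Q) (a b : V) (ha : D.qE a ≠ 0) (hb : D.qE b ≠ 0) : V ≃ₗ[F] V :=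
  rs (refl D.qE a ha * refl D.qE b hb * (refl D.qE a ha * refl D.qE b hb))

theorem rot_fix (D : ExtData E Q) {a b x : V} (ha : D.qE a ≠ 0) (hb : D.qE b ≠ 0)
    (h1 : polar D.qE x a = 0) (h2 : polar D.qE x b = 0) : rot D a b ha hb x = x := by
  simp [rot, rs_apply, refl_of_perp ha h1, refl_of_perp hb h2]

theorem rot_plane (D : ExtData E Q) {a a' : V} {y : E} (ha : D.qE a ≠ 0) (ha' : D.qE a' ≠ 0)
    (hperp : polar D.qE a a' = 0) (hb : D.qE (a + y • a') ≠ 0) (x : V) :
    rot D a (a + y • a') ha hb x + rot D (a + y • a') a hb ha x - (2 : E) • x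
      = (4 * ((D.qE a - y * y * D.qE a') / (D.qE a + y * y * D.qE a'))
          * ((D.qE a - y * y * D.qE a') / (D.qE a + y * y * D.qE a')) - 4)
        • ((polar D.qE x a / (2 * D.qE a)) • a + (polar D.qE x a' / (2 * D.qE a')) • a') := by
  have h2 := D.two
  set α := D.qE a with hα
  set α' := D.qE a' with hα'
  have hb' : D.qE (a + y • a') = α + y * y * α' := by
    rw [QuadraticMap.map_add (⇑D.qE), QuadraticMap.map_smul, polar_smul_right, hperp, ← hα, ← hα']
    simp
  have hd : α + y * y * α' ≠ 0 := hb' ▸ hb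
  have hperp' : polar D.qE a' a = 0 := by rw [polar_comm, hperp]
  simp only [rot, rs_apply, LinearEquiv.mul_apply, refl_apply, hb', ← hα, polar_sub_left, polar_add_left,
    polar_smul_left, polar_add_right, polar_smul_right, polar_self', hperp, hperp', ← hα', smul_eq_mul]
  obtain ⟨δ, hδ⟩ : ∃ δ, δ = α + y * y * α' := ⟨_, rfl⟩
  rw [← hδ] at hd ⊢
  match_scalars <;> field_simp <;> (subst hδ; ring)

/-- A subspace stable under the rotations in a non-degenerate subspace, not orthogonal to it, contains a line of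
it. -/
theorem exists_line (D : ExtData E Q) {P : Submodule E V} (hP : NdOn D.qE P) (hd : 2 ≤ finrank E P)
    (hd' : finrank F E = 2 → 3 ≤ finrank E P) {U : Submodule F V}
    (hU : ∀ a ∈ P, ∀ b ∈ P, ∀ (ha : D.qE a ≠ 0) (hb : D.qE b ≠ 0), ∀ x ∈ U, rot D a b ha hb x ∈ U)
    {u p₀ : V} (hu : u ∈ U) (hp₀ : p₀ ∈ P) (hup : polar D.qE u p₀ ≠ 0) :
    ∃ p ∈ P, p ≠ 0 ∧ ∀ e : E, e • p ∈ U := by
  haveI := D.finV
  have h2 := D.two
  obtain ⟨a, haP, ha, hua⟩ := hP.exists_anis h2 hp₀ hup
  set P' := P ⊓ perp1 D.qE a with hP'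
  have hP'nd : NdOn D.qE P' := hP.inf_perp1 h2 haP ha
  have hP'd : finrank E P ≤ finrank E P' + 1 := finrank_inf_perp1 D.qE P a
  obtain ⟨a', y, ha'P, ha', hb, hθ⟩ : ∃ (a' : V) (y : E), a' ∈ P' ∧ D.qE a' ≠ 0 ∧
      D.qE a + y * y * D.qE a' ≠ 0 ∧
      ¬ IsF F (((D.qE a - y * y * D.qE a') / (D.qE a + y * y * D.qE a'))
          * ((D.qE a - y * y * D.qE a') / (D.qE a + y * y * D.qE a'))) := by
    by_cases hr2 : finrank F E = 2
    · obtain ⟨e, he⟩ := exists_sq_mul_not_isF (F := F) D.prime h2 (one_ne_zero (α := E))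
      rw [mul_one] at he
      have h1 : 1 + e ≠ 0 := fun h0 => he (isF_iff.mpr ⟨1, by
        rw [map_one, eq_neg_of_add_eq_zero_right h0]; ring⟩)
      have h1' : 1 - e ≠ 0 := fun h0 => he (isF_iff.mpr ⟨1, by rw [map_one, ← sub_eq_zero.mp h0, one_mul]⟩)
      have hd3 := hd' hr2
      obtain ⟨a', ha'P, -, ha'⟩ := hP'nd.exists_value h2 (by omega)
        (mul_ne_zero ha (div_ne_zero h1' h1))
      refine ⟨a', 1, ha'P, by rw [ha']; exact mul_ne_zero ha (div_ne_zero h1' h1), ?_, ?_⟩
      · rw [ha', show D.qE a + 1 * 1 * (D.qE a * ((1 - e) / (1 + e))) = D.qE a * 2 / (1 + e) by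
          field_simp; ring]
        exact div_ne_zero (mul_ne_zero ha h2) h1
      · rw [ha', show (D.qE a - 1 * 1 * (D.qE a * ((1 - e) / (1 + e))))
            / (D.qE a + 1 * 1 * (D.qE a * ((1 - e) / (1 + e)))) = e by
          rw [div_eq_iff]
          · field_simp; ring
          · rw [show D.qE a + 1 * 1 * (D.qE a * ((1 - e) / (1 + e))) = D.qE a * 2 / (1 + e) by
              field_simp; ring]
            exact div_ne_zero (mul_ne_zero ha h2) h1]
        exact he
    · obtain ⟨z, hz, hz0⟩ := Submodule.exists_mem_ne_zero_of_ne_bot (p := P') fun e => by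
        rw [e, finrank_bot] at hP'd; omega
      obtain ⟨z', hz', hzz⟩ := hP'nd z hz hz0
      obtain ⟨a', ha'P, ha', -⟩ := hP'nd.exists_anis h2 hz' hzz
      obtain ⟨y, hy⟩ := exists_sq_mul_not_isF (F := F) D.prime h2 (div_ne_zero ha' ha)
      have hd0 : D.qE a + y * y * D.qE a' ≠ 0 := fun h0 => hy (isF_iff.mpr ⟨-1, by
        rw [map_neg, map_one]; field_simp; linear_combination -h0⟩)
      refine ⟨a', y, ha'P, ha', hd0, fun h => hy ?_⟩
      obtain ⟨c, hc⟩ := isF_iff.mp (isF_of_sq D.prime hr2 h)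
      have hk : algebraMap F E c * (D.qE a + y * y * D.qE a') = D.qE a - y * y * D.qE a' := by
        rw [hc, div_mul_cancel₀ _ hd0]
      have hc1 : (1 : E) + algebraMap F E c ≠ 0 := fun h0 => mul_ne_zero h2 ha (by
        linear_combination (D.qE a + y * y * D.qE a') * h0 - hk)
      refine isF_iff.mpr ⟨(1 - c) / (1 + c), ?_⟩
      rw [map_div₀, map_sub, map_add, map_one, div_eq_iff hc1]
      field_simp
      linear_combination -hk
  set ε := (D.qE a - y * y * D.qE a') / (D.qE a + y * y * D.qE a') with hε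
  have hperp : polar D.qE a a' = 0 := ha'P.2
  have hb' : D.qE (a + y • a') ≠ 0 := by
    rw [QuadraticMap.map_add (⇑D.qE), QuadraticMap.map_smul, polar_smul_right, hperp]
    simpa using hb
  have hbP : a + y • a' ∈ P := P.add_mem haP (P.smul_mem _ ha'P.1)
  set π : V → V := fun x => (polar D.qE x a / (2 * D.qE a)) • a + (polar D.qE x a' / (2 * D.qE a')) • a'
    with hπ
  have key : ∀ x ∈ U, (4 * ε * ε - 4) • π x ∈ U := fun x hx => by
    rw [hπ, hε, ← rot_plane D ha ha' hperp hb' x, two_smul]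
    exact U.sub_mem (U.add_mem (hU _ haP _ hbP ha hb' x hx) (hU _ hbP _ haP hb' ha x hx)) (U.add_mem hx hx)
  have hπP : ∀ x, π x ∈ P := fun x => P.add_mem (P.smul_mem _ haP) (P.smul_mem _ ha'P.1)
  have hππ : ∀ x (e : E), π (e • π x) = e • π x := fun x e => by
    have hperp' : polar D.qE a' a = 0 := by rw [polar_comm, hperp]
    simp only [hπ, polar_smul_left, polar_add_left, polar_self', hperp, hperp', smul_eq_mul]
    match_scalars <;> field_simp <;> ring
  have hc : (4 * ε * ε - 4 : E) ≠ 0 := fun h0 => hθ (isF_iff.mpr ⟨1, by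
    rw [map_one]
    have h4 : (4 : E) ≠ 0 := by rw [show (4 : E) = 2 * 2 by norm_num]; exact mul_ne_zero h2 h2
    exact mul_left_cancel₀ h4 (by linear_combination -h0)⟩)
  refine ⟨(4 * ε * ε - 4) • π u, P.smul_mem _ (hπP u), smul_ne_zero hc fun h0 => hua ?_, fun e => ?_⟩
  · have h := congrArg (polar D.qE a) h0
    simp only [hπ, polar_add_right, polar_smul_right, polar_self', hperp, mul_zero, add_zero, smul_eq_mul,
      polar_zero_right] at h
    rw [div_mul_cancel₀ _ (mul_ne_zero h2 ha)] at h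
    exact h
  · set p := (4 * ε * ε - 4) • π u
    let S : Submodule F E := U.comap ((LinearMap.toSpanSingleton E V p).restrictScalars F)
    have h1 : (1 : E) ∈ S := by
      show (1 : E) • p ∈ U
      rw [one_smul]; exact key u hu
    have hst : ∀ x ∈ S, (4 * ε * ε - 4) * x ∈ S := fun x hx => by
      show ((4 * ε * ε - 4) * x) • p ∈ U
      have h := key (x • p) hx
      rwa [show x • p = (x * (4 * ε * ε - 4)) • π u from (mul_smul _ _ _).symm, hππ, smul_smul,
        show (4 * ε * ε - 4) * (x * (4 * ε * ε - 4)) = ((4 * ε * ε - 4) * x) * (4 * ε * ε - 4) by ring,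
        mul_smul] at h
    have hnF : ¬ IsF F (4 * ε * ε - 4 : E) := fun h => hθ (by
      obtain ⟨c, hc⟩ := isF_iff.mp h
      refine isF_iff.mpr ⟨(c + 4) / 4, ?_⟩
      have h4 : (4 : E) ≠ 0 := by rw [show (4 : E) = 2 * 2 by norm_num]; exact mul_ne_zero h2 h2
      rw [map_div₀, map_add, map_ofNat, hc, div_eq_iff h4]; ring)
    have := mul_mem_of_stable D.prime hnF hst e h1
    rwa [mul_one] at this

end Cfsg.Agent.Lib.OrthExt
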