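import Cfsg.Agent.Lib.OrthExt.Alt
import Cfsg.Agent.Lib.OrthExt.Moves

/-!
A long root element meeting a singular line outside its orthogonal complement over the extension.
-/

set_option autoImplicit false

namespace Cfsg.Agent.Lib.OrthExt

open QuadraticMap Module Cfsg.Agent.Lib Cfsg.Agent.Lib.SympExt

variable {F E V : Type*} [Field F] [Field E] [Algebra F E] [AddCommGroup V] [Module F V] [Module E V]
  [IsScalarTower F E V] {Q : QuadraticForm F V} [Finite E] {D : ExtData E Q} {M : Subgroup (V ≃ₗ[F] V)}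

theorem longMem_of_dec (hO : Over D M) {v : V} (hv : D.qE v = 0) {p q : E} (h : AltMem D M v (dec p q)) :
    LongMem Q M (p • v) (q • v) := by
  obtain ⟨z, hz, ez⟩ := h
  have hQp : ∀ e : E, Q (e • v) = 0 := fun e => by rw [D.Q_smul, hv, mul_zero, map_zero]
  have hpol : polar Q (p • v) (q • v) = 0 := by
    rw [polar, ← add_smul, hQp, hQp, hQp, sub_zero, sub_zero]
  refine ⟨hQp p, hpol, ?_⟩
  convert hz using 1
  refine LinearEquiv.ext fun x => ?_
  have e : ∀ e : E, polar Q x (e • v) = Algebra.trace F E (polar D.qE x v * e) := fun e => by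
    rw [← D.adj, ← D.trace_polar, mul_comm]
  rw [Classical.eichlerEquiv_apply, ez, dec_apply, hQp, e, e, zero_mul, zero_smul, sub_zero, sub_smul,
    smul_assoc, smul_assoc]
  abel

/-- Some line contains a long root element. -/
theorem exists_line_long (hO : Over D M) (h : HasConf D M (finrank F E - 1)) :
    ∃ w : V, w ≠ 0 ∧ D.qE w = 0 ∧ ∃ f : E, ¬ IsF F f ∧ LongMem Q M w (f • w) := by
  haveI := D.finE
  obtain ⟨n, hn, v, hv0, hv, x₀, f, hx₀, hfx, hf, hnv⟩ := exists_transv hO h
  suffices hpq : ∃ p q : E, p ≠ 0 ∧ q ∉ Submodule.span F ({p} : Set E) ∧ AltMem D M v (dec p q) by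
    obtain ⟨p, q, hp, hq, hd⟩ := hpq
    refine ⟨p • v, smul_ne_zero hp hv0, by rw [QuadraticMap.map_smul, hv, smul_zero], q / p, fun hc => hq ?_, ?_⟩
    · obtain ⟨c, hc⟩ := isF_iff.mp hc
      exact Submodule.mem_span_singleton.mpr ⟨c, by rw [Algebra.smul_def, hc, div_mul_cancel₀ _ hp]⟩
    · rw [smul_smul, div_mul_cancel₀ _ hp]; exact longMem_of_dec hO hv hd
  by_cases hodd : finrank F E = 2
  · obtain ⟨ψ, hψ0, hψ⟩ := exists_alt hO hv0 hv hn hx₀ hfx hf hnv
    obtain ⟨ω, hω⟩ := exists_not_isF (F := F) (E := E) D.prime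
    have hli : LinearIndependent F ![(1 : E), ω] := by
      refine (LinearIndependent.pair_iff' (one_ne_zero (α := E))).mpr fun c h => hω ?_
      exact isF_iff.mpr ⟨c, by rw [Algebra.algebraMap_eq_smul_one, h]⟩
    have htop : Submodule.span F (Set.range ![(1 : E), ω]) = ⊤ :=
      hli.span_eq_top_of_card_eq_finrank (by simp [hodd])
    set m := Algebra.trace F E (ψ 1 * ω) with hm
    have hsk := hψ.skew hO hv hv0
    have h11 : Algebra.trace F E (ψ 1 * 1) = 0 := by
      have := hsk 1 1
      rw [one_mul, mul_one, ← two_mul, mul_eq_zero] at this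
      rw [mul_one]; exact this.resolve_left D.nd.two
    have hωω : Algebra.trace F E (ω * ψ ω) = 0 := by
      have := hsk ω ω
      rw [mul_comm (ψ ω), ← two_mul, mul_eq_zero] at this
      exact this.resolve_left D.nd.two
    have hω1 : Algebra.trace F E (1 * ψ ω) = -m := by
      have := hsk 1 ω
      rw [← hm] at this
      linear_combination this
    have hext : ∀ {χ : E →ₗ[F] E}, χ 1 = ψ 1 → χ ω = ψ ω → χ = ψ := fun {χ} h1 h2 =>
      LinearMap.ext_on htop fun x hx => by
        obtain ⟨i, rfl⟩ := hx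
        fin_cases i <;> simp [h1, h2]
    have hm0 : m ≠ 0 := fun hm0 => by
      apply hψ0
      have hz : ∀ y : E, Algebra.trace F E (1 * y) = 0 → Algebra.trace F E (ω * y) = 0 → y = 0 := by
        intro y h1 h2
        refine eq_zero_of_trace (F := F) fun e => ?_
        have : (Algebra.trace F E).comp (LinearMap.mulRight F y) = 0 :=
          LinearMap.ext_on htop fun x hx => by
            obtain ⟨i, rfl⟩ := hx
            fin_cases i
            · exact h1
            · exact h2
        exact LinearMap.congr_fun this e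
      refine (hext (χ := 0) ?_ ?_).symm
      · rw [hz (ψ 1) (by rw [mul_comm]; exact h11) (by rw [mul_comm, ← hm, hm0]), LinearMap.zero_apply]
      · rw [hz (ψ ω) (by rw [hω1, hm0, neg_zero]) hωω, LinearMap.zero_apply]
    have heq : dec (m⁻¹ • ψ ω) (ψ 1) = ψ := by
      refine hext ?_ ?_ <;> rw [dec_apply]
      · rw [mul_comm 1 (ψ 1), h11, zero_smul, zero_sub, mul_smul_comm, (Algebra.trace F E).map_smul, hω1,
          smul_eq_mul, mul_neg, inv_mul_cancel₀ hm0, neg_smul, neg_neg, one_smul]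
      · rw [mul_smul_comm, (Algebra.trace F E).map_smul, hωω, smul_zero, zero_smul, sub_zero, mul_comm ω, ← hm,
          smul_smul, mul_inv_cancel₀ hm0, one_smul]
    refine ⟨m⁻¹ • ψ ω, ψ 1, fun h0 => hψ0 ?_, fun hq => hψ0 ?_, by rwa [heq]⟩
    · rw [← heq, h0]; refine LinearMap.ext fun a => ?_; simp [dec_apply]
    · obtain ⟨c, hc⟩ := Submodule.mem_span_singleton.mp hq
      rw [← heq, ← hc]
      refine LinearMap.ext fun a => ?_
      rw [dec_apply, mul_smul_comm c a, (Algebra.trace F E).map_smul c, smul_eq_mul, LinearMap.zero_apply]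
      module
  · obtain ⟨p, hp, hd⟩ := exists_dec hO hodd hv0 hv hn hx₀ hfx hf hnv
    refine ⟨p, x₀, fun e => hp (by rw [e]; exact Submodule.zero_mem _), fun hx => hp ?_, hd⟩
    obtain ⟨c, hc⟩ := Submodule.mem_span_singleton.mp hx
    have hc0 : c ≠ 0 := fun e => hx₀ (by rw [← hc, e, zero_smul])
    exact Submodule.mem_span_singleton.mpr ⟨c⁻¹, by rw [← hc, inv_smul_smul₀ hc0]⟩

/-- A long root element of a line gives one off the orthogonal complement, in odd degree. -/
theorem seed_odd (hO : Over D M) (hodd : finrank F E ≠ 2) {w : V} (hw0 : w ≠ 0) (hw : D.qE w = 0) {f : E}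
    (hf : ¬ IsF F f) (h : LongMem Q M w (f • w)) :
    ∃ d, LongMem Q M w d ∧ polar D.qE w d ≠ 0 := by
  haveI := D.finE
  obtain ⟨w', hw', hww⟩ := D.ndE.exists_partner hw0 hw
  have hw'0 : w' ≠ 0 := fun e => one_ne_zero (α := E) (by rw [← hww, e, polar_zero_right])
  -- the scalar
  set S := Submodule.span F ({(1 : E), f} : Set E)
  have hS : f * f ∉ S := fun hff => by
    have hst : ∀ x ∈ S, f * x ∈ S := fun x hx => by
      obtain ⟨a, b, rfl⟩ := Submodule.mem_span_pair.mp hx
      rw [mul_add, mul_smul_comm, mul_smul_comm, mul_one]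
      exact S.add_mem (S.smul_mem a (Submodule.subset_span (by simp))) (S.smul_mem b hff)
    have hall : S = ⊤ := Submodule.eq_top_iff'.mpr fun e => by
      simpa using mul_mem_of_stable D.prime hf hst e (Submodule.subset_span (by simp) : (1 : E) ∈ S)
    classical
    have h := finrank_span_le_card (R := F) ({(1 : E), f} : Set E)
    rw [Set.toFinset_insert, Set.toFinset_singleton] at h
    change finrank F S ≤ _ at h
    rw [hall, finrank_top] at h
    have := h.trans Finset.card_le_two
    have := D.prime.two_le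
    omega
  obtain ⟨φ, hφ, hφS⟩ := Submodule.exists_dual_map_eq_bot_of_notMem hS inferInstance
  obtain ⟨s, hs⟩ := exists_trace_eq φ
  have hs1 : Algebra.trace F E s = 0 := by
    have : φ 1 ∈ S.map φ := ⟨1, Submodule.subset_span (by simp), rfl⟩
    rw [hφS, Submodule.mem_bot, ← hs, mul_one] at this
    exact this
  have hsf : Algebra.trace F E (s * f) = 0 := by
    have : φ f ∈ S.map φ := ⟨f, Submodule.subset_span (by simp), rfl⟩
    rw [hφS, Submodule.mem_bot, ← hs] at this
    exact this
  have hsff : Algebra.trace F E (s * (f * f)) ≠ 0 := by rw [hs]; exact hφ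
  have hs0 : s ≠ 0 := fun e => hsff (by rw [e, zero_mul, map_zero])
  obtain ⟨X, hX, hXM, c, hc, hXw⟩ := exists_move hO hw0 hw (smul_ne_zero hs0 hw'0)
    (by rw [QuadraticMap.map_smul, hw', smul_zero])
  obtain ⟨hu, hud, hm⟩ := h.map hXM (rs_mem D hX)
  set g := Classical.eichlerEquiv Q (rs X w) (rs X (f • w)) hu hud with hg
  have e1 : rs (F := F) X w = (algebraMap F E c * s) • w' := by
    rw [rs_apply, hXw, ← algebraMap_smul E c, smul_smul]
  have e2 : rs (F := F) X (f • w) = (f * (algebraMap F E c * s)) • w' := by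
    rw [rs_apply, map_smul, hXw, ← algebraMap_smul E c, smul_smul, smul_smul, mul_assoc]
  have hpol : ∀ a b : E, polar Q (a • w) (b • w') = Algebra.trace F E (a * b) := fun a b => by
    rw [D.adj, smul_smul, polar_comm, ← D.trace_polar, polar_comm D.qE w' w, hww, mul_one]
  have hP1 : ∀ b : E, polar Q w (b • w') = Algebra.trace F E b := fun b => by
    have h := hpol 1 b
    rwa [one_smul, one_mul] at h
  have hgw : g w = w := by
    rw [hg, Classical.eichlerEquiv_apply, e1, e2, hP1, hP1, ← Algebra.smul_def, mul_smul_comm,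
      (Algebra.trace F E).map_smul, (Algebra.trace F E).map_smul, mul_comm f, hs1, hsf]
    simp
  have hgd : g (f • w) = f • w + (c * Algebra.trace F E (s * (f * f))) • ((algebraMap F E c * s) • w') := by
    rw [hg, Classical.eichlerEquiv_apply, e1, e2, hpol, hpol]
    simp only [← Algebra.smul_def, mul_smul_comm, (Algebra.trace F E).map_smul]
    rw [show f * (f * s) = s * (f * f) by ring, mul_comm f s, hsf]
    simp
  have hl : LongMem Q M w (g (f • w)) := by
    have h' := h.map hm (Classical.eichlerEquiv_mem _ _ _ _ _)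
    rwa [hgw] at h'
  refine ⟨_, hl, ?_⟩
  rw [hgd, polar_add_right, polar_smul_right, polar_self', hw, mul_zero, smul_zero, zero_add,
    ← algebraMap_smul E (c * _), polar_smul_right, polar_smul_right, hww]
  simp [hc, hsff, hs0]

/-- In an anisotropic plane over a quadratic extension, a suitable multiple of a value of trace zero is taken
by a vector whose product with a given one has a square outside the base field. -/
theorem exists_value_skew {D : ExtData E Q} (hr2 : finrank F E = 2) (h2 : (2 : E) ≠ 0) {P : Submodule E V}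
    (hd : 2 ≤ finrank E P) {y : V} (hy : y ∈ P) (hη : D.qE y ≠ 0) (htr : Algebra.trace F E (D.qE y) = 0)
    (hanis : ∀ p ∈ P, D.qE p = 0 → p = 0) :
    ∃ c : F, c ≠ 0 ∧ ∃ p ∈ P, D.qE p = algebraMap F E c * D.qE y ∧
      Algebra.trace F E (polar D.qE y p * polar D.qE y p * (algebraMap F E c * D.qE y)⁻¹) ≠ 0 := by
  classical
  haveI := D.finE
  haveI := D.finV
  haveI : Finite F := finite_base (E := E)
  haveI := Fintype.ofFinite F
  haveI := Fintype.ofFinite E
  set η := D.qE y with hηdef
  obtain ⟨z, hz, hz0⟩ := Submodule.exists_mem_ne_zero_of_ne_bot (p := P ⊓ perp1 D.qE y) fun e => by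
    have h := finrank_inf_perp1 D.qE P y
    rw [e, finrank_bot] at h
    omega
  obtain ⟨hzP, hzy⟩ := hz
  have hzy' : polar D.qE y z = 0 := hzy
  set ζ := D.qE z with hζdef
  have hζ : ζ ≠ 0 := fun h => hz0 (hanis z hzP h)
  have hEc : ringChar E ≠ 2 := fun e => h2 (by
    haveI := ringChar.of_eq e
    exact CharTwo.two_eq_zero)
  have hFc : ∀ c : F, IsSquare (algebraMap F E c) := by
    intro c
    by_cases hc : c = 0
    · exact hc ▸ ⟨0, by simp⟩
    rw [FiniteField.isSquare_iff hEc (by simpa using hc),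
      Module.card_eq_pow_finrank (K := F) (V := E), hr2, ← map_pow, ← map_one (algebraMap F E)]
    congr 1
    have hF : ringChar F ≠ 2 := fun e => h2 (by
      rw [← map_ofNat (algebraMap F E) 2]
      haveI := ringChar.of_eq e
      rw [CharTwo.two_eq_zero, map_zero])
    obtain ⟨j, hj⟩ : Odd (Fintype.card F) := Nat.odd_iff.mpr (FiniteField.odd_card_of_char_ne_two hF)
    have he : Fintype.card F ^ 2 / 2 = (Fintype.card F - 1) * (j + 1) := by
      rw [hj, Nat.add_sub_cancel, show (2 * j + 1) ^ 2 = 1 + 2 * (2 * j * (j + 1)) by ring]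
      omega
    rw [he, pow_mul, FiniteField.pow_card_sub_one_eq_one c hc, one_pow]
  -- the product of the two values is no square
  have hns : ¬ IsSquare (η * ζ) := by
    intro hsq
    obtain ⟨s, hs⟩ := IsSquare.mul (by simpa using hFc (-1)) hsq
    have hz' : D.qE ((s / η) • y + z) = 0 := by
      rw [QuadraticMap.map_add (⇑D.qE), QuadraticMap.map_smul, polar_smul_left, hzy', ← hηdef, ← hζdef]
      simp only [smul_eq_mul, mul_zero, add_zero]
      field_simp
      linear_combination -hs
    have h0 := hanis _ (P.add_mem (P.smul_mem _ hy) hzP) hz'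
    have h1 := congrArg (polar D.qE y) h0
    rw [polar_add_right, polar_smul_right, hzy', polar_self', ← hηdef, polar_zero_right, add_zero, smul_eq_mul,
      mul_eq_zero] at h1
    rw [h1.resolve_right (mul_ne_zero h2 hη), zero_smul, zero_add] at h0
    exact hz0 h0
  -- a square off the base field minus an element of it is no square
  obtain ⟨t, c, htF, hc0, hct⟩ : ∃ (t : E) (c : F), ¬ IsF F (t * t) ∧ c ≠ 0 ∧
      ¬ IsSquare (algebraMap F E c - t * t) := by
    by_contra hno
    push Not at hno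
    obtain ⟨t, ht⟩ := exists_sq_mul_not_isF (F := F) D.prime h2 (one_ne_zero (α := E))
    rw [mul_one] at ht
    obtain ⟨x, hx⟩ := FiniteField.exists_nonsquare hEc
    have hli : LinearIndependent F ![(1 : E), t * t] := (LinearIndependent.pair_iff' one_ne_zero).mpr fun a ha =>
      ht (isF_iff.mpr ⟨a, by rw [← ha, Algebra.algebraMap_eq_smul_one]⟩)
    have htop : Submodule.span F (Set.range ![(1 : E), t * t]) = ⊤ :=
      Submodule.eq_top_of_finrank_eq (by rw [finrank_span_eq_card hli, hr2, Fintype.card_fin])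
    have hx' : x ∈ Submodule.span F (Set.range ![(1 : E), t * t]) := htop ▸ Submodule.mem_top
    rw [Submodule.mem_span_range_iff_exists_fun] at hx'
    obtain ⟨k, hk⟩ := hx'
    simp only [Fin.sum_univ_two, Matrix.cons_val_zero, Matrix.cons_val_one, Algebra.smul_def, mul_one] at hk
    apply hx
    rw [← hk]
    by_cases hk0 : k 0 = 0
    · rw [hk0, map_zero, zero_add]; exact (hFc _).mul ⟨t, rfl⟩
    by_cases hk1 : k 1 = 0
    · rw [hk1, map_zero, zero_mul, add_zero]; exact hFc _
    have h := (hFc (-(k 1))).mul (hno t (-(k 0) / k 1) ht (div_ne_zero (neg_ne_zero.mpr hk0) hk1))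
    have e : algebraMap F E (k 0) + algebraMap F E (k 1) * (t * t)
        = algebraMap F E (-(k 1)) * (algebraMap F E (-(k 0) / k 1) - t * t) := by
      have hk1' : algebraMap F E (k 1) ≠ 0 := by simpa using hk1
      simp only [map_div₀, map_neg]
      field_simp
      ring
    rw [e]
    exact h
  have hd0 : algebraMap F E c - t * t ≠ 0 := fun e => hct (e ▸ IsSquare.zero)
  obtain ⟨s, hs⟩ : IsSquare ((algebraMap F E c - t * t) * (η * ζ)) := by
    rw [← quadraticChar_one_iff_isSquare (mul_ne_zero hd0 (mul_ne_zero hη hζ)), map_mul,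
      quadraticChar_neg_one_iff_not_isSquare.mpr hct, quadraticChar_neg_one_iff_not_isSquare.mpr hns]
    norm_num
  refine ⟨c, hc0, t • y + (s / ζ) • z, P.add_mem (P.smul_mem _ hy) (P.smul_mem _ hzP), ?_, ?_⟩
  · rw [QuadraticMap.map_add (⇑D.qE), QuadraticMap.map_smul, QuadraticMap.map_smul, polar_smul_left,
      polar_smul_right, hzy', ← hηdef, ← hζdef]
    simp only [smul_eq_mul, mul_zero, add_zero]
    field_simp
    linear_combination -hs
  · intro h
    rw [polar_add_right, polar_smul_right, polar_smul_right, hzy', polar_self', ← hηdef] at h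
    simp only [smul_eq_mul, mul_zero, add_zero] at h
    have hc' : algebraMap F E c ≠ 0 := by simpa using hc0
    rw [show t * (2 * η) * (t * (2 * η)) * (algebraMap F E c * η)⁻¹ = algebraMap F E (4 / c) * (t * t * η) by
        rw [map_div₀, map_ofNat]; field_simp; ring,
      ← Algebra.smul_def, (Algebra.trace F E).map_smul, smul_eq_mul, mul_eq_zero] at h
    have h4 : (4 : F) / c ≠ 0 := div_ne_zero (by
      rw [show (4 : F) = 2 * 2 by norm_num]; exact mul_ne_zero D.nd.two D.nd.two) hc0
    have h' := h.resolve_left h4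
    refine hη (eq_zero_of_trace (F := F) fun e => ?_)
    let S : Submodule F E := LinearMap.ker ((Algebra.trace F E).comp (LinearMap.mulRight F η))
    have h1 : (1 : E) ∈ S := by show Algebra.trace F E (1 * η) = 0; rw [one_mul, htr]
    have hli : LinearIndependent F ![(1 : E), t * t] := (LinearIndependent.pair_iff' one_ne_zero).mpr fun a ha =>
      htF (isF_iff.mpr ⟨a, by rw [← ha, Algebra.algebraMap_eq_smul_one]⟩)
    have htop : Submodule.span F (Set.range ![(1 : E), t * t]) = ⊤ :=
      Submodule.eq_top_of_finrank_eq (by rw [finrank_span_eq_card hli, hr2, Fintype.card_fin])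
    have hle : Submodule.span F (Set.range ![(1 : E), t * t]) ≤ S := Submodule.span_le.mpr (by
      rintro _ ⟨i, rfl⟩
      fin_cases i
      · exact h1
      · exact h')
    exact (hle (htop ▸ Submodule.mem_top) : e ∈ S)

/-- A long root element of a line gives one off the orthogonal complement, in degree two. -/
theorem seed_two (hO : Over D M) (hr2 : finrank F E = 2) {w₀ : V} (hw₀0 : w₀ ≠ 0) (hw₀ : D.qE w₀ = 0) {f : E}
    (hf : ¬ IsF F f) (h : LongMem Q M w₀ (f • w₀)) :
    ∃ w d, w ≠ 0 ∧ D.qE w = 0 ∧ LongMem Q M w d ∧ polar D.qE w d ≠ 0 := by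
  haveI := D.finE
  haveI := D.finV
  haveI := D.finVF
  have h2 := D.two
  -- a transported line
  have hconf : HasConf D M (finrank F E - 1) := by rw [hr2]; exact hasConf_one hO
  obtain ⟨g, v, w, C, hperp⟩ := exists_perp_hyperplane hO hconf
  obtain ⟨X, hX, hXM, c, hc, hXw⟩ := exists_move hO hw₀0 hw₀ C.hv0 C.hv
  have h1 : LongMem Q M (c • g v) (c • g (f • v)) := by
    have h' := (h.map hXM (rs_mem D hX)).map C.hg (hO.iso C.hg)
    rwa [rs_apply, rs_apply, map_smul X f, hXw, smul_comm f c, g.map_smul, g.map_smul] at h'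
  -- decomposition of the image
  obtain ⟨y, hy, hyw⟩ := C.not_le
  obtain ⟨xw, hxw, hxw0⟩ := C.inter_ne_bot (by omega)
  obtain ⟨x, hxe⟩ := hxw.2
  change x • w = xw at hxe
  subst hxe
  set X₀ := img E g v ⊓ ln E w with hX₀
  have hli : LinearIndependent F ![x • w, y] := (LinearIndependent.pair_iff' hxw0).mpr fun k hk => hyw
    ⟨algebraMap F E k * x, by show (algebraMap F E k * x) • w = y; rw [mul_smul, algebraMap_smul, hk]⟩
  have hle : Submodule.span F (Set.range ![x • w, y]) ≤ img E g v := Submodule.span_le.mpr fun z hz => by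
    obtain ⟨i, rfl⟩ := hz
    fin_cases i
    · exact hxw.1
    · exact hy
  have htop := Submodule.eq_of_le_of_finrank_le hle (by
    rw [finrank_img g C.hv0, finrank_span_eq_card hli, Fintype.card_fin, hr2])
  have hco : ∀ z ∈ img E g v, ∃ a b : F, z = a • (x • w) + b • y := fun z hz => by
    rw [← htop, Submodule.mem_span_range_iff_exists_fun] at hz
    obtain ⟨k, hk⟩ := hz
    exact ⟨k 0, k 1, by simpa using hk.symm⟩
  obtain ⟨a, b, hab⟩ := hco (c • g v) (Submodule.smul_mem _ c ⟨v, self_mem_ln v, rfl⟩)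
  obtain ⟨a', b', hab'⟩ := hco (c • g (f • v)) (Submodule.smul_mem _ c ⟨f • v, smul_mem_ln f v, rfl⟩)
  rw [hab, hab'] at h1
  have h3 := h1.basis (img_totSing hO C.hg C.hv hxw.1) (img_totSing hO C.hg C.hv hy)
    (img_polar hO C.hg C.hv hxw.1 hy)
  have hdet : a * b' - b * a' ≠ 0 := by
    intro h0
    have hli2 : LinearIndependent F ![c • g v, c • g (f • v)] := (LinearIndependent.pair_iff' (smul_ne_zero hc
        (fun e => C.hv0 (g.injective (by rw [e, map_zero]))))).mpr fun k hk => hf (by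
      rw [smul_comm, ← g.map_smul, ← g.map_smul, ← g.map_smul] at hk
      have e := g.injective hk
      rw [← algebraMap_smul E k v, ← algebraMap_smul E c, ← algebraMap_smul E c (f • v), smul_smul, smul_smul] at e
      have e' := smul_left_injective E C.hv0 e
      exact isF_iff.mpr ⟨k, mul_left_cancel₀ (by simpa using hc) e'⟩)
    rw [hab, hab'] at hli2
    rw [LinearIndependent.pair_iff] at hli2
    by_cases hb0 : b = 0 ∧ b' = 0
    · have := hli2 a' (-a) (by rw [hb0.1, hb0.2]; module)
      have ha0 : a = 0 := neg_eq_zero.mp this.2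
      exact absurd hab (by
        rw [ha0, hb0.1]; simp [hc, C.hv0])
    · have := hli2 b' (-b) (by
        rw [show b' • (a • x • w + b • y) + -b • (a' • x • w + b' • y)
          = (b' * a - b * a') • (x • w) + (b' * b - b * b') • y by module,
          show b' * a - b * a' = 0 by linear_combination h0, mul_comm b' b, sub_self, zero_smul, zero_smul, add_zero])
      exact hb0 ⟨neg_eq_zero.mp this.2, this.1⟩
  obtain ⟨w₁, hw₁⟩ : ∃ z, z = x • w := ⟨_, rfl⟩
  obtain ⟨y₁, hy₁⟩ : ∃ z, z = (a * b' - b * a') • y := ⟨_, rfl⟩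
  rw [← hw₁, ← hy₁] at h3
  rw [← hw₁] at hxw0
  have hw₁q : D.qE w₁ = 0 := by rw [hw₁, QuadraticMap.map_smul, C.hw, smul_zero]
  have hy₁w : polar D.qE w₁ y₁ = 0 := by
    rw [hw₁, hy₁, ← algebraMap_smul E (_ - _) y, polar_smul_left, polar_smul_right, hperp y hy, smul_zero,
      smul_zero]
  have hy₁n : ∀ e : E, y₁ ≠ e • w₁ := fun e he => hyw ⟨(algebraMap F E (a * b' - b * a'))⁻¹ * (e * x), by
    show ((algebraMap F E (a * b' - b * a'))⁻¹ * (e * x)) • w = y
    rw [mul_smul, mul_smul, ← hw₁, ← he, hy₁, ← algebraMap_smul E (_ - _) y, smul_smul,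
      inv_mul_cancel₀ (fun h => hdet ((algebraMap F E).injective (h.trans (map_zero _).symm))), one_smul]⟩
  have hy₁Q : Q y₁ = 0 := by
    rw [hy₁, QuadraticMap.map_smul, img_totSing hO C.hg C.hv hy, smul_zero]
  -- a partner orthogonal to the new vector
  obtain ⟨w'', hw'', hww''⟩ := D.ndE.exists_partner hxw0 hw₁q
  set α := polar D.qE y₁ w'' with hα
  set p₀ := y₁ - α • w₁ with hp₀
  have hp₀P : p₀ ∈ perp2 D.qE w₁ w'' := by
    have h := proj_mem_perp2 hw₁q hw'' hww'' y₁
    rwa [polar_comm D.qE y₁ w₁, hy₁w, zero_smul, sub_zero] at h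
  obtain ⟨d₁, hd₁, hd₁p⟩ := ndOn_perp2 D.ndE hw₁q hw'' hww'' p₀ hp₀P fun e =>
    hy₁n α (sub_eq_zero.mp e)
  obtain ⟨d, hd⟩ : ∃ d, d = (α / polar D.qE p₀ d₁) • d₁ := ⟨_, rfl⟩
  obtain ⟨hd0, hd'⟩ : polar D.qE w₁ d = 0 ∧ polar D.qE w'' d = 0 :=
    mem_perp2.mp (hd ▸ Submodule.smul_mem _ (α / polar D.qE p₀ d₁) hd₁ : d ∈ perp2 D.qE w₁ w'')
  set w' := w'' - d - D.qE d • w₁ with hw'def
  have hw' : D.qE w' = 0 := by
    rw [hw'def, sub_eq_add_neg, sub_eq_add_neg, ← neg_smul, QuadraticMap.map_add (⇑D.qE),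
      QuadraticMap.map_add (⇑D.qE), QuadraticMap.map_smul, QuadraticMap.map_neg, polar_neg_right,
      polar_smul_right, polar_add_left, polar_neg_left, polar_comm D.qE w'' w₁, polar_comm D.qE d w₁, hww'',
      hd0, hd', hw₁q, hw'']
    simp
  have hww : polar D.qE w₁ w' = 1 := by
    rw [hw'def, polar_sub_right, polar_sub_right, polar_smul_right, polar_self', hw₁q, hd0, hww'']; simp
  have hyd : polar D.qE y₁ d = α := by
    have e : y₁ = p₀ + α • w₁ := by rw [hp₀, sub_add_cancel]
    rw [e, polar_add_left, polar_smul_left, hd0, smul_zero, add_zero, hd, polar_smul_right, smul_eq_mul,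
      div_mul_cancel₀ _ hd₁p]
  have hyw' : polar D.qE y₁ w' = 0 := by
    rw [hw'def, polar_sub_right, polar_sub_right, polar_smul_right, polar_comm D.qE y₁ w₁, hy₁w, hyd, ← hα]
    simp
  set P := perp2 D.qE w₁ w' with hP
  have hyP : y₁ ∈ P := mem_perp2.mpr ⟨hy₁w, by rw [polar_comm]; exact hyw'⟩
  have hPnd : NdOn D.qE P := ndOn_perp2 D.ndE hw₁q hw' hww
  have hdim : finrank E V ≤ finrank E P + 2 := finrank_perp2 w₁ w'
  have hy0 : y₁ ≠ 0 := fun e => hy₁n 0 (by rw [e, zero_smul])
  obtain ⟨δ, μ, c₁, hδ0, hδt, hμ, hc₁P, hc₁q, hc₁p⟩ : ∃ δ μ c₁, δ ≠ 0 ∧ Algebra.trace F E δ = 0 ∧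
      Algebra.trace F E (μ * μ * δ⁻¹) ≠ 0 ∧ c₁ ∈ P ∧ D.qE c₁ = δ ∧ polar D.qE y₁ c₁ = μ := by
    obtain ⟨hk4, hmin⟩ := D.seven_le hr2
    by_cases hfour : D.qE y₁ ≠ 0 ∧ finrank E V = 4
    · obtain ⟨hη0, hV⟩ := hfour
      set η := D.qE y₁ with hη
      have hanis : ∀ p ∈ P, D.qE p = 0 → p = 0 := by
        intro p hp hq
        by_contra hp0
        obtain ⟨hp1, hp2⟩ := mem_perp2.mp hp
        have hli : LinearIndependent E ![w₁, p] := (LinearIndependent.pair_iff' hxw0).mpr fun c hc => by
          rw [← hc, polar_smul_right, polar_comm D.qE w' w₁, hww, smul_eq_mul, mul_one] at hp2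
          exact hp0 (by rw [← hc, hp2, zero_smul])
        have hlt := hmin hV ((Submodule.span E (Set.range ![w₁, p])).restrictScalars F) fun z hz => by
          rw [Submodule.restrictScalars_mem, Submodule.mem_span_range_iff_exists_fun] at hz
          obtain ⟨k, rfl⟩ := hz
          rw [D.Q_eq, Fin.sum_univ_two]
          simp [QuadraticMap.map_add (⇑D.qE), QuadraticMap.map_smul, polar_smul_left, polar_smul_right, hw₁q,
            hq, hp1]
        have hd : finrank F ((Submodule.span E (Set.range ![w₁, p])).restrictScalars F) = 4 := by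
          show finrank F ↥(Submodule.span E (Set.range ![w₁, p])) = 4
          rw [← Module.finrank_mul_finrank F E ↥(Submodule.span E (Set.range ![w₁, p])), hr2,
            finrank_span_eq_card hli]
          rfl
        omega
      obtain ⟨c, hc, p, hpP, hpq, ht⟩ := exists_value_skew hr2 h2 (P := P) (by omega) hyP hη0
        (by rw [← D.Q_eq, hy₁Q]) hanis
      refine ⟨algebraMap F E c * η, polar D.qE y₁ p, p, mul_ne_zero (by simpa using hc) hη0, ?_, ?_, hpP, hpq,
        rfl⟩
      · rw [← Algebra.smul_def, (Algebra.trace F E).map_smul, ← D.Q_eq, hy₁Q, smul_zero]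
      · exact ht
    obtain ⟨δ, hδ0, hδ⟩ := exists_trace_perp (S := Submodule.span F ({(1 : E)} : Set E))
      (by rw [finrank_span_singleton one_ne_zero, hr2]; norm_num)
    have hδt : Algebra.trace F E δ = 0 := by simpa using hδ 1 (Submodule.mem_span_singleton_self _)
    obtain ⟨μ, hμ⟩ : ∃ μ : E, Algebra.trace F E (μ * μ * δ⁻¹) ≠ 0 := by
      by_contra hno
      push Not at hno
      exact inv_ne_zero hδ0 (eq_zero_of_trace_sq (F := F) h2 hno)
    have hμ0 : μ ≠ 0 := fun e => hμ (by rw [e, zero_mul, zero_mul, map_zero])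
    suffices h : ∃ c₁ ∈ P, D.qE c₁ = δ ∧ polar D.qE y₁ c₁ = μ by
      obtain ⟨c₁, e1, e2, e3⟩ := h
      exact ⟨δ, μ, c₁, hδ0, hδt, hμ, e1, e2, e3⟩
    obtain ⟨p', hp'P, hpp'⟩ := hPnd y₁ hyP hy0
    by_cases hq : D.qE y₁ = 0
    · obtain ⟨p'', hp''⟩ : ∃ z, z = (polar D.qE y₁ p')⁻¹ • p' := ⟨_, rfl⟩
      have e1 : polar D.qE y₁ p'' = 1 := by
        rw [hp'', polar_smul_right, smul_eq_mul, inv_mul_cancel₀ hpp']
      refine ⟨μ • p'' + ((δ - μ * μ * D.qE p'') / μ) • y₁,
        P.add_mem (P.smul_mem _ (hp'' ▸ P.smul_mem _ hp'P)) (P.smul_mem _ hyP), ?_, ?_⟩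
      · rw [QuadraticMap.map_add (⇑D.qE), QuadraticMap.map_smul, QuadraticMap.map_smul, hq, polar_smul_left,
          polar_smul_right, polar_comm D.qE p'' y₁, e1]
        simp only [smul_eq_mul, mul_zero, add_zero]
        field_simp
        ring
      · rw [polar_add_right, polar_smul_right, polar_smul_right, e1, polar_self', hq]
        simp
    · set t := μ / (2 * D.qE y₁) with ht
      have e1 : polar D.qE y₁ (t • y₁) = μ := by
        rw [polar_smul_right, polar_self', smul_eq_mul, ht, div_mul_cancel₀ _ (mul_ne_zero h2 hq)]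
      by_cases hrest : δ - t * t * D.qE y₁ = 0
      · exact ⟨t • y₁, P.smul_mem _ hyP,
          by rw [QuadraticMap.map_smul, smul_eq_mul, ← sub_eq_zero.mp hrest], e1⟩
      obtain ⟨z, ⟨hzP, hzy⟩, -, hz⟩ := (hPnd.inf_perp1 h2 hyP hq).exists_value h2
        (by have := finrank_inf_perp1 D.qE P y₁; have : finrank E V ≠ 4 := fun h => hfour ⟨hq, h⟩; omega) hrest
      have hzy' : polar D.qE y₁ z = 0 := hzy
      refine ⟨t • y₁ + z, P.add_mem (P.smul_mem _ hyP) hzP, ?_, ?_⟩
      · rw [QuadraticMap.map_add (⇑D.qE), QuadraticMap.map_smul, hz, polar_smul_left, hzy']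
        simp
      · rw [polar_add_right, e1, hzy', add_zero]
  obtain ⟨hc₁1, hc₁2⟩ := mem_perp2.mp hc₁P
  have hcq0 : D.qE c₁ ≠ 0 := by rw [hc₁q]; exact hδ0
  have hqa : D.qE (w₁ + δ • w') = δ := by
    rw [QuadraticMap.map_add (⇑D.qE), QuadraticMap.map_smul, polar_smul_right, hw₁q, hw', hww]; simp
  have hqa0 : D.qE (w₁ + δ • w') ≠ 0 := by rw [hqa]; exact hδ0
  have hmov := hO.refl_pair_mem hqa0 hcq0 (hqa.trans hc₁q.symm)
  set H := refl D.qE (w₁ + δ • w') hqa0 * refl D.qE c₁ hcq0 with hH
  have hHi : H ∈ Classical.isoGroup ⇑D.qE := mul_mem (refl_mem _ _) (refl_mem _ _)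
  have hHw : H w₁ = -δ • w' := by
    rw [hH, LinearEquiv.mul_apply, refl_of_perp hcq0 hc₁1, refl_apply, polar_add_right, polar_smul_right,
      polar_self', hw₁q, hww, hqa, smul_eq_mul, mul_one, mul_zero, zero_add, div_self hδ0, one_smul,
      sub_add_cancel_left, neg_smul]
  have hHy : H y₁ = y₁ - (μ / δ) • c₁ := by
    have h4 : refl D.qE c₁ hcq0 y₁ = y₁ - (μ / δ) • c₁ := by rw [refl_apply, hc₁p, hc₁q]
    rw [hH, LinearEquiv.mul_apply, h4, refl_of_perp]
    rw [polar_add_right, polar_smul_right, polar_sub_left, polar_sub_left, polar_smul_left, polar_smul_left,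
      polar_comm D.qE y₁ w₁, hy₁w, hyw', polar_comm D.qE c₁ w₁, hc₁1, polar_comm D.qE c₁ w', hc₁2]
    simp
  obtain ⟨hu, hud, hm⟩ := h3.map hmov (rs_mem D hHi)
  set G := Classical.eichlerEquiv Q (rs H w₁) (rs H y₁) hu hud with hG
  have hzero : ∀ (e : E) {u z : V}, polar D.qE u z = 0 → polar Q u (e • z) = 0 := fun e u z huz => by
    rw [← D.adj, ← D.trace_polar, huz, mul_zero, map_zero]
  have p1 : polar Q w₁ (rs (F := F) H w₁) = 0 := by
    rw [rs_apply, hHw, ← D.adj, ← D.trace_polar, hww, mul_one, map_neg, hδt, neg_zero]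
  have p2 : polar Q w₁ (rs (F := F) H y₁) = 0 := by
    rw [rs_apply, hHy, D.polar_eq, polar_sub_right, polar_smul_right, hy₁w, hc₁1, smul_zero, sub_zero, map_zero]
  have p3 : polar Q y₁ (rs (F := F) H w₁) = 0 := by rw [rs_apply, hHw]; exact hzero _ hyw'
  have p4 : polar Q y₁ (rs (F := F) H y₁) = -Algebra.trace F E (μ * μ * δ⁻¹) := by
    rw [rs_apply, hHy, polar_sub_right, polar_self' Q y₁, hy₁Q, mul_zero, zero_sub, ← D.adj, ← D.trace_polar,
      hc₁p, show μ / δ * μ = μ * μ * δ⁻¹ by rw [div_eq_mul_inv]; ring]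
  have hGw : G w₁ = w₁ := by rw [hG, Classical.eichlerEquiv_apply, p1, p2]; simp
  have hGy : G y₁ = y₁ + (-Algebra.trace F E (μ * μ * δ⁻¹)) • (-δ • w') := by
    rw [hG, Classical.eichlerEquiv_apply, p3, p4, rs_apply, hHw]; simp
  have hl : LongMem Q M w₁ (G y₁) := by
    have h' := h3.map hm (Classical.eichlerEquiv_mem _ _ _ _ _)
    rwa [hGw] at h'
  refine ⟨w₁, G y₁, hxw0, hw₁q, hl, ?_⟩
  rw [hGy, polar_add_right, hy₁w, zero_add, ← algebraMap_smul E (-Algebra.trace F E _), polar_smul_right,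
    polar_smul_right, hww]
  simp [hμ, hδ0]

end Cfsg.Agent.Lib.OrthExt
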