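import Cfsg.Agent.Lib.OrthExt.Rot

/-!
Some element of the overgroup maps a singular vector to a singular vector and its line off the lines.
-/

set_option autoImplicit false

namespace Cfsg.Agent.Lib.OrthExt

open QuadraticMap Module Cfsg.Agent.Lib Cfsg.Agent.Lib.SympExt

variable {F E V : Type*} [Field F] [Field E] [Algebra F E] [AddCommGroup V] [Module F V] [Module E V]
  [IsScalarTower F E V] {Q : QuadraticForm F V} [Finite E] {D : ExtData E Q} {M : Subgroup (V ≃ₗ[F] V)}

theorem img_totSing (hO : Over D M) {g : V ≃ₗ[F] V} (hg : g ∈ M) {v : V} (hv : D.qE v = 0) {x : V}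
    (hx : x ∈ img E g v) : Q x = 0 := by
  obtain ⟨_, ⟨e, rfl⟩, rfl⟩ := hx
  show Q (g (e • v)) = 0
  rw [hO.iso hg, D.Q_smul, hv, mul_zero, map_zero]

theorem img_polar (hO : Over D M) {g : V ≃ₗ[F] V} (hg : g ∈ M) {v : V} (hv : D.qE v = 0) {x y : V}
    (hx : x ∈ img E g v) (hy : y ∈ img E g v) : polar Q x y = 0 := by
  rw [polar, img_totSing hO hg hv (Submodule.add_mem _ hx hy), img_totSing hO hg hv hx,
    img_totSing hO hg hv hy, sub_zero, sub_zero]

/-- If singular vectors only go to singular ones with their lines, a singular vector goes to a singular one. -/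
theorem sing_to_sing (hO : Over D M)
    (hno : ∀ g ∈ M, ∀ v : V, v ≠ 0 → D.qE v = 0 → D.qE (g v) = 0 → img E g v = ln E (g v))
    {g : V ≃ₗ[F] V} (hg : g ∈ M) {v : V} (hv0 : v ≠ 0) (hv : D.qE v = 0) : D.qE (g v) = 0 := by
  by_contra hτ
  haveI := D.finV
  haveI := D.finE
  haveI := D.finVF
  set x := g v with hx
  set P := perp1 D.qE x with hP
  have hd : finrank E V ≤ finrank E P + 1 := finrank_perp1 x
  have h3 := D.three_le
  have hU : ∀ a ∈ P, ∀ b ∈ P, ∀ (ha : D.qE a ≠ 0) (hb : D.qE b ≠ 0), ∀ u ∈ img E g v,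
      rot D a b ha hb u ∈ img E g v := by
    intro a haP b hbP ha hb u hu
    set h := g⁻¹ * rot D a b ha hb * g with hh
    have hhM : h ∈ M := mul_mem (mul_mem (inv_mem hg) (hO.refl_sq_mem ha hb)) hg
    have hfix : rot D a b ha hb x = x := rot_fix D ha hb haP hbP
    have hhv : h v = v := by
      show g⁻¹ (rot D a b ha hb (g v)) = v
      rw [← hx, hfix]; exact g.symm_apply_apply v
    have e := hno h hhM v hv0 hv (by rw [hhv]; exact hv)
    rw [hhv] at e
    obtain ⟨u', hu', rfl⟩ := hu
    obtain ⟨u'', hu'', e'⟩ : ∃ u'' ∈ ln (F := F) E v, u'' = h u' := ⟨h u', e ▸ ⟨u', hu', rfl⟩, rfl⟩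
    refine ⟨u'', hu'', ?_⟩
    rw [e']
    exact g.apply_symm_apply _
  by_cases hne : ∃ u ∈ img E g v, ∃ p ∈ P, polar D.qE u p ≠ 0
  · obtain ⟨u, hu, p₀, hp₀, hup⟩ := hne
    obtain ⟨p, hp, hp0, hline⟩ := exists_line D (P := P) (ndOn_perp1 D.ndE hτ) (by omega)
      (fun h2 => by have := (D.seven_le h2).1; omega) hU hu hp₀ hup
    have hle : ln E p ≤ img E g v := by rintro _ ⟨e, rfl⟩; exact hline e
    have he := Submodule.eq_of_le_of_finrank_le hle (by rw [finrank_img g hv0, finrank_ln hp0])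
    obtain ⟨e, hep⟩ : x ∈ ln (F := F) E p := he ▸ ⟨v, self_mem_ln v, rfl⟩
    have hxx : polar D.qE x x = 0 := by
      nth_rw 2 [← hep]
      change polar D.qE x (e • p) = 0
      rw [polar_smul_right, show polar D.qE x p = 0 from hp, smul_zero]
    rw [polar_self'] at hxx
    exact mul_ne_zero D.two hτ hxx
  push Not at hne
  have hle : img E g v ≤ ln E x := by
    intro u hu
    refine ⟨polar D.qE x u / (2 * D.qE x), ?_⟩
    refine (sub_eq_zero.mp (D.ndE.nondeg _ fun w => ?_)).symm
    have hw : w - (polar D.qE x w / (2 * D.qE x)) • x ∈ P := by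
      rw [hP, mem_perp1, polar_sub_right, polar_smul_right, polar_self', smul_eq_mul,
        div_mul_cancel₀ _ (mul_ne_zero D.two hτ), sub_self]
    have h := hne u hu _ hw
    simp only [polar_sub_right, polar_smul_right, smul_eq_mul] at h
    change polar D.qE (u - (polar D.qE x u / (2 * D.qE x)) • x) w = 0
    rw [polar_sub_left, polar_smul_left, smul_eq_mul]
    rw [polar_comm D.qE u x] at h
    rw [div_mul_eq_mul_div, sub_eq_zero] at h ⊢
    rw [h]; ring
  have he := Submodule.eq_of_le_of_finrank_le hle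
    (by rw [finrank_img g hv0, finrank_ln (fun e : x = 0 => hτ (by rw [e, QuadraticMap.map_zero]))])
  refine hτ (eq_zero_of_trace_sq (F := F) D.two fun e => ?_)
  rw [← D.Q_smul]
  exact img_totSing hO hg hv (he.ge (smul_mem_ln e x))

/-- Some element maps a singular vector to a singular vector and its line off the lines. -/
theorem exists_config (hO : Over D M) :
    ∃ g ∈ M, ∃ v : V, v ≠ 0 ∧ D.qE v = 0 ∧ D.qE (g v) = 0 ∧ img E g v ≠ ln E (g v) := by
  by_contra hno
  push Not at hno
  haveI := D.finV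
  haveI := D.finE
  have h2 := D.two
  have hline : ∀ g ∈ M, ∀ v : V, v ≠ 0 → D.qE v = 0 → img E g v = ln E (g v) := fun g hg v hv0 hv =>
    hno g hg v hv0 hv (sing_to_sing hO hno hg hv0 hv)
  obtain ⟨g, hg, hns⟩ := hO.notSemi
  have hS : ∀ v : V, D.qE v = 0 → D.qE (g v) = 0 := fun v hv => by
    by_cases hv0 : v = 0
    · simp [hv0]
    · exact sing_to_sing hO hno hg hv0 hv
  have hperp : ∀ u u' : V, D.qE u = 0 → D.qE u' = 0 → polar D.qE (g u) (g u') = 0 → polar D.qE u u' = 0 := by
    intro u u' hu hu' h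
    have hg' : D.qE (g (u + u')) = 0 := by
      rw [map_add, QuadraticMap.map_add (⇑D.qE), hS u hu, hS u' hu', h]; ring
    have h' : D.qE (u + u') = 0 := by
      by_cases h0 : g (u + u') = 0
      · rw [map_eq_zero_iff _ g.injective] at h0; rw [h0, QuadraticMap.map_zero]
      · have := sing_to_sing hO hno (inv_mem hg) h0 hg'
        rwa [show g⁻¹ (g (u + u')) = u + u' from g.symm_apply_apply _] at this
    rwa [QuadraticMap.map_add (⇑D.qE), hu, hu', zero_add, zero_add] at h'
  have hex : ∀ (u : V) (e : E), ∃ f : E, u ≠ 0 → D.qE u = 0 → g (e • u) = f • g u := by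
    intro u e
    by_cases hc : u ≠ 0 ∧ D.qE u = 0
    · obtain ⟨f, hf⟩ : g (e • u) ∈ ln (F := F) E (g u) :=
        (hline g hg u hc.1 hc.2) ▸ ⟨e • u, smul_mem_ln e u, rfl⟩
      exact ⟨f, fun _ _ => hf.symm⟩
    · exact ⟨0, fun a b => absurd ⟨a, b⟩ hc⟩
  choose φ hφ using hex
  have hsurj : ∀ u : V, u ≠ 0 → D.qE u = 0 → ∀ f : E, ∃ e : E, f • g u = g (e • u) := by
    intro u hu0 hu f
    obtain ⟨_, ⟨e, rfl⟩, h⟩ := (hline g hg u hu0 hu).ge (smul_mem_ln f (g u))
    exact ⟨e, h.symm⟩
  obtain ⟨v, -, hv0, hv⟩ := (show NdOn D.qE (⊤ : Submodule E V) from fun x _ hx => by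
    obtain ⟨y, hy⟩ := D.ndE.exists_pair hx
    exact ⟨y, trivial, by rw [hy]; exact one_ne_zero⟩).exists_sing h2 (by rw [finrank_top]; exact D.three_le)
  obtain ⟨v', hv', hvv⟩ := D.ndE.exists_partner hv0 hv
  have hv'0 : v' ≠ 0 := fun e => one_ne_zero (α := E) (by rw [← hvv, e, polar_zero_right])
  have hgv : g v ≠ 0 := fun e => hv0 (by simpa using e)
  set β₀ := polar D.qE (g v) (g v') with hβ₀
  have hβ₀0 : β₀ ≠ 0 := fun e => one_ne_zero (α := E) (hvv ▸ hperp v v' hv hv' e)
  set P := perp2 D.qE v v' with hP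
  -- the shifted vectors
  have hw : ∀ b ∈ P, D.qE (v' + b - D.qE b • v) = 0 ∧ v' + b - D.qE b • v ≠ 0 := by
    intro b hb
    obtain ⟨h1, h1'⟩ := mem_perp2.mp hb
    refine ⟨?_, fun e => ?_⟩
    · rw [sub_eq_add_neg, QuadraticMap.map_add (⇑D.qE), QuadraticMap.map_add (⇑D.qE), QuadraticMap.map_neg,
        QuadraticMap.map_smul, polar_neg_right, polar_smul_right, polar_add_left, polar_comm D.qE v' v,
        polar_comm D.qE b v, h1, h1', hv, hv', hvv]
      simp
    · have h := congrArg (polar D.qE v) e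
      rw [polar_sub_right, polar_add_right, polar_smul_right, polar_self', hv, h1, hvv, polar_zero_right] at h
      simp at h
  have hout : ∀ b ∈ P, b ≠ 0 → ∀ α β : E, g b ≠ α • g v + β • g v' := by
    intro b hb hb0 α β heq
    obtain ⟨h1, h1'⟩ := mem_perp2.mp hb
    obtain ⟨hws, hw0⟩ := hw b hb
    set τ := φ v (D.qE b)
    have hgw : g (v' + b - D.qE b • v) = (α - τ) • g v + (β + 1) • g v' := by
      rw [map_sub, map_add, hφ v _ hv0 hv, heq]; module
    have hq := hS _ hws
    rw [hgw, QuadraticMap.map_add (⇑D.qE), QuadraticMap.map_smul, QuadraticMap.map_smul, polar_smul_left,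
      polar_smul_right, hS v hv, hS v' hv', ← hβ₀] at hq
    simp only [mul_zero, zero_add, smul_eq_mul, mul_eq_zero, hβ₀0, or_false] at hq
    rcases hq with hq | hq
    · rw [hq, zero_smul, zero_add] at hgw
      obtain ⟨e, he⟩ := hsurj v' hv'0 hv' (β + 1)
      rw [he] at hgw
      have h := g.injective hgw
      have e1 := congrArg (polar D.qE v) h
      rw [polar_sub_right, polar_add_right, polar_smul_right, polar_smul_right, polar_self', hv, h1, hvv,
        smul_eq_mul, smul_eq_mul, mul_one, mul_zero, mul_zero, add_zero, sub_zero] at e1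
      rw [← e1, one_smul] at h
      have e2 : b = D.qE b • v := by
        rw [← sub_eq_zero]; rw [add_sub_assoc, add_eq_left] at h; exact h
      have e3 := congrArg (polar D.qE v') e2
      rw [h1', polar_smul_right, polar_comm D.qE v' v, hvv, smul_eq_mul, mul_one] at e3
      exact hb0 (by rw [e2, ← e3, zero_smul])
    · rw [hq, zero_smul, add_zero] at hgw
      obtain ⟨e, he⟩ := hsurj v hv0 hv (α - τ)
      rw [he] at hgw
      have e1 := congrArg (polar D.qE v) (g.injective hgw)
      rw [polar_sub_right, polar_add_right, polar_smul_right, polar_smul_right, polar_self', hv, h1, hvv] at e1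
      simp at e1
  set φ' := φ v' with hφ'
  -- the action on the orthogonal part
  have hb' : ∀ b ∈ P, b ≠ 0 → ∀ e : E,
      g (e • b) = φ' e • g b ∧ φ v (e * D.qE b) = φ' e * φ v (D.qE b) := by
    intro b hb hb0 e
    obtain ⟨hp, hp0⟩ := hw b hb
    obtain ⟨hm, hm0⟩ := hw (-b) (P.neg_mem hb)
    set x := v' + b - D.qE b • v with hx
    set y := v' + -b - D.qE (-b) • v with hy
    have hxe := hφ x e hp0 hp
    have hye := hφ y e hm0 hm
    set p := φ x e
    set m := φ y e
    set τ := φ v (D.qE b) with hτ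
    set τ' := φ v (e * D.qE b) with hτ'
    have hgτ : g (D.qE b • v) = τ • g v := hφ v _ hv0 hv
    have hgτ' : g (e • D.qE b • v) = τ' • g v := by rw [smul_smul]; exact hφ v _ hv0 hv
    have hgv' : g (e • v') = φ' e • g v' := hφ v' e hv'0 hv'
    rw [hx, smul_sub, smul_add, map_sub, map_add, map_sub, map_add, hgv', hgτ, hgτ'] at hxe
    rw [hy, QuadraticMap.map_neg, smul_sub, smul_add, smul_neg, map_sub, map_add, map_neg, map_sub, map_add,
      map_neg, hgv', hgτ, hgτ'] at hye
    have key : ((p + m) * τ - 2 * τ') • g v + (2 * φ' e - (p + m)) • g v' + (m - p) • g b = 0 := by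
      have := congrArg₂ (· + ·) hxe hye
      rw [← sub_eq_zero] at this
      rw [← this]
      module
    have hmp : m - p = 0 := by
      by_contra h0
      refine hout b hb hb0 (-(m - p)⁻¹ * ((p + m) * τ - 2 * τ')) (-(m - p)⁻¹ * (2 * φ' e - (p + m))) ?_
      apply smul_right_injective V h0
      simp only [smul_add, smul_smul]
      rw [← sub_eq_zero, ← key]
      match_scalars <;> field_simp
    rw [hmp, zero_smul, add_zero] at key
    have hB : 2 * φ' e - (p + m) = 0 := by
      have h := congrArg (polar D.qE (g v)) key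
      rw [polar_add_right, polar_smul_right, polar_smul_right, polar_self', hS v hv, ← hβ₀, polar_zero_right] at h
      simp only [mul_zero, smul_eq_mul, zero_add, mul_eq_zero, hβ₀0, or_false] at h
      exact h
    rw [hB, zero_smul, add_zero, smul_eq_zero] at key
    have hA := key.resolve_right hgv
    have hp' : p = φ' e := mul_left_cancel₀ h2 (by linear_combination -hB - hmp)
    have hτe : τ' = φ' e * τ := mul_left_cancel₀ h2 (by linear_combination -hA - τ * hB)
    refine ⟨?_, hτe⟩
    rw [hp', hτe] at hxe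
    have e' := sub_eq_zero.mpr hxe
    rw [← sub_eq_zero, ← e']
    module
  -- every value is reached
  obtain ⟨b₀, hb₀, hb₀q⟩ : ∃ b₀ ∈ P, D.qE b₀ ≠ 0 := by
    have hd := finrank_perp2 (q := D.qE) v v'
    have := D.three_le
    obtain ⟨z, hz, hz0⟩ := Submodule.exists_mem_ne_zero_of_ne_bot (p := P) fun e => by
      rw [← hP, e, finrank_bot] at hd; omega
    obtain ⟨z', hz', hzz⟩ := ndOn_perp2 D.ndE hv hv' hvv z hz hz0
    obtain ⟨a, ha, haq, -⟩ := (ndOn_perp2 D.ndE hv hv' hvv).exists_anis h2 hz' hzz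
    exact ⟨a, ha, haq⟩
  have hφadd : ∀ s t, φ v (s + t) = φ v s + φ v t := fun s t =>
    smul_left_injective E hgv (by
      show φ v (s + t) • g v = (φ v s + φ v t) • g v
      rw [← hφ v _ hv0 hv, add_smul, map_add, hφ v _ hv0 hv, hφ v _ hv0 hv, add_smul])
  have hφzero : φ v 0 = 0 := by
    have h := hφadd 0 0
    rw [add_zero] at h
    exact left_eq_add.mp h
  have hall : ∀ e τ : E, φ v (e * τ) = φ' e * φ v τ := by
    intro e
    let S : AddSubgroup E :=
      { carrier := {t | φ v (e * (t * D.qE b₀)) = φ' e * φ v (t * D.qE b₀)}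
        zero_mem' := by simp [hφzero]
        add_mem' := fun {s t} hs ht => by
          simp only [Set.mem_setOf_eq] at hs ht ⊢
          rw [add_mul, mul_add, hφadd, hφadd, hs, ht]; ring
        neg_mem' := fun {t} ht => by
          simp only [Set.mem_setOf_eq] at ht ⊢
          have h1 := hφadd (e * (t * D.qE b₀)) (e * (-t * D.qE b₀))
          have h1' := hφadd (t * D.qE b₀) (-t * D.qE b₀)
          rw [← mul_add, ← add_mul, add_neg_cancel, zero_mul, mul_zero, hφzero, ht] at h1
          rw [← add_mul, add_neg_cancel, zero_mul, hφzero] at h1'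
          linear_combination -h1 + φ' e * h1' }
    intro τ
    have hsq : ∀ t : E, t * t ∈ S := fun t => by
      show φ v (e * (t * t * D.qE b₀)) = φ' e * φ v (t * t * D.qE b₀)
      by_cases ht : t = 0
      · simp [ht, hφzero]
      have hb : t • b₀ ≠ 0 := smul_ne_zero ht fun h => hb₀q (by rw [h, QuadraticMap.map_zero])
      have h := (hb' _ (P.smul_mem t hb₀) hb e).2
      rwa [QuadraticMap.map_smul, smul_eq_mul] at h
    have h : φ v (e * (τ / D.qE b₀ * D.qE b₀)) = φ' e * φ v (τ / D.qE b₀ * D.qE b₀) :=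
      eq_top_of_sq_mem h2 (S := S) hsq (τ / D.qE b₀)
    rwa [div_mul_cancel₀ _ hb₀q] at h
  have h1 : φ v 1 = 1 := smul_left_injective E hgv (by
    show φ v 1 • g v = (1 : E) • g v
    rw [← hφ v 1 hv0 hv, one_smul, one_smul])
  have heq : ∀ e, φ v e = φ' e := fun e => by
    have h := hall e 1
    rwa [mul_one, h1, mul_one] at h
  have hv'mul : ∀ e τ, φ' (e * τ) = φ' e * φ' τ := fun e τ => by rw [← heq, hall, heq]
  obtain ⟨e, y, hy⟩ := hns φ'
  apply hy
  have hdec := proj_mem_perp2 hv hv' hvv y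
  obtain ⟨p, hp, hy'⟩ : ∃ p ∈ P, y = polar D.qE y v' • v + polar D.qE y v • v' + p := ⟨_, hdec, by abel⟩
  set a := polar D.qE y v'
  set c := polar D.qE y v
  rw [hy']
  simp only [smul_add, map_add, smul_smul]
  have hp' : g (e • p) = φ' e • g p := by
    by_cases hp0 : p = 0
    · simp [hp0]
    · exact (hb' p hp hp0 e).1
  rw [hp', hφ v _ hv0 hv, hφ v a hv0 hv, hφ v' _ hv'0 hv', hφ v' c hv'0 hv', ← hφ', heq, heq, hv'mul,
    hv'mul, mul_smul, mul_smul]

end Cfsg.Agent.Lib.OrthExt
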