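import Cfsg.Agent.Lib.OrthExt.ThreePlane

/-!
Dimension three over an extension of degree three: a planar configuration also grows to a hyperplane, so the
bound on the dimension drops to nine.
-/

set_option autoImplicit false
set_option linter.style.haveILetI false

namespace Cfsg.Agent.Lib.OrthExt

open QuadraticMap Module Cfsg.Agent.Lib Cfsg.Agent.Lib.SympExt

variable {F E V : Type*} [Field F] [Field E] [Algebra F E] [AddCommGroup V] [Module F V] [Module E V]
  [IsScalarTower F E V] {Q : QuadraticForm F V} [Finite E] {D : ExtData E Q} {M : Subgroup (V ≃ₗ[F] V)}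

omit [Finite E] in
/-- In degree at least three an element outside the base satisfies no quadratic equation. -/
theorem quad_coeff_zero (hr : (finrank F E).Prime) (h3 : 3 ≤ finrank F E) {z : E} (hz : ¬ IsF F z) {A B C : F}
    (h : A • (z * z) + B • z + C • (1 : E) = 0) : A = 0 := by
  by_contra hA
  haveI : FiniteDimensional F E := FiniteDimensional.of_finrank_pos hr.pos
  set P : Submodule F E := Submodule.span F {(1 : E), z}
  have hzz : z * z = (-B / A) • z + (-C / A) • (1 : E) := by
    refine smul_right_injective E hA ?_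
    show A • (z * z) = A • _
    rw [smul_add, smul_smul, smul_smul, mul_div_cancel₀ _ hA, mul_div_cancel₀ _ hA, neg_smul, neg_smul]
    linear_combination h
  have hstab : ∀ y ∈ P, z * y ∈ P := fun y hy => by
    obtain ⟨a, b, rfl⟩ := Submodule.mem_span_pair.mp hy
    rw [mul_add, mul_smul_comm, mul_smul_comm, mul_one, hzz]
    refine Submodule.mem_span_pair.mpr ⟨b * (-C / A), a + b * (-B / A), ?_⟩
    module
  have htop : P = ⊤ := Submodule.eq_top_iff'.mpr fun e => by
    simpa using mul_mem_of_stable hr hz hstab e (Submodule.subset_span (by simp) : (1 : E) ∈ P)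
  have h2 : finrank F P ≤ 2 := by
    classical
    have h := finrank_span_le_card (R := F) ({(1 : E), z} : Set E)
    rw [Set.toFinset_insert, Set.toFinset_singleton] at h
    exact h.trans Finset.card_le_two
  rw [htop, finrank_top] at h2
  omega

/-- An element supported on the line turns a planar configuration into one meeting in a hyperplane. -/
theorem alt_planar_step (hO : Over D M) (hk : finrank E V = 3) {g : V ≃ₗ[F] V} {v w : V} {s : ℕ}
    (C : Conf D M g v w s) (hX : finrank F ↥(img E g v ⊓ ln E w) = 1) {y₁ : V} (hy₁ : y₁ ∈ img E g v)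
    (h₁ : polar D.qE w y₁ ≠ 0) (hmul : ∀ y ∈ img E g v, ∃ k : F, polar D.qE w y = k • polar D.qE w y₁)
    {ψ : E →ₗ[F] E} (hψ0 : ψ ≠ 0) (hψ : AltMem D M v ψ) :
    HasConf D M (finrank F E - 1) := by
  classical
  haveI := C.hF
  haveI := D.finE
  haveI : Finite F := finite_base (E := E)
  have hodd := odd_of_three D hk
  have h3 : 3 ≤ finrank F E := by have := D.prime.two_le; omega
  set P : E → E := fun e => polar D.qE (g.symm (e • w)) v with hP
  have hkey : ∀ a e : E, Algebra.trace F E (a * P e) = Algebra.trace F E (e * polar D.qE w (g (a • v))) := by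
    intro a e
    rw [hP, D.trace_polar, D.trace_polar, D.adj, ← hO.iso_polar C.hg, g.apply_symm_apply]
  set ℓ : E →ₗ[F] F := (Algebra.trace F E).comp (LinearMap.mulRight F (polar D.qE w y₁)) with hℓ
  have hker : ∀ e, ℓ e = 0 → P e = 0 := fun e he => eq_zero_of_trace (F := F) fun a => by
    rw [hkey]
    obtain ⟨k, hk'⟩ := hmul (g (a • v)) ⟨a • v, smul_mem_ln a v, rfl⟩
    rw [hk', mul_smul_comm, LinearMap.map_smul]
    change Algebra.trace F E (e * polar D.qE w y₁) = 0 at he
    rw [he, smul_zero]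
  obtain ⟨e₀, he₀⟩ : ∃ e, ℓ e ≠ 0 := by
    by_contra h
    push Not at h
    exact h₁ (eq_zero_of_trace (F := F) h)
  have hp0 : P e₀ ≠ 0 := fun e => he₀ (by
    obtain ⟨_, ⟨a, rfl⟩, ha⟩ := hy₁
    change g (a • v) = y₁ at ha
    show Algebra.trace F E (e₀ * polar D.qE w y₁) = 0
    rw [← ha, ← hkey, e, mul_zero, map_zero])
  obtain ⟨xw, hxw, hxw0⟩ : ∃ x ∈ img E g v ⊓ ln E w, x ≠ 0 :=
    Submodule.exists_mem_ne_zero_of_ne_bot fun e => by rw [e, finrank_bot] at hX; omega
  obtain ⟨_, ⟨x, rfl⟩, hx⟩ := hxw.1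
  change g (x • v) = xw at hx
  have hline : ∀ a : E, g (a • v) ∈ ln (F := F) E w → ∃ k : F, a = k • x := fun a ha => by
    obtain ⟨k, hk'⟩ := (finrank_eq_one_iff_of_nonzero' (⟨xw, hxw⟩ : (img E g v ⊓ ln E w : Submodule F V))
      (fun e => hxw0 (congrArg Subtype.val e))).mp hX ⟨g (a • v), ⟨a • v, smul_mem_ln a v, rfl⟩, ha⟩
    have h : k • xw = g (a • v) := congrArg Subtype.val hk'
    refine ⟨k, smul_left_injective E C.hv0 (g.injective ?_)⟩
    show g (a • v) = g ((k • x) • v)
    rw [smul_assoc, LinearEquiv.map_smul, hx, h]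
  obtain ⟨ψ', hψ', hout⟩ : ∃ ψ', AltMem D M v ψ' ∧ g (ψ' (P e₀) • v) ∉ ln (F := F) E w := by
    by_contra hall
    push Not at hall
    apply hψ0
    set κ := x * P e₀ with hκ
    have hq : ∀ a : E, ∃ l : F, a * ψ a = l • κ := by
      intro a
      by_cases ha : a = 0
      · exact ⟨0, by rw [ha, zero_mul, zero_smul]⟩
      obtain ⟨c, hc, t, ht⟩ := exists_smul_isSquare D.prime D.two hodd (a / P e₀)
      have hcE : algebraMap F E c ≠ 0 := by simpa using hc
      have ht0 : t ≠ 0 := fun e => mul_ne_zero hcE (div_ne_zero ha hp0) (by rw [ht, e, mul_zero])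
      obtain ⟨k, hk'⟩ := hline _ (hall _ (hψ.twist hO C.hv0 C.hv (Units.mk0 t ht0)))
      simp only [LinearMap.comp_apply, LinearMap.mulLeft_apply, Units.val_mk0] at hk'
      have hta : t * t * P e₀ = c • a := by
        rw [Algebra.smul_def, ← ht]
        field_simp
      rw [hta, ψ.map_smul] at hk'
      refine ⟨k / (c * c), ?_⟩
      rw [hκ, Algebra.smul_def, map_div₀, map_mul]
      simp only [Algebra.smul_def] at hk' hta
      field_simp
      linear_combination P e₀ * hk' - (algebraMap F E c * ψ a) * hta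
    refine LinearMap.ext fun a => ?_
    by_cases ha : a = 0
    · rw [ha, map_zero, LinearMap.zero_apply]
    obtain ⟨z, hz⟩ := exists_not_isF (F := F) (E := E) D.prime
    have hz0 : z ≠ 0 := fun e => hz (isF_iff.mpr ⟨0, by rw [e, map_zero]⟩)
    obtain ⟨la, hla⟩ := hq a
    obtain ⟨lb, hlb⟩ := hq (z * a)
    obtain ⟨ls, hls⟩ := hq (a + z * a)
    have hκ0 : κ ≠ 0 := mul_ne_zero (fun e => hxw0 (by rw [← hx, e, zero_smul, map_zero])) hp0
    simp only [Algebra.smul_def] at hla hlb hls
    rw [ψ.map_add] at hls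
    have hrel : la • (z * z) + (-(ls - la - lb)) • z + lb • (1 : E) = 0 := by
      apply mul_right_cancel₀ hκ0
      simp only [Algebra.smul_def, map_neg, map_sub, zero_mul, mul_one]
      linear_combination (-(z * z) - z) * hla + (-1 - z) * hlb + z * hls
    have h0 : la = 0 := quad_coeff_zero D.prime h3 hz hrel
    rw [h0, map_zero, zero_mul] at hla
    rw [LinearMap.zero_apply]
    exact (mul_eq_zero.mp hla).resolve_left ha
  obtain ⟨z, hzM, hzx⟩ := hψ'
  set g' := g * z * g⁻¹ with hg'
  have hg'x : ∀ e : E, g' (e • w) = e • w + g (ψ' (P e) • v) := fun e => by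
    show g (z (g.symm (e • w))) = _
    rw [hzx, map_add, g.apply_symm_apply]
  refine ⟨g', w, w, mul_mem (mul_mem C.hg hzM) (inv_mem C.hg), C.hw0, C.hw, C.hw0, C.hw, fun e => hout ?_, ?_⟩
  · have h : g' (e₀ • w) ∈ ln (F := F) E w := e ▸ ⟨e₀ • w, smul_mem_ln e₀ w, rfl⟩
    rw [hg'x] at h
    simpa using Submodule.sub_mem _ h (smul_mem_ln e₀ w)
  · have hle : (LinearMap.ker ℓ).map ((LinearMap.toSpanSingleton E V w).restrictScalars F) ≤
        img E g' w ⊓ ln E w := by
      rintro _ ⟨e, he, rfl⟩
      refine ⟨⟨e • w, smul_mem_ln e w, ?_⟩, smul_mem_ln e w⟩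
      show g' (e • w) = e • w
      rw [hg'x, hker e he, map_zero, zero_smul, map_zero, add_zero]
    refine le_trans ?_ (Submodule.finrank_mono hle)
    rw [← (Submodule.equivMapOfInjective _ (smul_left_injective E C.hw0) _).finrank_eq]
    have h := ℓ.finrank_range_add_finrank_ker
    have h' : finrank F (LinearMap.range ℓ) ≤ 1 := (Submodule.finrank_le _).trans (le_of_eq (finrank_self F))
    omega

/-- In dimension three a good configuration gives a larger intersection, in every odd degree. -/
theorem good_step_small (hO : Over D M) (hk : finrank E V = 3) {g : V ≃ₗ[F] V}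
    {v w : V} {s : ℕ} (C : Conf D M g v w s) (hs : 1 ≤ s)
    (hlt : finrank F ↥(img E g v ⊓ ln E w) + 1 < finrank F E) (hG : Good D g v w) :
    HasConf D M (finrank F ↥(img E g v ⊓ ln E w) + 1) := by
  rcases good_step_or hO hk C hs hlt hG with h | ⟨-, hX, y₁, y', y'', hy₁, hy', hy'', h₁, hmul, hwy', hq', hq'', hyy⟩
  · exact h
  obtain ⟨xw, hxw, hxw0⟩ := C.inter_ne_bot hs
  have hperp : polar D.qE xw y' = 0 := by
    obtain ⟨e, rfl⟩ := hxw.2
    show polar D.qE (e • w) y' = 0
    rw [polar_smul_left, hwy', smul_zero]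
  rw [hX] at hlt ⊢
  rcases half_turn_or_alt hO hk C hxw hxw0 hy' hq' hy'' hq'' hyy (Or.inr hperp) with h | ⟨ψ, hψ0, hψ⟩
  · exact h
  · exact (alt_planar_step hO hk C hX hy₁ h₁ hmul hψ0 hψ).mono (by omega)

end Cfsg.Agent.Lib.OrthExt
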