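import Cfsg.Agent.Lib.OrthExt.ThreeStab
import Cfsg.Agent.Lib.OrthExt.ThreeSmall
import Cfsg.Agent.Lib.OrthExt.Standard

/-!
Dimension three over the extension: the intersections grow to a hyperplane.
-/

set_option autoImplicit false
set_option linter.style.haveILetI false

namespace Cfsg.Agent.Lib.OrthExt

open QuadraticMap Module Cfsg.Agent.Lib Cfsg.Agent.Lib.SympExt

variable {F E V : Type*} [Field F] [Field E] [Algebra F E] [AddCommGroup V] [Module F V] [Module E V]
  [IsScalarTower F E V] {Q : QuadraticForm F V} [Finite E] {D : ExtData E Q} {M : Subgroup (V ≃ₗ[F] V)}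

/-- An intersection of dimension two gives an element supported on a line. -/
theorem exists_alt_of_two (hO : Over D M) (hk : finrank E V = 3) {g : V ≃ₗ[F] V} {v w : V} {s : ℕ}
    (C : Conf D M g v w s) (h2 : 2 ≤ finrank F ↥(img E g v ⊓ ln E w)) :
    ∃ ψ, ψ ≠ 0 ∧ AltMem D M w ψ := by
  classical
  haveI := C.hF
  haveI := D.finE
  haveI := D.finV
  haveI : Finite F := finite_base (E := E)
  haveI : Finite V := Module.finite_of_finite F
  haveI : Finite (V ≃ₗ[F] V) := Finite.of_injective _ DFunLike.coe_injective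
  by_contra hno
  have hnone : ∀ ψ, AltMem D M w ψ → ψ = 0 := fun ψ hψ => by
    by_contra h
    exact hno ⟨ψ, h, hψ⟩
  obtain ⟨w', hw', hww⟩ := D.ndE.exists_partner C.hw0 C.hw
  obtain ⟨c, W⟩ := exists_frame D C.hw hw' hww
  set X := img E g v ⊓ ln E w with hX
  obtain ⟨xw, hxw, hxw0⟩ := Submodule.exists_mem_ne_zero_of_ne_bot (p := X) fun e => by
    rw [e, finrank_bot] at h2; omega
  obtain ⟨xw', hxw', hxwn⟩ : ∃ z ∈ X, z ∉ Submodule.span F ({xw} : Set V) := by
    by_contra h
    push Not at h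
    have h1 := Submodule.finrank_mono (show X ≤ Submodule.span F {xw} from h)
    rw [finrank_span_singleton hxw0] at h1
    omega
  obtain ⟨x, hxe⟩ := hxw.2
  change x • w = xw at hxe
  obtain ⟨x', hxe'⟩ := hxw'.2
  change x' • w = xw' at hxe'
  have hx0 : x ≠ 0 := fun e => hxw0 (by rw [← hxe, e, zero_smul])
  have hli : x' ∉ Submodule.span F ({x} : Set E) := fun h => hxwn (by
    obtain ⟨k, hk⟩ := Submodule.mem_span_singleton.mp h
    exact Submodule.mem_span_singleton.mpr ⟨k, by rw [← hxe, ← hxe', ← hk, smul_assoc]⟩)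
  let H : Subgroup (V ≃ₗ[F] V) :=
    { carrier := {n | n ∈ M ∧ ∀ z ∈ X, n z = z}
      one_mem' := ⟨one_mem M, fun z _ => rfl⟩
      mul_mem' := fun {a b} ha hb => ⟨mul_mem ha.1 hb.1, fun z hz => by
        rw [LinearEquiv.mul_apply, hb.2 z hz, ha.2 z hz]⟩
      inv_mem' := fun {a} ha => ⟨inv_mem ha.1, fun z hz => by
        show a.symm z = z
        rw [LinearEquiv.symm_apply_eq, ha.2 z hz]⟩ }
  let R : E → V ≃ₗ[F] V := fun t => rho D w (t • c) W.hw (W.perp_smul t)
  have hRmem : ∀ t, R t ∈ H := fun t => ⟨hO.rho_mem _ _ _ _, fun z hz => W.rho_c_fix t hz.2⟩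
  have hRmul : ∀ s t, R s * R t = R (s + t) := fun s t => LinearEquiv.ext fun z => by
    show rho D w (s • c) W.hw (W.perp_smul s) (rho D w (t • c) W.hw (W.perp_smul t) z) =
      rho D w ((s + t) • c) W.hw (W.perp_smul (s + t)) z
    simp only [W.rho_smul_c, polar_add_left, polar_sub_left, polar_smul_left, polar_self', W.hw, W.hcw,
      polar_comm D.qE c w, smul_eq_mul]
    module
  have hRzero : R 0 = 1 := by
    have h := hRmul 0 0
    rw [add_zero] at h
    exact mul_eq_left.mp h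
  let ρ : Multiplicative E →* H :=
    { toFun := fun t => ⟨R t.toAdd, hRmem _⟩
      map_one' := Subtype.ext hRzero
      map_mul' := fun s t => Subtype.ext (hRmul _ _).symm }
  have hfix : ∀ t : E, t ≠ 0 → ∀ z, R t z = z → z ∈ ln (F := F) E w := by
    intro t ht z hz
    change rho D w (t • c) _ _ z = z at hz
    rw [W.rho_smul_c] at hz
    have h1 := congrArg (fun u => polar D.qE u c) hz
    simp [polar_sub_left, polar_add_left, polar_smul_left, polar_self', W.hcw, D.two, W.hc, ht] at h1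
    have h2' := congrArg (fun u => polar D.qE u w') hz
    simp [polar_sub_left, polar_add_left, polar_smul_left, W.hww, polar_comm D.qE c w', W.hcw', h1, ht] at h2'
    exact W.mem_ln_of_zero hk h1 h2'
  have hρinj : Function.Injective ρ := by
    refine (injective_iff_map_eq_one ρ).mpr fun t ht => ?_
    by_contra hne
    have ht0 : t.toAdd ≠ 0 := fun e => hne (Multiplicative.toAdd.injective (by rw [e]; rfl))
    have h1 : R t.toAdd = 1 := congrArg Subtype.val ht
    have h := hfix t.toAdd ht0 w' (by rw [h1]; rfl)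
    obtain ⟨e, he⟩ := h
    have h' := congrArg (fun u => polar D.qE w u) (show e • w = w' from he)
    simp [polar_smul_right, polar_self', W.hw, W.hww] at h'
  set U := ρ.range with hU
  -- elements normalising the line lie in the root group
  have hstabU : ∀ n : H, (∀ e : E, (n : V ≃ₗ[F] V) (e • w) ∈ ln (F := F) E w) → n ∈ U := by
    intro n hn
    obtain ⟨t, ht⟩ := stab_mem_root hO hk W hnone hx0 hli n.2.1 hn (n.2.2 _ (hxe ▸ hxw)) (n.2.2 _ (hxe' ▸ hxw'))
    exact ⟨Multiplicative.ofAdd t, Subtype.ext ht.symm⟩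
  have hnorm : ∀ n : H, (∀ u ∈ U, n * u * n⁻¹ ∈ U) → n ∈ U := by
    intro n hn
    refine hstabU n fun e => hfix 1 one_ne_zero _ ?_
    obtain ⟨t, ht⟩ : ∃ t, ρ t = n⁻¹ * ρ (Multiplicative.ofAdd (1 : E)) * n := by
      have hinj : Function.Injective fun u : U => (⟨n * u * n⁻¹, hn u u.2⟩ : U) := fun a b hab => by
        apply Subtype.ext
        simpa using congrArg Subtype.val hab
      obtain ⟨⟨u, t, ht⟩, hu⟩ := Finite.surjective_of_injective hinj ⟨ρ (Multiplicative.ofAdd 1), ⟨_, rfl⟩⟩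
      refine ⟨t, ?_⟩
      have h := congrArg Subtype.val hu
      simp only at h
      rw [← h, ← ht]; group
    have h1 := congrArg (fun a : H => (a : V ≃ₗ[F] V) (e • w)) ht
    change R t.toAdd (e • w) = (n : V ≃ₗ[F] V).symm (R 1 ((n : V ≃ₗ[F] V) (e • w))) at h1
    have h3 : R t.toAdd (e • w) = e • w := W.rho_c_fix t.toAdd (smul_mem_ln e w)
    rw [h3, eq_comm, LinearEquiv.symm_apply_eq] at h1
    exact h1
  -- it is a Sylow subgroup
  haveI : Fact (ringChar F).Prime := ⟨CharP.char_is_prime F _⟩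
  have hexp : ∀ u : Multiplicative E, u ^ ringChar F = 1 := fun u => by
    apply Multiplicative.toAdd.injective
    rw [toAdd_pow, toAdd_one, nsmul_eq_mul, ← map_natCast (algebraMap F E), CharP.cast_eq_zero, map_zero, zero_mul]
  have hUp : IsPGroup (ringChar F) U := by
    rintro ⟨_, t, rfl⟩
    exact ⟨1, Subtype.ext (by rw [pow_one, SubmonoidClass.coe_pow, ← map_pow, hexp, map_one]; rfl)⟩
  obtain ⟨P, hP⟩ := hUp.exists_le_sylow
  have hPU : (P : Subgroup H) = U := by
    refine le_antisymm ?_ hP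
    by_contra hle
    haveI : Group.IsNilpotent P := P.2.isNilpotent
    have hlt : U.subgroupOf P < ⊤ := lt_top_iff_ne_top.mpr fun e => hle (Subgroup.subgroupOf_eq_top.mp e)
    have := Group.normalizerCondition_of_isNilpotent (G := P) _ hlt
    obtain ⟨n, hn, hnU⟩ := SetLike.exists_of_lt this
    apply hnU
    rw [Subgroup.mem_subgroupOf]
    refine hnorm _ fun u hu => ?_
    have h := (Subgroup.mem_normalizer_iff.mp hn ⟨u, hP hu⟩).mp (Subgroup.mem_subgroupOf.mpr hu)
    rwa [Subgroup.mem_subgroupOf] at h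
  have hcent : Subgroup.normalizer ((P : Subgroup H) : Set H) ≤ Subgroup.centralizer ((P : Subgroup H) : Set H) := by
    rw [hPU]
    intro n hn
    obtain ⟨t, rfl⟩ := hnorm n fun u hu => (Subgroup.mem_normalizer_iff.mp hn u).mp hu
    rw [Subgroup.mem_centralizer_iff]
    rintro _ ⟨s, rfl⟩
    rw [← map_mul, ← map_mul, mul_comm]
  have hcompl := MonoidHom.ker_transferSylow_isComplement' P hcent
  set K := (MonoidHom.transferSylow P hcent).ker with hK
  have hcop : (ringChar F).Coprime (Nat.card K) :=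
    (Fact.out : (ringChar F).Prime).coprime_iff_not_dvd.mpr (MonoidHom.not_dvd_card_ker_transferSylow P hcent)
  obtain ⟨ω, hω⟩ := exists_not_isF (F := F) (E := E) D.prime
  set a := ρ (Multiplicative.ofAdd (1 : E)) with ha
  set b := ρ (Multiplicative.ofAdd ω) with hb
  have hω0 : ω ≠ 0 := fun e => hω (isF_iff.mpr ⟨0, by rw [e, map_zero]⟩)
  have hb1 : b ≠ 1 := fun e => hω0 (by
    have := hρinj (e.trans ρ.map_one.symm)
    exact congrArg Multiplicative.toAdd this)
  have hab : a ∉ Subgroup.zpowers b := fun h => by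
    obtain ⟨k, hk⟩ := Subgroup.mem_zpowers_iff.mp h
    rw [hb, ← map_zpow, ha] at hk
    have := congrArg Multiplicative.toAdd (hρinj hk)
    rw [toAdd_zpow] at this
    simp only [toAdd_ofAdd] at this
    have hk0 : (k : F) ≠ 0 := fun e => one_ne_zero (α := E) (by
      rw [← this, zsmul_eq_mul, ← map_intCast (algebraMap F E), e, map_zero, zero_mul])
    refine hω (isF_iff.mpr ⟨(k : F)⁻¹, ?_⟩)
    rw [zsmul_eq_mul, ← map_intCast (algebraMap F E)] at this
    rw [map_inv₀, inv_eq_of_mul_eq_one_right this]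
  have hKbot : K ≤ ⊥ := by
    refine Coprime.le_of_pair (Fact.out : (ringChar F).Prime) hcop ?_ ?_ ?_ ?_ hb1 hab fun u hu hu1 k hk => ?_
    · rw [Subgroup.normalizer_eq_top]; exact le_top
    · show a * b = b * a
      exact (map_mul ρ _ _).symm.trans (by rw [mul_comm, map_mul])
    · exact (map_pow ρ _ _).symm.trans (by rw [hexp, map_one])
    · exact (map_pow ρ _ _).symm.trans (by rw [hexp, map_one])
    · obtain ⟨t, rfl⟩ : u ∈ U := (Subgroup.closure_le U).mpr
        (by rintro y (rfl | rfl) <;> exact ⟨_, rfl⟩) hu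
      have ht0 : t.toAdd ≠ 0 := fun e => hu1 (by
        rw [show t = 1 from Multiplicative.toAdd.injective (e.trans toAdd_one.symm), map_one])
      have hcomm : k * ρ t = ρ t * k := (Subgroup.mem_centralizer_iff.mp hk.2 _ rfl).symm
      have hkU : k ∈ U := hstabU k fun e => hfix t.toAdd ht0 _ (by
        have h := congrArg (fun z : H => (z : V ≃ₗ[F] V) (e • w)) hcomm
        change (k : V ≃ₗ[F] V) (R t.toAdd (e • w)) = R t.toAdd ((k : V ≃ₗ[F] V) (e • w)) at h
        have h3 : R t.toAdd (e • w) = e • w := W.rho_c_fix t.toAdd (smul_mem_ln e w)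
        rw [h3] at h
        exact h.symm)
      rw [← hPU] at hkU
      exact (disjoint_iff.mp hcompl.disjoint).le ⟨hk.1, hkU⟩
  -- the conjugate root elements
  obtain ⟨v', hv', hvv⟩ := D.ndE.exists_partner C.hv0 C.hv
  obtain ⟨c₁, W₁⟩ := exists_frame D C.hv hv' hvv
  set r := rho D v ((1 : E) • c₁) W₁.hw (W₁.perp_smul 1) with hr
  have hrfix : ∀ z ∈ img E g v, (g * r * g⁻¹) z = z := by
    rintro _ ⟨u, hu, rfl⟩
    show g (r (g.symm (g u))) = g u
    rw [g.symm_apply_apply, hr, W₁.rho_c_fix 1 hu]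
  have hnH : g * r * g⁻¹ ∈ H :=
    ⟨mul_mem (mul_mem C.hg (hO.rho_mem _ _ _ _)) (inv_mem C.hg), fun z hz => hrfix z hz.1⟩
  have htop : U = ⊤ := by
    rw [← hPU]
    rw [Subgroup.eq_top_iff']
    intro z
    obtain ⟨⟨⟨k, hk⟩, p⟩, rfl⟩ := hcompl.2 z
    have : k = 1 := hKbot hk
    subst this
    simp
  obtain ⟨t, ht⟩ : (⟨_, hnH⟩ : H) ∈ U := htop ▸ Subgroup.mem_top _
  have ht' : R t.toAdd = g * r * g⁻¹ := congrArg Subtype.val ht
  by_cases ht0 : t.toAdd = 0
  · rw [ht0, hRzero] at ht'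
    have hr1 : r = 1 := by
      have : g * r * g⁻¹ = 1 := ht'.symm
      rw [mul_inv_eq_one] at this
      exact mul_eq_left.mp this
    have h := congrArg (fun z : V ≃ₗ[F] V => polar D.qE (z v') c₁) hr1
    simp only [hr, W₁.rho_smul_c, polar_sub_left, polar_add_left, polar_smul_left, W₁.hcw, W₁.hcw',
      polar_self', LinearEquiv.coe_one, id, polar_comm D.qE v' v, W₁.hww, smul_eq_mul] at h
    exact mul_ne_zero D.two W₁.hc (by linear_combination -h)
  · refine C.ne (Submodule.eq_of_le_of_finrank_le (fun z hz => hfix _ ht0 z ?_)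
      (by rw [finrank_img g C.hv0, finrank_ln C.hw0]))
    rw [ht']
    exact hrfix z hz

/-- In dimension three every intersection below a hyperplane can be increased. -/
theorem step_three (hO : Over D M) (hk : finrank E V = 3) {s : ℕ} (hs : 1 ≤ s)
    (hsr : s + 1 < finrank F E) (h : HasConf D M s) : HasConf D M (s + 1) := by
  obtain ⟨g, v, w, C⟩ := h
  haveI := C.hF
  by_cases hbig : s + 1 ≤ finrank F ↥(img E g v ⊓ ln E w)
  · exact ⟨g, v, w, C.hg, C.hv0, C.hv, C.hw0, C.hw, C.ne, hbig⟩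
  have hX : finrank F ↥(img E g v ⊓ ln E w) = s := le_antisymm (by omega) C.le
  by_cases hperp : ∀ y ∈ img E g v, polar D.qE w y = 0
  · exact hX ▸ perp_step hO C hs (by omega) hperp
  push Not at hperp
  obtain ⟨y₁, hy₁, h₁⟩ := hperp
  by_cases hG : Good D g v w
  · exact hX ▸ good_step_small hO hk C hs (by omega) hG
  have hfin : ∀ g', Conf D M g' v v s → Good D g' v v → HasConf D M (s + 1) := by
    intro g' C' hG'
    by_cases hbig' : s + 1 ≤ finrank F ↥(img E g' v ⊓ ln E v)
    · exact ⟨g', v, v, C'.hg, C'.hv0, C'.hv, C'.hw0, C'.hw, C'.ne, hbig'⟩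
    have hX' : finrank F ↥(img E g' v ⊓ ln E v) = s := le_antisymm (by omega) C'.le
    exact hX' ▸ good_step_small hO hk C' hs (by omega) hG'
  by_cases hall : ∀ y ∈ img E g v, ∃ α β : E, y = α • w + β • partner D w y₁
  · obtain ⟨g', C', hG'⟩ := plane_good hO C hs hy₁ h₁ hall
    exact hfin g' C' hG'
  by_cases hsq : IsSquare (-1 : E)
  · exact hX ▸ magic_step hO hk hsq C hG hy₁ h₁ hall
  have halt : s + 1 ≤ 2 ∧ HasConf D M 2 ∨
      ∃ (u : V) (ψ : E →ₗ[F] E), u ≠ 0 ∧ D.qE u = 0 ∧ ψ ≠ 0 ∧ AltMem D M u ψ := by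
    by_cases hs1 : s = 1
    · exact (two_or_alt hO hk (by omega) hsq C hs).imp (fun h => ⟨by omega, h⟩) id
    · obtain ⟨ψ, hψ0, hψ⟩ := exists_alt_of_two hO hk C (by omega)
      exact Or.inr ⟨w, ψ, C.hw0, C.hw, hψ0, hψ⟩
  rcases halt with ⟨hs2, h⟩ | ⟨u, ψ, hu0, hu, hψ0, hψ⟩
  · exact h.mono hs2
  · obtain ⟨g', C', hG'⟩ := alt_good hO hk hsq hu0 hu hψ0 hψ C hG hy₁ h₁
    exact hfin g' C' hG'

/-- In dimension three over the extension the group contains every commutator. -/
theorem commutator_mem_three (hO : Over D M) (hk : finrank E V = 3) (_h9 : 9 ≤ finrank F V) {a b : V ≃ₗ[F] V}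
    (ha : a ∈ Classical.isoGroup ⇑Q) (hb : b ∈ Classical.isoGroup ⇑Q) : a * b * a⁻¹ * b⁻¹ ∈ M :=
  commutator_mem_of_conf hO
    (hasConf_hyperplane hO (fun _ hs hsr h => step_three hO hk hs hsr h) _
      (by have := D.prime.two_le; omega)) ha hb

universe u

variable {ι : Type} [Fintype ι] [DecidableEq ι] {K₀ : Type u} [Field K₀]

/-- The case of any dimension at least nine, with at least three dimensions over the extension. -/
theorem isMaximalIn_extField_three [Fintype K₀] {q : QuadraticForm K₀ (ι → K₀)} (hQ : Nd q) (r : ℕ)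
    (hr : r.Prime) (h3 : 3 * r ≤ Fintype.card ι) (hn : 9 ≤ Fintype.card ι) (h14 : r = 2 → 10 ≤ Fintype.card ι)
    (K : Subalgebra K₀ (Matrix ι ι K₀)) (hK : Cfsg.Geo.IsFieldSubalgebra r K)
    (hsa : Cfsg.Geo.IsSelfAdjointFor (polar ⇑q) K) :
    Cfsg.Geo.IsMaximalIn (Cfsg.Geo.omegaGL ⇑q) (Cfsg.Geo.subalgebraNormalizer K ⊓ Cfsg.Geo.omegaGL ⇑q) := by
  refine isMaximalIn_extField hQ r hr h3 h14 K hK hsa ?_
  intro E _ _ _ _ _ D M _ hO a ha b hb
  by_cases hk : finrank E (ι → K₀) = 3
  · exact commutator_mem_three hO hk (by rw [Module.finrank_fintype_fun_eq_card]; exact hn) ha hb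
  · exact commutator_mem_four hO (by have := D.three_le; omega) ha hb

end Cfsg.Agent.Lib.OrthExt
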