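import Cfsg.Agent.Lib.OrthExt.ThreeFrame

/-!
Dimension three over the extension without a square root of `-1`: the elements supported on a line are closed
under scalars of the base, and make any configuration good.
-/

set_option autoImplicit false

namespace Cfsg.Agent.Lib.OrthExt

open QuadraticMap Module Cfsg.Agent.Lib Cfsg.Agent.Lib.SympExt

variable {F E V : Type*} [Field F] [Field E] [Algebra F E] [AddCommGroup V] [Module F V] [Module E V]
  [IsScalarTower F E V] {Q : QuadraticForm F V} [Finite E] {D : ExtData E Q} {M : Subgroup (V ≃ₗ[F] V)}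

theorem AltMem.smul (hO : Over D M) (hns : ¬ IsSquare (-1 : E)) {v : V} (hv0 : v ≠ 0) (hv : D.qE v = 0) (c : F)
    {ψ : E →ₗ[F] E} (h : AltMem D M v ψ) : AltMem D M v (c • ψ) := by
  classical
  haveI : Finite F := finite_base (E := E)
  haveI := Fintype.ofFinite F
  have hnsF : ¬ IsSquare (-1 : F) := fun ⟨y, hy⟩ => hns ⟨algebraMap F E y, by
    rw [← map_mul, ← hy, map_neg, map_one]⟩
  have hsq : ∀ a : F, AltMem D M v ((a * a) • ψ) := fun a => by
    by_cases ha : a = 0
    · rw [ha, mul_zero, zero_smul]; exact altMem_zero v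
    obtain ⟨b, hb⟩ : ∃ b : F, a * a = (b * b) * (b * b) := by
      by_cases hsa : IsSquare a
      · obtain ⟨b, rfl⟩ := hsa; exact ⟨b, rfl⟩
      · obtain ⟨b, hb⟩ : IsSquare (-a) := by
          rw [← quadraticChar_one_iff_isSquare (neg_ne_zero.mpr ha), ← neg_one_mul a, map_mul,
            quadraticChar_neg_one_iff_not_isSquare.mpr hnsF, quadraticChar_neg_one_iff_not_isSquare.mpr hsa]
          norm_num
        exact ⟨b, by rw [← hb]; ring⟩
    have hb0 : b ≠ 0 := fun e => mul_ne_zero ha ha (by rw [hb, e]; ring)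
    have ht := h.twist hO hv0 hv (Units.mk0 (algebraMap F E b) (by simpa using hb0))
    convert ht using 1
    refine LinearMap.ext fun x => ?_
    show (a * a) • ψ x = _
    rw [LinearMap.comp_apply, LinearMap.comp_apply, LinearMap.mulLeft_apply, LinearMap.mulLeft_apply,
      Units.val_mk0, ← map_mul, ← Algebra.smul_def, ← Algebra.smul_def, ψ.map_smul, smul_smul, hb]
  have h2 := D.nd.two
  convert (hsq ((c + 1) / 2)).sub hv (hsq ((c - 1) / 2)) using 1
  refine LinearMap.ext fun x => ?_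
  simp only [LinearMap.smul_apply, LinearMap.sub_apply]
  match_scalars
  field_simp
  ring

/-- Supported elements are carried to every singular line. -/
theorem AltMem.exists_transport (hO : Over D M) {v w : V} (hv0 : v ≠ 0) (hv : D.qE v = 0) (hw0 : w ≠ 0)
    (hw : D.qE w = 0) {ψ : E →ₗ[F] E} (hψ0 : ψ ≠ 0) (h : AltMem D M v ψ) :
    ∃ ψ', ψ' ≠ 0 ∧ AltMem D M w ψ' := by
  obtain ⟨X, hX, hXM, c, hc, hXv⟩ := exists_move hO hv0 hv hw0 hw
  obtain ⟨z, hz, ez⟩ := h
  refine ⟨(c * c) • ψ, smul_ne_zero (mul_ne_zero hc hc) hψ0, rs X * z * (rs X)⁻¹,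
    mul_mem (mul_mem hXM hz) (inv_mem hXM), fun x => ?_⟩
  obtain ⟨y, rfl⟩ := X.surjective x
  show X (z ((rs (F := F) X).symm (rs (F := F) X y))) = _
  rw [(rs (F := F) X).symm_apply_apply, ez, map_add, map_smul, hXv]
  have e : polar D.qE (X y) w = c⁻¹ • polar D.qE y v := by
    rw [← Classical.isometry_polar hX y v, hXv, ← algebraMap_smul E c w, polar_smul_right, smul_eq_mul,
      Algebra.smul_def, map_inv₀, inv_mul_cancel_left₀ (by simpa using hc)]
  rw [e, LinearMap.smul_apply, ψ.map_smul, smul_smul, smul_comm, ← smul_assoc, mul_assoc, mul_inv_cancel₀ hc,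
    mul_one]

/-- The supported elements take every value orthogonal to the argument. -/
theorem exists_alt_value (hO : Over D M) (hodd : finrank F E ≠ 2) (hns : ¬ IsSquare (-1 : E)) {v : V}
    (hv0 : v ≠ 0) (hv : D.qE v = 0) {ψ : E →ₗ[F] E} (hψ0 : ψ ≠ 0) (hψ : AltMem D M v ψ) {a e : E} (ha : a ≠ 0)
    (he : Algebra.trace F E (e * a) = 0) : ∃ ψ', AltMem D M v ψ' ∧ ψ' a = e := by
  haveI := D.finE
  let U : Submodule F E :=
    { carrier := {y | ∃ ψ', AltMem D M v ψ' ∧ ψ' a = y}
      zero_mem' := ⟨0, altMem_zero v, rfl⟩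
      add_mem' := by
        rintro x y ⟨p, hp, rfl⟩ ⟨q, hq, rfl⟩
        exact ⟨p + q, hp.add hv hq, rfl⟩
      smul_mem' := by
        rintro c x ⟨p, hp, rfl⟩
        exact ⟨c • p, hp.smul hO hns hv0 hv c, rfl⟩ }
  by_contra hno
  obtain ⟨χ, hχ, hχU⟩ := Submodule.exists_dual_map_eq_bot_of_notMem (show e ∉ U from hno) inferInstance
  obtain ⟨ε, hε⟩ := exists_trace_eq χ
  have hεa : ε ∉ Submodule.span F ({a} : Set E) := fun hm => hχ (by
    obtain ⟨k, hk⟩ := Submodule.mem_span_singleton.mp hm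
    rw [← hε, ← hk, smul_mul_assoc, (Algebra.trace F E).map_smul, mul_comm, he, smul_zero])
  obtain ⟨ψ', hψ', hne⟩ := exists_pairing_ne hO hodd hv0 hv hψ0 hψ ha hεa
  apply hne
  have : χ (ψ' a) ∈ U.map χ := ⟨_, ⟨ψ', hψ', rfl⟩, rfl⟩
  rw [hχU, Submodule.mem_bot, ← hε] at this
  rwa [mul_comm]

/-- A non-zero scalar in odd degree with an isotropic square. -/
theorem exists_trace_sq_zero (D : ExtData E Q) (hodd : finrank F E ≠ 2) {κ : E} (hκ : κ ≠ 0) :
    ∃ t : E, t ≠ 0 ∧ Algebra.trace F E (t * t * κ) = 0 := by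
  haveI := D.finE
  haveI : Finite F := finite_base (E := E)
  let B : LinearMap.BilinForm F E := (Algebra.traceForm F E).compl₂ (LinearMap.mulLeft F κ)
  have hB : ∀ x y, B x y = Algebra.trace F E (x * (κ * y)) := fun x y => rfl
  let q : QuadraticForm F E := LinearMap.BilinMap.toQuadraticMap B
  have hq : ∀ x, q x = Algebra.trace F E (x * (κ * x)) := fun x => rfl
  have hnd : NdOn q ⊤ := fun x _ hx => by
    by_contra hno
    push Not at hno
    refine hx ((mul_eq_zero.mp (eq_zero_of_trace (F := F) (x := κ * x) fun y => ?_)).resolve_left hκ)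
    have h := hno y trivial
    simp only [polar, hq] at h
    rw [show (x + y) * (κ * (x + y)) = x * (κ * x) + y * (κ * y) + (y * (κ * x) + y * (κ * x)) by ring, map_add,
      map_add, map_add] at h
    exact mul_left_cancel₀ D.nd.two (by linear_combination h)
  obtain ⟨t, -, ht, hqt⟩ := hnd.exists_sing D.nd.two (by
    rw [finrank_top]; have := D.prime.two_le; omega)
  exact ⟨t, ht, by rw [← hqt, hq]; ring_nf⟩

/-- An element supported on a line makes a configuration good. -/
theorem alt_good (hO : Over D M) (hk : finrank E V = 3) (hns : ¬ IsSquare (-1 : E)) {ψ : E →ₗ[F] E} {v₀ : V}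
    (hv₀0 : v₀ ≠ 0) (hv₀ : D.qE v₀ = 0) (hψ0 : ψ ≠ 0) (hψ : AltMem D M v₀ ψ) {g : V ≃ₗ[F] V} {v w : V} {s : ℕ}
    (C : Conf D M g v w s) (hG : ¬ Good D g v w) {y₁ : V} (hy₁ : y₁ ∈ img E g v) (h₁ : polar D.qE w y₁ ≠ 0) :
    ∃ g', Conf D M g' v v s ∧ Good D g' v v := by
  haveI := C.hF
  haveI := D.finE
  haveI : Finite F := finite_base (E := E)
  have hodd := odd_of_three D hk
  obtain ⟨hw', hww, hy₁e⟩ := partner_spec C.hw h₁
  obtain ⟨c, W⟩ := exists_frame D C.hw hw' hww
  obtain ⟨ψ₁, hψ₁0, hψ₁⟩ := hψ.exists_transport hO hv₀0 hv₀ C.hw0 C.hw hψ0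
  set φ₁ := polar D.qE w y₁ with hφ₁
  have hy₁w : polar D.qE y₁ w = φ₁ := by rw [polar_comm]
  have hy₁c : polar D.qE y₁ c = 0 := by
    rw [hy₁e]; simp [polar_add_left, polar_smul_left, W.hcw, W.hcw']
  obtain ⟨t, ht0, ht⟩ := exists_trace_sq_zero D hodd
    (mul_ne_zero W.hc (mul_ne_zero h₁ h₁) : D.qE c * (φ₁ * φ₁) ≠ 0)
  -- the functional to be cancelled
  let Φ : img E g v →ₗ[F] E := ((QuadraticMap.polarBilin D.qE w).restrictScalars F).comp (img E g v).subtype
  let l : img E g v →ₗ[F] F := (Algebra.trace F E).comp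
    ((LinearMap.mulLeft F (t * φ₁)).comp
        (((QuadraticMap.polarBilin D.qE).flip c).restrictScalars F ∘ₗ (img E g v).subtype)
      + (LinearMap.mulLeft F (t * t * D.qE c * φ₁)).comp Φ)
  have hl : ∀ y : img E g v, l y = Algebra.trace F E
      (t * φ₁ * polar D.qE (y : V) c + t * t * D.qE c * φ₁ * polar D.qE w (y : V)) := fun y => rfl
  obtain ⟨χ, hχ⟩ : l ∈ LinearMap.range Φ.dualMap := by
    rw [LinearMap.range_dualMap_eq_dualAnnihilator_ker, Submodule.mem_dualAnnihilator]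
    intro y hy
    have h0 : polar D.qE w (y : V) = 0 := hy
    have hyl : (y : V) ∈ ln (F := F) E w := by
      by_contra hn
      exact hG ⟨y, y.2, hn, h0⟩
    obtain ⟨e, he⟩ := hyl
    have hyc : polar D.qE (y : V) c = 0 := by
      rw [← he]; show polar D.qE (e • w) c = 0
      rw [polar_smul_left, W.hcw, smul_zero]
    rw [hl, h0, hyc]; simp
  obtain ⟨e, he⟩ := exists_trace_eq χ
  have hle : ∀ y : img E g v, Algebra.trace F E (e * polar D.qE w (y : V)) = l y := fun y => by
    rw [he, ← hχ]; rfl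
  have he₁ : Algebra.trace F E (e * φ₁) = 0 := by
    have h := hle ⟨y₁, hy₁⟩
    rw [hl] at h
    change Algebra.trace F E (e * φ₁) = _ at h
    rw [h, show polar D.qE ((⟨y₁, hy₁⟩ : img E g v) : V) c = 0 from hy₁c, mul_zero, zero_add]
    rw [show t * t * D.qE c * φ₁ * polar D.qE w ((⟨y₁, hy₁⟩ : img E g v) : V)
      = t * t * (D.qE c * (φ₁ * φ₁)) by rw [← hφ₁]; ring, ht]
  obtain ⟨ψ', ⟨z, hzM, ez⟩, hψ'e⟩ := exists_alt_value hO hodd hns C.hw0 C.hw hψ₁0 hψ₁ h₁ he₁
  set R := rho D w (t • c) W.hw (W.perp_smul t) with hR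
  have hRy : R y₁ = y₁ - (t * t * D.qE c * φ₁) • w - (t * φ₁) • c := by
    rw [hR, W.rho_smul_c, hy₁c, hy₁w, mul_zero, zero_sub, neg_smul, ← sub_eq_add_neg]
  have hcw : polar D.qE c w = 0 := by rw [polar_comm, W.hcw]
  have hzR : z (R y₁) = y₁ - (t * t * D.qE c * φ₁) • w - (t * φ₁) • c + e • w := by
    rw [ez, hRy, polar_sub_left, polar_sub_left, polar_smul_left, polar_smul_left, polar_self', W.hw, hcw, hy₁w]
    simp [hψ'e]
  refine exists_good hO C (h := z * R) (mul_mem hzM (hO.rho_mem _ _ _ _)) (fun x hx => ?_) hy₁ (fun hm => ?_)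
    fun y hy => ?_
  · show z (R x) = x
    rw [hR, W.rho_c_fix t hx.2, ez, polar_comm D.qE x w, polar_inter_zero C.hw hx, map_zero, zero_smul, add_zero]
  · change z (R y₁) ∈ img E g v at hm
    have hd := Submodule.sub_mem _ hm hy₁
    have hdl : z (R y₁) - y₁ ∈ ln (F := F) E w := by
      by_contra hn
      refine hG ⟨_, hd, hn, ?_⟩
      rw [hzR]
      simp [polar_sub_right, polar_add_right, polar_smul_right, polar_self', W.hw, W.hcw]
    obtain ⟨f, hf⟩ := hdl
    have h := congrArg (fun u => polar D.qE u c) (show f • w = z (R y₁) - y₁ from hf)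
    rw [hzR] at h
    simp [polar_sub_left, polar_add_left, polar_smul_left, polar_self', W.hcw, D.two, W.hc, ht0, h₁] at h
  · show polar Q y (z (R y₁)) = 0
    rw [hzR, polar_add_right, polar_sub_right, polar_sub_right, img_polar hO C.hg C.hv hy hy₁, D.polar_eq y,
      D.polar_eq y, D.polar_eq y, polar_smul_right, polar_smul_right, polar_smul_right, polar_comm D.qE y w,
      smul_eq_mul, smul_eq_mul, smul_eq_mul, hle ⟨y, hy⟩, hl, map_add]
    change _ + (Algebra.trace F E (t * φ₁ * polar D.qE y c)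
      + Algebra.trace F E (t * t * D.qE c * φ₁ * polar D.qE w y)) = 0
    ring

end Cfsg.Agent.Lib.OrthExt
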