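import Cfsg.Agent.Lib.OrthExt.Moves
import Cfsg.Agent.Lib.OrthExt.Alt

/-!
Dimension three over the extension: frames, the step from a good configuration, and the step by a central
involution of a hyperbolic plane.
-/

set_option autoImplicit false

namespace Cfsg.Agent.Lib.OrthExt

open QuadraticMap Module Cfsg.Agent.Lib Cfsg.Agent.Lib.SympExt

variable {F E V : Type*} [Field F] [Field E] [Algebra F E] [AddCommGroup V] [Module F V] [Module E V]
  [IsScalarTower F E V] {Q : QuadraticForm F V} [Finite E] {D : ExtData E Q} {M : Subgroup (V ≃ₗ[F] V)}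

variable (D) in
/-- A hyperbolic pair with an anisotropic vector orthogonal to it. -/
structure Frame (w w' c : V) : Prop where
  hw : D.qE w = 0
  hw' : D.qE w' = 0
  hww : polar D.qE w w' = 1
  hcw : polar D.qE w c = 0
  hcw' : polar D.qE w' c = 0
  hc : D.qE c ≠ 0

theorem exists_frame (D : ExtData E Q) {w w' : V} (hw : D.qE w = 0) (hw' : D.qE w' = 0)
    (hww : polar D.qE w w' = 1) : ∃ c, Frame D w w' c := by
  obtain ⟨b, hb, k, hk, hbq⟩ := exists_perp2_value D hw hw' hww (one_ne_zero (α := E))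
  obtain ⟨h1, h2⟩ := mem_perp2.mp hb
  exact ⟨b, hw, hw', hww, h1, h2, by rw [hbq, mul_one]; simpa using hk⟩

theorem odd_of_three (D : ExtData E Q) (hk : finrank E V = 3) : finrank F E ≠ 2 := fun h => by
  have := (D.seven_le h).1
  omega

theorem five_le_of_three (D : ExtData E Q) (hk : finrank E V = 3) (h13 : 13 ≤ finrank F V) :
    5 ≤ finrank F E := by
  have h := Module.finrank_mul_finrank F E V
  rw [hk] at h
  omega

namespace Frame

variable {w w' c : V} (W : Frame D w w' c)
include W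

theorem hw0 : w ≠ 0 := fun e => one_ne_zero (α := E) (by rw [← W.hww, e, polar_zero_left])

theorem ext_zero (hk : finrank E V = 3) {x : V} (h1 : polar D.qE x w = 0) (h2 : polar D.qE x w' = 0)
    (h3 : polar D.qE x c = 0) : x = 0 := by
  haveI := D.finV
  let B := QuadraticMap.polarBilin D.qE
  let L : V →ₗ[E] E × E × E := (B.flip w).prod ((B.flip w').prod (B.flip c))
  have hw'w : polar D.qE w' w = 1 := by rw [polar_comm, W.hww]
  have hcw : polar D.qE c w = 0 := by rw [polar_comm, W.hcw]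
  have hcw' : polar D.qE c w' = 0 := by rw [polar_comm, W.hcw']
  have hsurj : Function.Surjective L := by
    rintro ⟨a, b, d⟩
    refine ⟨a • w' + b • w + (d / (2 * D.qE c)) • c, ?_⟩
    have hne : 2 * D.qE c ≠ 0 := mul_ne_zero D.two W.hc
    simp [L, B, polar_self', W.hw, W.hw', W.hww, hw'w, W.hcw, hcw, W.hcw', hcw', D.two, W.hc]
  have hinj : Function.Injective L :=
    (LinearMap.injective_iff_surjective_of_finrank_eq_finrank (by simp [hk])).mpr hsurj
  exact hinj (by simp [L, B, h1, h2, h3])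

theorem decomp (hk : finrank E V = 3) (y : V) :
    y = polar D.qE y w' • w + polar D.qE y w • w' + (polar D.qE y c / (2 * D.qE c)) • c := by
  have hw'w : polar D.qE w' w = 1 := by rw [polar_comm, W.hww]
  have hcw : polar D.qE c w = 0 := by rw [polar_comm, W.hcw]
  have hcw' : polar D.qE c w' = 0 := by rw [polar_comm, W.hcw']
  rw [← sub_eq_zero]
  refine W.ext_zero hk ?_ ?_ ?_ <;>
    simp [polar_sub_left, polar_add_left, polar_smul_left, polar_self', W.hw, W.hw', W.hww, hw'w, W.hcw, hcw,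
      W.hcw', hcw', D.two, W.hc]

theorem mem_ln_of_zero (hk : finrank E V = 3) {y : V} (h1 : polar D.qE y w = 0) (h3 : polar D.qE y c = 0) :
    y ∈ ln (F := F) E w := by
  refine ⟨polar D.qE y w', ?_⟩
  show polar D.qE y w' • w = y
  have h := W.decomp hk y
  rw [h1, h3, zero_smul, zero_div, zero_smul, add_zero, add_zero] at h
  exact h.symm

theorem perp_smul (t : E) : polar D.qE w (t • c) = 0 := by rw [polar_smul_right, W.hcw, smul_zero]

theorem rho_smul_c (t : E) (y : V) :
    rho D w (t • c) W.hw (W.perp_smul t) y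
      = y + (t * polar D.qE y c - t * t * D.qE c * polar D.qE y w) • w - (t * polar D.qE y w) • c := by
  rw [rho_apply, polar_smul_right, QuadraticMap.map_smul, smul_eq_mul, smul_eq_mul]
  module

theorem rho_c_fix (t : E) {x : V} (hx : x ∈ ln (F := F) E w) :
    rho D w (t • c) W.hw (W.perp_smul t) x = x := by
  obtain ⟨e, rfl⟩ := hx
  refine rho_fix D W.hw (W.perp_smul t) ?_ ?_
  · show polar D.qE (e • w) (t • c) = 0
    rw [polar_smul_left, W.perp_smul, smul_zero]
  · show polar D.qE (e • w) w = 0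
    rw [polar_smul_left, polar_self', W.hw]; simp

end Frame

/-- A configuration of degree three meeting in a point, with a single pairing value and an orthogonal
anisotropic pair. -/
def Planar (D : ExtData E Q) (g : V ≃ₗ[F] V) (v w : V) : Prop :=
  finrank F E ≤ 3 ∧ finrank F ↥(img E g v ⊓ ln E w) = 1 ∧ ∃ y₁ y' y'' : V, y₁ ∈ img E g v ∧
    y' ∈ img E g v ∧ y'' ∈ img E g v ∧ polar D.qE w y₁ ≠ 0 ∧
    (∀ y ∈ img E g v, ∃ k : F, polar D.qE w y = k • polar D.qE w y₁) ∧
    polar D.qE w y' = 0 ∧ D.qE y' ≠ 0 ∧ D.qE y'' ≠ 0 ∧ polar D.qE y' y'' = 0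

/-- In dimension three a good configuration gives a larger intersection, or is planar. -/
theorem good_step_or (hO : Over D M) (hk : finrank E V = 3) {g : V ≃ₗ[F] V}
    {v w : V} {s : ℕ} (C : Conf D M g v w s) (hs : 1 ≤ s)
    (hlt : finrank F ↥(img E g v ⊓ ln E w) + 1 < finrank F E) (hG : Good D g v w) :
    HasConf D M (finrank F ↥(img E g v ⊓ ln E w) + 1) ∨ Planar D g v w := by
  haveI := C.hF
  haveI := D.finE
  by_cases hperp : ∀ y ∈ img E g v, polar D.qE w y = 0
  · exact Or.inl (perp_step hO C hs hlt hperp)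
  push Not at hperp
  obtain ⟨y₁, hy₁, h₁⟩ := hperp
  obtain ⟨hw', hww, -⟩ := partner_spec C.hw h₁
  obtain ⟨c, W⟩ := exists_frame D C.hw hw' hww
  have hodd := odd_of_three D hk
  obtain ⟨y', hy', hy'w, hwy'⟩ := hG
  have hy'w' : polar D.qE y' w = 0 := by rw [polar_comm]; exact hwy'
  have hβ : ∀ {y}, y ∈ img E g v → y ∉ ln (F := F) E w → polar D.qE w y = 0 → polar D.qE y c ≠ 0 :=
    fun {y} _ hyw hy h => hyw (W.mem_ln_of_zero hk (by rw [polar_comm]; exact hy) h)
  set X := img E g v ⊓ ln E w with hX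
  set Xc : Submodule F E := X.comap ((LinearMap.toSpanSingleton E V w).restrictScalars F) with hXc
  have memXc : ∀ e : E, e ∈ Xc ↔ e • w ∈ img E g v := fun e =>
    ⟨fun h => (Submodule.mem_inf.mp h).1, fun h => ⟨h, smul_mem_ln e w⟩⟩
  refine or_iff_not_imp_left.mpr fun hno => ?_
  -- no shear moves the image
  have hstab : ∀ y₀ ∈ img E g v, y₀ ∉ ln (F := F) E w → polar D.qE w y₀ = 0 → ∀ x ∈ Xc, ∀ z ∈ img E g v,
      rho D w ((x / polar D.qE y₀ c) • c) W.hw (W.perp_smul _) z ∈ img E g v := by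
    intro y₀ hy₀ hy₀w hw₀ x hx z hz
    by_contra hz'
    refine hno (hasConf_of_inter C.hv0 C.hv (inter_shift' C.hg
      (hO.rho_mem w ((x / polar D.qE y₀ c) • c) W.hw (W.perp_smul _)) inf_le_left ?_ hy₀ ?_
      (fun h => hy₀w h.2) hz hz'))
    · intro u hu
      rw [W.rho_c_fix _ hu.2]; exact hu.1
    · rw [W.rho_smul_c, polar_comm D.qE y₀ w, hw₀, mul_zero, mul_zero, sub_zero, zero_smul, sub_zero,
        div_mul_cancel₀ _ (hβ hy₀ hy₀w hw₀)]
      exact Submodule.add_mem _ hy₀ ((memXc x).mp hx)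
  have hκ : ∀ u ∈ img E g v, ∀ y₀ ∈ img E g v, y₀ ∉ ln (F := F) E w → polar D.qE w y₀ = 0 → ∀ x ∈ Xc,
      (2 * D.qE c * polar D.qE w u / (polar D.qE y₀ c * polar D.qE y₀ c)) * (x * x) ∈ Xc := by
    intro u hu y₀ hy₀ hy₀w hw₀ x hx
    have hne := hβ hy₀ hy₀w hw₀
    set t := x / polar D.qE y₀ c with ht
    have h1 := hstab y₀ hy₀ hy₀w hw₀ x hx u hu
    have h2 := hstab y₀ hy₀ hy₀w hw₀ x hx _ h1
    have h3 := Submodule.add_mem _ (Submodule.sub_mem _ (Submodule.sub_mem _ h2 h1) h1) hu
    rw [← ht] at h3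
    rw [W.rho_smul_c t u, W.rho_smul_c] at h3
    rw [memXc]
    have hneg := Submodule.neg_mem _ h3
    convert hneg using 1
    have hcw : polar D.qE c w = 0 := by rw [polar_comm, W.hcw]
    simp only [polar_add_left, polar_sub_left, polar_smul_left, polar_self', W.hw, W.hcw, hcw,
      polar_comm D.qE w u, smul_eq_mul, mul_zero, add_zero, sub_zero]
    rw [ht]
    match_scalars <;> field_simp <;> ring
  obtain ⟨xw, hxw, hxw0⟩ := C.inter_ne_bot hs
  obtain ⟨x₀, hx₀⟩ := hxw.2
  change x₀ • w = xw at hx₀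
  have hx₀c : x₀ ∈ Xc := (memXc x₀).mpr (hx₀ ▸ hxw.1)
  have hx₀0 : x₀ ≠ 0 := fun e => hxw0 (by rw [← hx₀, e, zero_smul])
  have hκF : ∀ u ∈ img E g v, ∀ y₀ ∈ img E g v, y₀ ∉ ln (F := F) E w → polar D.qE w y₀ = 0 → ∀ x ∈ Xc,
      IsF F ((2 * D.qE c * polar D.qE w u / (polar D.qE y₀ c * polar D.qE y₀ c)) * x) := by
    intro u hu y₀ hy₀ hy₀w hw₀ x hx
    set κ := 2 * D.qE c * polar D.qE w u / (polar D.qE y₀ c * polar D.qE y₀ c)
    by_contra hnF
    have hst : ∀ z ∈ Xc, κ * x * z ∈ Xc := fun z hz => by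
      have e1 := hκ u hu y₀ hy₀ hy₀w hw₀ x hx
      have e2 := hκ u hu y₀ hy₀ hy₀w hw₀ z hz
      have e3 := hκ u hu y₀ hy₀ hy₀w hw₀ (x + z) (Xc.add_mem hx hz)
      have e4 := Xc.smul_mem ((2 : F)⁻¹) (Xc.sub_mem (Xc.sub_mem e3 e1) e2)
      convert e4 using 1
      rw [show κ * ((x + z) * (x + z)) - κ * (x * x) - κ * (z * z) = (2 : F) • (κ * x * z) by
        rw [Algebra.smul_def, map_ofNat]; ring, smul_smul, inv_mul_cancel₀ D.nd.two, one_smul]
    have hle : ln (F := F) E w ≤ img E g v := by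
      rintro _ ⟨e, rfl⟩
      have := mul_mem_of_stable D.prime hnF hst (e / x₀) hx₀c
      rw [div_mul_cancel₀ _ hx₀0] at this
      exact (memXc e).mp this
    exact C.ne (Submodule.eq_of_le_of_finrank_le hle (by rw [finrank_img g C.hv0, finrank_ln C.hw0])).symm
  set κ := 2 * D.qE c * polar D.qE w y₁ with hκdef
  have hκ0 : κ ≠ 0 := mul_ne_zero (mul_ne_zero D.two W.hc) h₁
  have hβ' := hβ hy' hy'w hwy'
  by_cases hbig : 2 ≤ finrank F X
  · -- two independent elements in the intersection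
    have hmem : ∀ x ∈ Xc, ∃ k : F, x • w = k • (x₀ • w) := fun x hx => by
      obtain ⟨a, ha⟩ := isF_iff.mp (hκF y₁ hy₁ y' hy' hy'w hwy' x hx)
      obtain ⟨a₀, ha₀⟩ := isF_iff.mp (hκF y₁ hy₁ y' hy' hy'w hwy' x₀ hx₀c)
      have hne : κ / (polar D.qE y' c * polar D.qE y' c) ≠ 0 := div_ne_zero hκ0 (mul_ne_zero hβ' hβ')
      have ha₀0 : a₀ ≠ 0 := fun e => mul_ne_zero hne hx₀0 (by rw [← ha₀, e, map_zero])
      refine ⟨a / a₀, ?_⟩
      rw [← algebraMap_smul E (a / a₀), smul_smul, map_div₀, ha, ha₀]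
      congr 1
      field_simp
      rw [mul_assoc x 2, mul_div_assoc, div_self (mul_ne_zero D.two W.hc), mul_one]
    have hle : X ≤ Submodule.span F {x₀ • w} := fun z hz => by
      obtain ⟨e, he⟩ := hz.2
      change e • w = z at he
      obtain ⟨k, hk'⟩ := hmem e ((memXc e).mpr (he ▸ hz.1))
      exact Submodule.mem_span_singleton.mpr ⟨k, by rw [← hk', he]⟩
    have h := Submodule.finrank_mono hle
    rw [finrank_span_singleton (by rw [hx₀]; exact hxw0)] at h
    omega
  -- a single point: the orthogonal part of the image is a line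
  have hX1 : finrank F X = 1 := by
    have := C.le
    change s ≤ finrank F X at this
    omega
  let Φ : V →ₗ[F] E := (QuadraticMap.polarBilin D.qE w).restrictScalars F
  let Y₀ := img E g v ⊓ LinearMap.ker Φ
  have hmul : ∀ y ∈ img E g v, ∃ k : F, polar D.qE w y = k • polar D.qE w y₁ := fun y hy => by
    obtain ⟨a, ha⟩ := isF_iff.mp (hκF y hy y' hy' hy'w hwy' x₀ hx₀c)
    obtain ⟨a₁, ha₁⟩ := isF_iff.mp (hκF y₁ hy₁ y' hy' hy'w hwy' x₀ hx₀c)
    have hne : κ / (polar D.qE y' c * polar D.qE y' c) ≠ 0 := div_ne_zero hκ0 (mul_ne_zero hβ' hβ')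
    have ha₁0 : a₁ ≠ 0 := fun e => mul_ne_zero hne hx₀0 (by rw [← ha₁, e, map_zero])
    refine ⟨a / a₁, ?_⟩
    rw [Algebra.smul_def, map_div₀, ha, ha₁]
    have := D.two
    have := W.hc
    field_simp
  have hY₀ : finrank F E ≤ finrank F Y₀ + 1 := by
    have h1 := (Φ.comp (img E g v).subtype).finrank_range_add_finrank_ker
    rw [LinearMap.range_comp, Submodule.range_subtype, finrank_img g C.hv0] at h1
    have h2 : (img E g v).map Φ ≤ Submodule.span F {polar D.qE w y₁} := by
      rintro _ ⟨y, hy, rfl⟩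
      obtain ⟨k, hk⟩ := hmul y hy
      exact Submodule.mem_span_singleton.mpr ⟨k, hk.symm⟩
    have h3 := (Submodule.finrank_mono h2).trans (le_of_eq (finrank_span_singleton h₁))
    rw [LinearMap.ker_comp] at h1
    have h4 : finrank F ((LinearMap.ker Φ).comap (img E g v).subtype) = finrank F Y₀ := by
      rw [← Submodule.finrank_map_subtype_eq, Submodule.map_comap_subtype]
    omega
  by_cases hplanar : Y₀ ≤ X ⊔ Submodule.span F {y'}
  · have h1 := Submodule.finrank_mono hplanar
    have h2 := Submodule.finrank_add_le_finrank_add_finrank X (Submodule.span F {y'})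
    rw [finrank_span_singleton (fun e : y' = 0 => hy'w (by rw [e]; exact Submodule.zero_mem _))] at h2
    refine ⟨by omega, hX1, ?_⟩
    set β := polar D.qE y' c with hβdef
    set t := x₀ / β with ht
    have hd' := Submodule.sub_mem _ (hstab y' hy' hy'w hwy' x₀ hx₀c y₁ hy₁) hy₁
    rw [← ht, W.rho_smul_c] at hd'
    obtain ⟨d, hd⟩ : ∃ d : V, d = y₁ + (t * polar D.qE y₁ c - t * t * D.qE c * polar D.qE y₁ w) • w
        - (t * polar D.qE y₁ w) • c - y₁ := ⟨_, rfl⟩
    rw [← hd] at hd'
    have hcw : polar D.qE c w = 0 := by rw [polar_comm, W.hcw]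
    have hy₁w : polar D.qE y₁ w = polar D.qE w y₁ := polar_comm ..
    have hdY : d ∈ Y₀ := ⟨hd', by
      show polar D.qE w d = 0
      rw [hd]
      simp [polar_sub_right, polar_add_right, polar_smul_right, polar_self', W.hw, W.hcw]⟩
    obtain ⟨z, hz, _, hky, hzd⟩ := Submodule.mem_sup.mp (hplanar hdY)
    obtain ⟨k, rfl⟩ := Submodule.mem_span_singleton.mp hky
    obtain ⟨m, hm⟩ : ∃ m : F, m • (x₀ • w) = z := by
      obtain ⟨m, hm⟩ := (finrank_eq_one_iff_of_nonzero' (⟨x₀ • w, by rw [hx₀]; exact hxw⟩ : X)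
        (fun e => hxw0 (by simpa [hx₀] using congrArg Subtype.val e))).mp hX1 ⟨z, hz⟩
      exact ⟨m, congrArg Subtype.val hm⟩
    subst hm
    have eP := congrArg (fun u => polar D.qE y₁ u) hzd
    simp only [hd, polar_add_right, polar_sub_right, polar_smul_right, polar_self', smul_eq_mul,
      ← algebraMap_smul E m (x₀ • w), ← algebraMap_smul E k y', hy₁w] at eP
    have eC := congrArg (fun u => polar D.qE u c) hzd
    simp only [hd, polar_add_left, polar_sub_left, polar_smul_left, polar_self', W.hcw, smul_eq_mul,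
      ← algebraMap_smul E m (x₀ • w), ← algebraMap_smul E k y', hy₁w] at eC
    have hk0 : k ≠ 0 := fun e => by
      rw [e, map_zero] at eC
      exact mul_ne_zero (mul_ne_zero (div_ne_zero hx₀0 hβ') h₁) (mul_ne_zero D.two W.hc) (by linear_combination eC)
    have hqy : 4 * D.qE c * D.qE y' = β * β := by
      have hdc := W.decomp hk y'
      rw [hy'w', zero_smul, add_zero] at hdc
      conv_lhs => rw [hdc]
      rw [QuadraticMap.map_add (⇑D.qE), QuadraticMap.map_smul, QuadraticMap.map_smul, W.hw, polar_smul_left,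
        polar_smul_right, W.hcw]
      simp only [smul_eq_mul, mul_zero, add_zero, zero_add, ← hβdef]
      have := D.two
      have := W.hc
      field_simp
      ring
    have hqy0 : D.qE y' ≠ 0 := fun e => mul_ne_zero hβ' hβ' (by rw [← hqy, e, mul_zero])
    obtain ⟨a, ha⟩ := isF_iff.mp (hκF y₁ hy₁ y' hy' hy'w hwy' x₀ hx₀c)
    obtain ⟨b, hb⟩ : ∃ b : F, polar D.qE y₁ y' = algebraMap F E b * (2 * D.qE y') := by
      refine ⟨-(a * a + 2 * m * a) / (2 * k), ?_⟩
      have hkE : algebraMap F E k ≠ 0 := by simpa using hk0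
      have := D.two
      have := W.hc
      have hβ0 : β ≠ 0 := hβ'
      simp only [map_div₀, map_neg, map_add, map_mul, map_ofNat, ha, ← hβdef]
      rw [ht] at eP
      field_simp at eP ⊢
      set q' := D.qE y'
      set q₁ := D.qE y₁
      set qc := D.qE c
      set A := polar D.qE w y₁
      set P := polar D.qE y₁ y'
      set m' := algebraMap F E m
      set k' := algebraMap F E k
      linear_combination β ^ 2 * eP + (x₀ * A) * (x₀ * A * qc + m' * β ^ 2) * hqy
    set u := y₁ - b • y' with hu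
    have hu0 : polar D.qE y' u = 0 := by
      rw [hu, polar_sub_right, polar_comm D.qE y' y₁, hb, ← algebraMap_smul E b y', polar_smul_right, polar_self',
        smul_eq_mul, sub_self]
    have huw : polar D.qE w u = polar D.qE w y₁ := by
      rw [hu, polar_sub_right, ← algebraMap_smul E b y', polar_smul_right, hwy', smul_zero, sub_zero]
    have hui : u ∈ img E g v := Submodule.sub_mem _ hy₁ (Submodule.smul_mem _ b hy')
    by_cases huq : D.qE u = 0
    · refine ⟨y₁, y', u + x₀ • w, hy₁, hy', Submodule.add_mem _ hui ((memXc x₀).mp hx₀c), h₁, hmul, hwy',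
        hqy0, ?_, ?_⟩
      · rw [QuadraticMap.map_add (⇑D.qE), huq, QuadraticMap.map_smul, W.hw, smul_zero, zero_add, zero_add,
          polar_smul_right, polar_comm D.qE u w, huw, smul_eq_mul]
        exact mul_ne_zero hx₀0 h₁
      · rw [polar_add_right, hu0, polar_smul_right, hy'w', smul_zero, add_zero]
    · exact ⟨y₁, y', u, hy₁, hy', hui, h₁, hmul, hwy', hqy0, huq, hu0⟩
  exfalso
  obtain ⟨y'', hy'', hy''n⟩ := SetLike.not_le_iff_exists.mp hplanar
  have hwy'' : polar D.qE w y'' = 0 := hy''.2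
  have hy''w : y'' ∉ ln (F := F) E w := fun h => hy''n (Submodule.mem_sup_left ⟨hy''.1, h⟩)
  have hβ'' := hβ hy''.1 hy''w hwy''
  obtain ⟨a₁, ha₁⟩ := isF_iff.mp (hκF y₁ hy₁ y' hy' hy'w hwy' x₀ hx₀c)
  obtain ⟨a₂, ha₂⟩ := isF_iff.mp (hκF y₁ hy₁ y'' hy''.1 hy''w hwy'' x₀ hx₀c)
  have hne2 : κ / (polar D.qE y'' c * polar D.qE y'' c) ≠ 0 := div_ne_zero hκ0 (mul_ne_zero hβ'' hβ'')
  have ha₂0 : a₂ ≠ 0 := fun e => mul_ne_zero hne2 hx₀0 (by rw [← ha₂, e, map_zero])
  have hsq : IsF F ((polar D.qE y'' c / polar D.qE y' c) * (polar D.qE y'' c / polar D.qE y' c)) := by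
    refine isF_iff.mpr ⟨a₁ / a₂, ?_⟩
    rw [map_div₀, ha₁, ha₂]
    have := D.two
    have := W.hc
    field_simp
  obtain ⟨k, hk'⟩ := isF_iff.mp (isF_of_sq D.prime hodd hsq)
  set z := y'' - k • y' with hz
  have hzi : z ∈ img E g v := Submodule.sub_mem _ hy''.1 (Submodule.smul_mem _ k hy')
  have hzl : z ∈ ln (F := F) E w := by
    refine W.mem_ln_of_zero hk ?_ ?_
    · rw [hz, polar_sub_left, polar_comm D.qE y'' w, hwy'', ← algebraMap_smul E k y', polar_smul_left,
        hy'w', smul_zero, sub_zero]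
    · rw [hz, polar_sub_left, ← algebraMap_smul E k y', polar_smul_left, smul_eq_mul, hk',
        div_mul_cancel₀ _ hβ', sub_self]
  exact hy''n (Submodule.mem_sup.mpr ⟨z, ⟨hzi, hzl⟩, k • y',
    Submodule.smul_mem _ k (Submodule.mem_span_singleton_self y'), sub_add_cancel _ _⟩)

/-- In dimension three and degree at least five a good configuration gives a larger intersection. -/
theorem good_step_three (hO : Over D M) (hk : finrank E V = 3) (h5 : 5 ≤ finrank F E) {g : V ≃ₗ[F] V}
    {v w : V} {s : ℕ} (C : Conf D M g v w s) (hs : 1 ≤ s)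
    (hlt : finrank F ↥(img E g v ⊓ ln E w) + 1 < finrank F E) (hG : Good D g v w) :
    HasConf D M (finrank F ↥(img E g v ⊓ ln E w) + 1) :=
  (good_step_or hO hk C hs hlt hG).resolve_right fun h => by have := h.1; omega

/-- With a square root of `-1` the involution of a plane through the intersection increases it. -/
theorem magic_step (hO : Over D M) (hk : finrank E V = 3) (hsq : IsSquare (-1 : E)) {g : V ≃ₗ[F] V} {v w : V}
    {s : ℕ} (C : Conf D M g v w s) (hG : ¬ Good D g v w) {y₁ : V} (hy₁ : y₁ ∈ img E g v)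
    (h₁ : polar D.qE w y₁ ≠ 0) (hnp : ¬ ∀ y ∈ img E g v, ∃ α β : E, y = α • w + β • partner D w y₁) :
    HasConf D M (finrank F ↥(img E g v ⊓ ln E w) + 1) := by
  haveI := C.hF
  obtain ⟨hw', hww, hy₁e⟩ := partner_spec C.hw h₁
  set w' := partner D w y₁ with hw'def
  obtain ⟨c, W⟩ := exists_frame D C.hw hw' hww
  obtain ⟨i, hi⟩ := hsq
  have hi0 : i ≠ 0 := fun e => neg_ne_zero.mpr (one_ne_zero (α := E)) (by rw [hi, e, mul_zero])
  set a := w + w' with ha
  set b := i • (w - w') with hb
  have hqa : D.qE a = 1 := by rw [ha, QuadraticMap.map_add (⇑D.qE), C.hw, hw', hww]; simp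
  have hqb : D.qE b = 1 := by
    rw [hb, QuadraticMap.map_smul, sub_eq_add_neg, QuadraticMap.map_add (⇑D.qE), QuadraticMap.map_neg,
      polar_neg_right, C.hw, hw', hww, smul_eq_mul, ← hi]
    simp
  have hqa0 : D.qE a ≠ 0 := by rw [hqa]; exact one_ne_zero
  have hqb0 : D.qE b ≠ 0 := by rw [hqb]; exact one_ne_zero
  set H := refl D.qE a hqa0 * refl D.qE b hqb0 with hH
  have hww'' : polar D.qE w' w = 1 := by rw [polar_comm, hww]
  have hHx : ∀ x : V, H x = x - (2 * polar D.qE x w') • w - (2 * polar D.qE x w) • w' := fun x => by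
    rw [hH, LinearEquiv.mul_apply, refl_apply b, refl_apply a, hqa, hqb, div_one, div_one]
    simp only [hb, ha, polar_smul_right, polar_sub_right, polar_add_right, polar_sub_left, polar_smul_left,
      polar_self', C.hw, hw', hww, hww'', smul_eq_mul]
    have hi' : i * i = -1 := hi.symm
    match_scalars <;> grind
  have hHw : ∀ e : E, rs (F := F) H (e • w) = -(e • w) := fun e => by
    rw [rs_apply, hHx, polar_smul_left, polar_smul_left, hww, polar_self', C.hw]
    simp only [smul_eq_mul, mul_one, mul_zero, zero_smul, sub_zero]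
    module
  by_cases hmove : ∃ y' ∈ img E g v, rs (F := F) H y' ∉ img E g v
  · obtain ⟨y', hy', hy''⟩ := hmove
    refine hasConf_of_inter C.hv0 C.hv (inter_shift' C.hg (hO.refl_pair_mem hqa0 hqb0 (hqa.trans hqb.symm))
      inf_le_left ?_ hy₁ ?_ (fun h => h₁ (polar_inter_zero C.hw h)) hy' hy'')
    · intro x hx
      obtain ⟨e, rfl⟩ := hx.2
      change rs H (e • w) ∈ _
      rw [hHw]
      exact Submodule.neg_mem _ hx.1
    · have e : rs (F := F) H y₁ = -y₁ := by
        rw [rs_apply]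
        conv_lhs => rw [hy₁e]
        conv_rhs => rw [hy₁e]
        rw [hHx, polar_add_left, polar_add_left, polar_smul_left, polar_smul_left, polar_smul_left,
          polar_smul_left, hww, hww'', polar_self', polar_self', C.hw, hw']
        simp only [smul_eq_mul, mul_one, mul_zero, add_zero, zero_add]
        module
      change rs H y₁ ∈ _
      rw [e]; exact Submodule.neg_mem _ hy₁
  push Not at hmove
  exfalso
  refine hnp fun y hy => ⟨polar D.qE y w', polar D.qE y w, ?_⟩
  set z := rs (F := F) H y + y with hz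
  have hzi : z ∈ img E g v := Submodule.add_mem _ (hmove y hy) hy
  have hzc : z = (2 * (polar D.qE y c / (2 * D.qE c))) • c := by
    rw [hz, rs_apply, hHx]
    conv_lhs => arg 2; rw [W.decomp hk y]
    conv_lhs => arg 1; arg 1; arg 1; rw [W.decomp hk y]
    module
  have hzl : z ∈ ln (F := F) E w := by
    by_contra hzn
    exact hG ⟨z, hzi, hzn, by rw [hzc, polar_smul_right, W.hcw, smul_zero]⟩
  obtain ⟨e, he⟩ := hzl
  have h := congrArg (fun u => polar D.qE u c) (show e • w = z from he)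
  simp only [hzc, polar_smul_left, W.hcw, polar_self', smul_eq_mul, mul_zero] at h
  have hγ : polar D.qE y c = 0 := by
    by_contra hne
    exact mul_ne_zero (mul_ne_zero D.two (div_ne_zero hne (mul_ne_zero D.two W.hc))) (mul_ne_zero D.two W.hc) h.symm
  conv_lhs => rw [W.decomp hk y]
  rw [hγ, zero_div, zero_smul, add_zero]

end Cfsg.Agent.Lib.OrthExt
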