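import Cfsg.Agent.Lib.OrthExt.ThreeAlt

/-!
Dimension three over the extension: the involutions of the planes of an orthogonal frame meeting an image of a
singular line give an intersection of dimension two or an element supported on a line.
-/

set_option autoImplicit false

namespace Cfsg.Agent.Lib.OrthExt

open QuadraticMap Module Cfsg.Agent.Lib Cfsg.Agent.Lib.SympExt

variable {F E V : Type*} [Field F] [Field E] [Algebra F E] [AddCommGroup V] [Module F V] [Module E V]
  [IsScalarTower F E V] {Q : QuadraticForm F V} [Finite E] {D : ExtData E Q} {M : Subgroup (V ≃ₗ[F] V)}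

omit [Finite E] in
/-- The scalar map of a semilinear map is an automorphism of the extension. -/
theorem semi_algEquiv {τ : E →ₗ[F] E} (hτi : Function.Injective τ) {σ : E → E} (hσ : Function.Bijective σ)
    (hτ : ∀ a e, τ (σ a * e) = a * τ e) : ∃ φ : E ≃ₐ[F] E, ∀ a, φ a = σ a := by
  have hmul : ∀ a b, σ (a * b) = σ a * σ b := fun a b => by
    have h : τ (σ (a * b) * 1) = τ (σ a * (σ b * 1)) := by rw [hτ, hτ, hτ, mul_assoc]
    simpa using hτi h
  have hadd : ∀ a b, σ (a + b) = σ a + σ b := fun a b => by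
    have h : τ (σ (a + b) * 1) = τ ((σ a + σ b) * 1) := by
      rw [add_mul (σ a), τ.map_add, hτ, hτ, hτ, add_mul]
    simpa using hτi h
  have hcomm : ∀ k : F, σ (algebraMap F E k) = algebraMap F E k := fun k => by
    have h : τ (σ (algebraMap F E k) * 1) = τ (algebraMap F E k * 1) := by
      rw [hτ, ← Algebra.smul_def, ← Algebra.smul_def, τ.map_smul]
    simpa using hτi h
  let f : E →ₐ[F] E :=
    { toFun := σ
      map_one' := by simpa using hcomm 1
      map_mul' := hmul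
      map_zero' := by simpa using hcomm 0
      map_add' := hadd
      commutes' := hcomm }
  exact ⟨AlgEquiv.ofBijective f hσ, fun a => rfl⟩

/-- In odd degree only the identity automorphism is an involution. -/
theorem algEquiv_eq_one (D : ExtData E Q) (hodd : finrank F E ≠ 2) {φ : E ≃ₐ[F] E} (h : φ * φ = 1) : φ = 1 := by
  haveI := D.finE
  haveI : Finite F := finite_base (E := E)
  have hcard : Nat.card (E ≃ₐ[F] E) = finrank F E := IsGalois.card_aut_eq_finrank F E
  have h1 : orderOf φ ∣ 2 := orderOf_dvd_of_pow_eq_one (by rw [pow_two, h])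
  have h2 : orderOf φ ∣ finrank F E := hcard ▸ orderOf_dvd_natCard φ
  have h3 : Nat.gcd 2 (finrank F E) = 1 :=
    (Nat.coprime_primes Nat.prime_two D.prime).mpr (Ne.symm hodd)
  exact orderOf_eq_one_iff.mp (Nat.dvd_one.mp (h3 ▸ Nat.dvd_gcd h1 h2))

/-- Vectors orthogonal to an orthogonal anisotropic triple vanish. -/
theorem orth_ext_zero (hk : finrank E V = 3) {a b c x : V} (ha : D.qE a ≠ 0) (hb : D.qE b ≠ 0)
    (hc : D.qE c ≠ 0) (hab : polar D.qE a b = 0) (hac : polar D.qE a c = 0) (hbc : polar D.qE b c = 0)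
    (h1 : polar D.qE x a = 0) (h2 : polar D.qE x b = 0) (h3 : polar D.qE x c = 0) : x = 0 := by
  haveI := D.finV
  let B := QuadraticMap.polarBilin D.qE
  let L : V →ₗ[E] E × E × E := (B.flip a).prod ((B.flip b).prod (B.flip c))
  have hba : polar D.qE b a = 0 := by rw [polar_comm, hab]
  have hca : polar D.qE c a = 0 := by rw [polar_comm, hac]
  have hcb : polar D.qE c b = 0 := by rw [polar_comm, hbc]
  have hsurj : Function.Surjective L := by
    rintro ⟨p, q, r⟩
    refine ⟨(p / (2 * D.qE a)) • a + (q / (2 * D.qE b)) • b + (r / (2 * D.qE c)) • c, ?_⟩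
    simp [L, B, polar_self', hab, hac, hbc, hba, hca, hcb, D.two, ha, hb, hc]
  have hinj : Function.Injective L :=
    (LinearMap.injective_iff_surjective_of_finrank_eq_finrank (by simp [hk])).mpr hsurj
  exact hinj (by simp [L, B, h1, h2, h3])

/-- The half turn of a plane with square discriminant lies in the group. -/
theorem exists_half_turn (hO : Over D M) {a b c : V} (hb : D.qE b ≠ 0) (hc : D.qE c ≠ 0)
    (hab : polar D.qE a b = 0) (hac : polar D.qE a c = 0) (hbc : polar D.qE b c = 0)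
    (hsq : IsSquare (D.qE b * D.qE c)) :
    ∃ K : V ≃ₗ[E] V, K ∈ Classical.isoGroup ⇑D.qE ∧ rs K ∈ M ∧ K a = a ∧ K b = -b ∧ K c = -c := by
  obtain ⟨t, ht⟩ := hsq
  have ht0 : t ≠ 0 := fun e => mul_ne_zero hb hc (by rw [ht, e, mul_zero])
  set c' := (t / D.qE c) • c with hc'
  have hq : D.qE c' = D.qE b := by
    rw [hc', QuadraticMap.map_smul, smul_eq_mul]
    field_simp
    linear_combination -ht
  have hc'0 : D.qE c' ≠ 0 := by rw [hq]; exact hb
  have hne : t / D.qE c ≠ 0 := div_ne_zero ht0 hc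
  have hcb : polar D.qE c b = 0 := by rw [polar_comm, hbc]
  refine ⟨refl D.qE b hb * refl D.qE c' hc'0, mul_mem (refl_mem _ _) (refl_mem _ _),
    hO.refl_pair_mem hb hc'0 hq.symm, ?_, ?_, ?_⟩
  · rw [LinearEquiv.mul_apply, refl_of_perp hc'0 (by rw [hc', polar_smul_right, hac, smul_zero]),
      refl_of_perp hb hab]
  · rw [LinearEquiv.mul_apply, refl_of_perp hc'0 (by rw [hc', polar_smul_right, hbc, smul_zero]), refl_self]
  · have e : refl D.qE c' hc'0 c = -c := by
      apply smul_right_injective V hne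
      show (t / D.qE c) • refl D.qE c' hc'0 c = (t / D.qE c) • -c
      rw [← map_smul, ← hc', refl_self, hc', smul_neg]
    rw [LinearEquiv.mul_apply, e, map_neg, refl_of_perp hb hcb]

/-- An orthogonal anisotropic pair of the image gives, by a half turn, a larger intersection or an element
supported on the line. -/
theorem half_turn_or_alt (hO : Over D M) (hk : finrank E V = 3)
    {g : V ≃ₗ[F] V} {v w : V} {s : ℕ} (C : Conf D M g v w s) {xw : V} (hxw : xw ∈ img E g v ⊓ ln E w)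
    (hxw0 : xw ≠ 0) {y₁ y₂ : V} (hy₁ : y₁ ∈ img E g v) (hy₁q : D.qE y₁ ≠ 0) (hy₂ : y₂ ∈ img E g v)
    (hq₂ : D.qE y₂ ≠ 0) (hy₁₂ : polar D.qE y₁ y₂ = 0)
    (hfin : ¬ IsSquare (-1 : E) ∨ polar D.qE xw y₁ = 0) :
    HasConf D M 2 ∨ ∃ ψ : E →ₗ[F] E, ψ ≠ 0 ∧ AltMem D M v ψ := by
  classical
  haveI := C.hF
  haveI := D.finE
  haveI := D.finV
  haveI := Fintype.ofFinite E
  have hodd := odd_of_three D hk
  have hxq : D.qE xw = 0 := by
    obtain ⟨e, rfl⟩ := hxw.2
    show D.qE (e • w) = 0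
    rw [QuadraticMap.map_smul, C.hw, smul_zero]
  have hy₂1 : y₂ ∉ Submodule.span F ({y₁} : Set V) := fun hm => by
    obtain ⟨k, rfl⟩ := Submodule.mem_span_singleton.mp hm
    rw [← algebraMap_smul E k y₁, polar_smul_right, polar_self', smul_eq_mul, mul_eq_zero] at hy₁₂
    rcases hy₁₂ with h | h
    · exact hq₂ (by rw [← algebraMap_smul E k y₁, h, zero_smul, QuadraticMap.map_zero])
    · exact mul_ne_zero D.two hy₁q h
  have hP1 : NdOn D.qE (perp1 D.qE y₁) := ndOn_perp1 D.ndE hy₁q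
  have hP2 := hP1.inf_perp1 D.two (hy₁₂ : y₂ ∈ perp1 D.qE y₁) hq₂
  obtain ⟨y₃, hy₃P, hy₃q⟩ : ∃ y₃ ∈ perp1 D.qE y₁ ⊓ perp1 D.qE y₂, D.qE y₃ ≠ 0 := by
    have h1 := finrank_perp1 (q := D.qE) y₁
    have h2 := finrank_inf_perp1 D.qE (perp1 D.qE y₁) y₂
    obtain ⟨z, hz, hz0⟩ := Submodule.exists_mem_ne_zero_of_ne_bot (p := perp1 D.qE y₁ ⊓ perp1 D.qE y₂)
      fun e => by rw [e, finrank_bot] at h2; omega
    obtain ⟨z', hz', hzz⟩ := hP2 z hz hz0
    obtain ⟨a, ha, haq, -⟩ := hP2.exists_anis D.two hz' hzz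
    exact ⟨a, ha, haq⟩
  have h13 : polar D.qE y₁ y₃ = 0 := hy₃P.1
  have h23 : polar D.qE y₂ y₃ = 0 := hy₃P.2
  have h21 : polar D.qE y₂ y₁ = 0 := by rw [polar_comm, hy₁₂]
  have h31 : polar D.qE y₃ y₁ = 0 := by rw [polar_comm, h13]
  have h32 : polar D.qE y₃ y₂ = 0 := by rw [polar_comm, h23]
  -- a half turn preserving both vectors up to sign
  obtain ⟨a, b, c, K, hy₁ab, haq, hbq, hcq, hab, hac, hbc, hsq, hKi, hKM, hKa, hKb, hKc, hK1, hK2⟩ :
      ∃ (a b c : V) (K : V ≃ₗ[E] V), (y₁ = a ∨ y₁ = b) ∧ D.qE a ≠ 0 ∧ D.qE b ≠ 0 ∧ D.qE c ≠ 0 ∧ polar D.qE a b = 0 ∧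
        polar D.qE a c = 0 ∧ polar D.qE b c = 0 ∧ IsSquare (D.qE b * D.qE c) ∧
        K ∈ Classical.isoGroup ⇑D.qE ∧ rs (F := F) K ∈ M ∧ K a = a ∧ K b = -b ∧ K c = -c ∧
        K y₁ ∈ img E g v ∧ K y₂ ∈ img E g v := by
    by_cases s12 : IsSquare (D.qE y₁ * D.qE y₂)
    · obtain ⟨K, hK, hKM, e3, e1, e2⟩ := exists_half_turn hO (a := y₃) hy₁q hq₂ h31 h32 hy₁₂ s12
      exact ⟨y₃, y₁, y₂, K, Or.inr rfl, hy₃q, hy₁q, hq₂, h31, h32, hy₁₂, s12, hK, hKM, e3, e1, e2,
        by rw [e1]; exact Submodule.neg_mem _ hy₁, by rw [e2]; exact Submodule.neg_mem _ hy₂⟩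
    by_cases s13 : IsSquare (D.qE y₁ * D.qE y₃)
    · obtain ⟨K, hK, hKM, e2, e1, e3⟩ := exists_half_turn hO (a := y₂) hy₁q hy₃q h21 h23 h13 s13
      exact ⟨y₂, y₁, y₃, K, Or.inr rfl, hq₂, hy₁q, hy₃q, h21, h23, h13, s13, hK, hKM, e2, e1, e3,
        by rw [e1]; exact Submodule.neg_mem _ hy₁, by rw [e2]; exact hy₂⟩
    have s23 : IsSquare (D.qE y₂ * D.qE y₃) := by
      rw [← quadraticChar_one_iff_isSquare (mul_ne_zero hq₂ hy₃q)]
      rw [← quadraticChar_neg_one_iff_not_isSquare] at s12 s13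
      rw [map_mul] at s12 s13 ⊢
      have h1 := quadraticChar_sq_one hy₁q
      linear_combination (quadraticChar E (D.qE y₁) * quadraticChar E (D.qE y₃)) * s12 - s13
        - quadraticChar E (D.qE y₂) * quadraticChar E (D.qE y₃) * h1
    obtain ⟨K, hK, hKM, e1, e2, e3⟩ := exists_half_turn hO (a := y₁) hq₂ hy₃q hy₁₂ h13 h23 s23
    exact ⟨y₁, y₂, y₃, K, Or.inl rfl, hy₁q, hq₂, hy₃q, hy₁₂, h13, h23, s23, hK, hKM, e1, e2, e3,
      by rw [e1]; exact hy₁, by rw [e2]; exact Submodule.neg_mem _ hy₂⟩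
  by_cases hmove : ∃ y ∈ img E g v, rs (F := F) K y ∉ img E g v
  · obtain ⟨y, hy, hy'⟩ := hmove
    left
    have h := inter_shift' C.hg hKM (X := Submodule.span F ({y₁} : Set V)) (by simpa using hy₁)
      (fun x hx => by
        obtain ⟨k, rfl⟩ := Submodule.mem_span_singleton.mp hx
        rw [LinearEquiv.map_smul]
        exact Submodule.smul_mem _ k hK1) hy₂ hK2 hy₂1 hy hy'
    rw [finrank_span_singleton (fun e : y₁ = 0 => hy₁q (by rw [e, QuadraticMap.map_zero]))] at h
    exact hasConf_of_inter C.hv0 C.hv h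
  push Not at hmove
  right
  set n := g⁻¹ * rs K * g with hn
  have hnM : n ∈ M := mul_mem (mul_mem (inv_mem C.hg) hKM) C.hg
  have hstab : ∀ e : E, ∃ f : E, n (e • v) = f • v := fun e => by
    obtain ⟨_, ⟨f, rfl⟩, hf⟩ := hmove (g (e • v)) ⟨e • v, smul_mem_ln e v, rfl⟩
    refine ⟨f, ?_⟩
    show g.symm (rs K (g (e • v))) = f • v
    rw [← hf]; exact g.symm_apply_apply _
  obtain ⟨v', hv', hvv⟩ := D.ndE.exists_partner C.hv0 C.hv
  let τ : E →ₗ[F] E := ((QuadraticMap.polarBilin D.qE).flip v').restrictScalars F ∘ₗ (n : V →ₗ[F] V)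
    ∘ₗ (LinearMap.toSpanSingleton E V v).restrictScalars F
  have hτe : ∀ e, τ e = polar D.qE (n (e • v)) v' := fun e => rfl
  have hnτ : ∀ e : E, n (e • v) = τ e • v := fun e => by
    obtain ⟨f, hf⟩ := hstab e
    rw [hτe, hf, polar_smul_left, hvv, smul_eq_mul, mul_one]
  rcases exists_alt_or_semi hO C.hv0 C.hv hnM hnτ with ⟨ψ, hψ0, hψ⟩ | ⟨σ, hσ, hτ, -⟩
  · exact ⟨ψ, hψ0, hψ⟩
  exfalso
  have hKK : ∀ x, K (K x) = x := fun x => by
    rw [← sub_eq_zero]
    refine orth_ext_zero hk haq hbq hcq hab hac hbc ?_ ?_ ?_ <;> rw [polar_sub_left, sub_eq_zero]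
    · have := Classical.isometry_polar hKi (K x) a
      rw [hKa] at this
      have h2 := Classical.isometry_polar hKi x a
      rw [hKa] at h2
      rw [this, h2]
    · have := Classical.isometry_polar hKi (K x) b
      rw [hKb, polar_neg_right] at this
      have h2 := Classical.isometry_polar hKi x b
      rw [hKb, polar_neg_right] at h2
      linear_combination -this + h2
    · have := Classical.isometry_polar hKi (K x) c
      rw [hKc, polar_neg_right] at this
      have h2 := Classical.isometry_polar hKi x c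
      rw [hKc, polar_neg_right] at h2
      linear_combination -this + h2
  have hττ : ∀ e, τ (τ e) = e := fun e => smul_left_injective E C.hv0 (by
    show τ (τ e) • v = e • v
    rw [← hnτ, ← hnτ]
    show g.symm (K (g (g.symm (K (g (e • v)))))) = e • v
    rw [g.apply_symm_apply, hKK, g.symm_apply_apply])
  obtain ⟨φ, hφ⟩ := semi_algEquiv (tau_bij C.hv0 hnτ).1 hσ hτ
  have hσσ : ∀ a, σ (σ a) = a := fun a => by
    have h := congrArg τ (hτ a (τ 1))
    rw [hττ 1, hττ] at h
    have e : τ (σ (σ a) * 1) = τ (a * 1) := by rw [hτ, h]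
    simpa using (tau_bij C.hv0 hnτ).1 e
  have hφ1 : φ = 1 := algEquiv_eq_one D hodd (AlgEquiv.ext fun a => by
    show φ (φ a) = a
    rw [hφ, hφ, hσσ])
  have hlin : ∀ e, τ e = e * τ 1 := fun e => by
    have h := hτ e 1
    rwa [← hφ, hφ1, AlgEquiv.one_apply, mul_one] at h
  have hu : τ 1 = 1 ∨ τ 1 = -1 := by
    rw [← mul_self_eq_one_iff, ← hlin, hττ]
  have hKall : (∀ y ∈ img E g v, K y = y) ∨ ∀ y ∈ img E g v, K y = -y := by
    have hstep : ∀ y ∈ img E g v, ∃ e, g (e • v) = y ∧ K y = g ((e * τ 1) • v) := by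
      rintro _ ⟨_, ⟨e, rfl⟩, rfl⟩
      refine ⟨e, rfl, ?_⟩
      have h := congrArg g (hnτ e)
      change g (g.symm (K (g (e • v)))) = g (τ e • v) at h
      rw [g.apply_symm_apply, hlin] at h
      exact h
    rcases hu with hu | hu
    · refine Or.inl fun y hy => ?_
      obtain ⟨e, he, h⟩ := hstep y hy
      rw [h, hu, mul_one, he]
    · refine Or.inr fun y hy => ?_
      obtain ⟨e, he, h⟩ := hstep y hy
      rw [h, hu, mul_neg_one, neg_smul, map_neg, he]
  have h2E := D.two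
  rcases hKall with hall | hall
  · have hx := hall xw hxw.1
    have hxb : polar D.qE xw b = 0 := by
      have h := Classical.isometry_polar hKi xw b
      rw [hx, hKb, polar_neg_right] at h
      exact mul_left_cancel₀ h2E (by linear_combination -h)
    have hxc : polar D.qE xw c = 0 := by
      have h := Classical.isometry_polar hKi xw c
      rw [hx, hKc, polar_neg_right] at h
      exact mul_left_cancel₀ h2E (by linear_combination -h)
    have hxa : xw = (polar D.qE xw a / (2 * D.qE a)) • a := by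
      rw [← sub_eq_zero]
      refine orth_ext_zero hk haq hbq hcq hab hac hbc ?_ ?_ ?_ <;>
        simp [polar_sub_left, polar_smul_left, polar_self', hab, hac, hxb, hxc, h2E, haq]
    rw [hxa, QuadraticMap.map_smul, smul_eq_mul, mul_eq_zero, mul_self_eq_zero] at hxq
    rcases hxq with h | h
    · exact hxw0 (by rw [hxa, h, zero_smul])
    · exact haq h
  · have hx := hall xw hxw.1
    have hxa : polar D.qE xw a = 0 := by
      have h := Classical.isometry_polar hKi xw a
      rw [hx, hKa, polar_neg_left] at h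
      exact mul_left_cancel₀ h2E (by linear_combination -h)
    have hcb : polar D.qE c b = 0 := by rw [polar_comm, hbc]
    have hba : polar D.qE b a = 0 := by rw [polar_comm, hab]
    have hca : polar D.qE c a = 0 := by rw [polar_comm, hac]
    set β := polar D.qE xw b / (2 * D.qE b) with hβ
    set γ := polar D.qE xw c / (2 * D.qE c) with hγ
    have hxe : xw = β • b + γ • c := by
      rw [← sub_eq_zero]
      refine orth_ext_zero hk haq hbq hcq hab hac hbc ?_ ?_ ?_ <;>
        simp [hβ, hγ, polar_sub_left, polar_add_left, polar_smul_left, polar_self', hba, hca, hbc, hcb, hxa, h2E,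
          hbq, hcq]
    have hq : β * β * D.qE b + γ * γ * D.qE c = 0 := by
      rw [hxe, QuadraticMap.map_add (⇑D.qE), QuadraticMap.map_smul, QuadraticMap.map_smul, polar_smul_left,
        polar_smul_right, hbc] at hxq
      simpa using hxq
    obtain ⟨t, ht⟩ := hsq
    have ht0 : t ≠ 0 := fun e => mul_ne_zero hbq hcq (by rw [ht, e, mul_zero])
    by_cases hγ0 : γ = 0
    · rw [hγ0] at hq
      have hβ0 : β = 0 := by simpa [hbq] using hq
      exact hxw0 (by rw [hxe, hβ0, hγ0, zero_smul, zero_smul, add_zero])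
    · rcases hfin with hns | hxy
      · refine hns ⟨β * t / (γ * D.qE c), ?_⟩
        field_simp
        linear_combination β * β * ht - D.qE c * hq
      · rcases hy₁ab with rfl | rfl
        · have h := hall y₁ hy₁
          rw [hKa] at h
          have h2' : (2 : E) • y₁ = 0 := by rw [two_smul]; nth_rewrite 2 [h]; exact add_neg_cancel _
          exact hy₁q (by rw [(smul_eq_zero.mp h2').resolve_left h2E, QuadraticMap.map_zero])
        · have hβ0 : β = 0 := by rw [hβ, hxy, zero_div]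
          rw [hβ0] at hq
          simp [hcq, hγ0] at hq

/-- Without a square root of `-1`: an intersection of dimension two, or an element supported on a line. -/
theorem two_or_alt (hO : Over D M) (hk : finrank E V = 3) (h3 : 3 ≤ finrank F E) (hns : ¬ IsSquare (-1 : E))
    {g : V ≃ₗ[F] V} {v w : V} {s : ℕ} (C : Conf D M g v w s) (hs : 1 ≤ s) :
    HasConf D M 2 ∨ ∃ (u : V) (ψ : E →ₗ[F] E), u ≠ 0 ∧ D.qE u = 0 ∧ ψ ≠ 0 ∧ AltMem D M u ψ := by
  classical
  haveI := C.hF
  haveI := D.finE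
  haveI := D.finV
  haveI := Fintype.ofFinite E
  have hodd := odd_of_three D hk
  by_cases hbig : 2 ≤ finrank F ↥(img E g v ⊓ ln E w)
  · exact Or.inl ⟨g, v, w, C.hg, C.hv0, C.hv, C.hw0, C.hw, C.ne, hbig⟩
  have hX1 : finrank F ↥(img E g v ⊓ ln E w) = 1 := by have := C.le; omega
  by_cases hperp : ∀ y ∈ img E g v, polar D.qE w y = 0
  · left
    have h := perp_step hO C hs (by omega) hperp
    rwa [hX1] at h
  push Not at hperp
  obtain ⟨y₀, hy₀, h₀⟩ := hperp
  obtain ⟨xw, hxw, hxw0⟩ := C.inter_ne_bot hs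
  have hxq : D.qE xw = 0 := by
    obtain ⟨e, rfl⟩ := hxw.2
    show D.qE (e • w) = 0
    rw [QuadraticMap.map_smul, C.hw, smul_zero]
  -- an anisotropic vector of the image
  obtain ⟨y₁, hy₁, hy₁q⟩ : ∃ y₁ ∈ img E g v, D.qE y₁ ≠ 0 := by
    by_cases hq : D.qE y₀ ≠ 0
    · exact ⟨y₀, hy₀, hq⟩
    push Not at hq
    refine ⟨y₀ + xw, Submodule.add_mem _ hy₀ hxw.1, ?_⟩
    rw [QuadraticMap.map_add (⇑D.qE), hq, hxq, zero_add, zero_add]
    obtain ⟨e, he⟩ := hxw.2
    change e • w = xw at he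
    rw [← he, polar_smul_right, polar_comm, smul_eq_mul]
    exact mul_ne_zero (fun e0 => hxw0 (by rw [← he, e0, zero_smul])) h₀
  -- a vector orthogonal to it over the extension
  obtain ⟨y₂, hy₂, hy₂0, hy₁₂⟩ : ∃ y₂ ∈ img E g v, y₂ ≠ 0 ∧ polar D.qE y₁ y₂ = 0 := by
    let L : img E g v →ₗ[F] E :=
      ((QuadraticMap.polarBilin D.qE y₁).restrictScalars F).comp (img E g v).subtype
    have h1 := L.finrank_range_add_finrank_ker
    rw [finrank_img g C.hv0] at h1
    have h2 : LinearMap.range L ≤ LinearMap.ker (Algebra.trace F E) := by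
      rintro _ ⟨y, rfl⟩
      show Algebra.trace F E (polar D.qE y₁ (y : V)) = 0
      rw [← D.polar_eq]; exact img_polar hO C.hg C.hv hy₁ y.2
    have h3 := (Algebra.trace F E).finrank_range_add_finrank_ker
    have : Finite F := finite_base (E := E)
    rw [LinearMap.range_eq_top.mpr (Algebra.trace_surjective F E), finrank_top, finrank_self] at h3
    have h4 := Submodule.finrank_mono h2
    obtain ⟨y, hy, hy0⟩ := Submodule.exists_mem_ne_zero_of_ne_bot (p := LinearMap.ker L) fun e => by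
      rw [e, finrank_bot] at h1; omega
    exact ⟨y, y.2, fun e => hy0 (Subtype.ext e), hy⟩
  by_cases hq₂ : D.qE y₂ = 0
  · -- a good configuration
    have hy₁n : y₁ ∉ ln (F := F) E y₂ := fun hm => by
      obtain ⟨e, rfl⟩ := hm
      exact hy₁q (by show D.qE (e • y₂) = 0; rw [QuadraticMap.map_smul, hq₂, smul_zero])
    have C' : Conf D M g v y₂ 1 := ⟨C.hg, C.hv0, C.hv, hy₂0, hq₂, fun e => hy₁n (e ▸ hy₁),
      Submodule.one_le_finrank_iff.mpr fun e => hy₂0 (by
        have hm : y₂ ∈ img E g v ⊓ ln E y₂ := ⟨hy₂, self_mem_ln y₂⟩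
        rw [e] at hm
        simpa using hm)⟩
    by_cases hbig' : 2 ≤ finrank F ↥(img E g v ⊓ ln E y₂)
    · exact Or.inl ⟨g, v, y₂, C'.hg, C'.hv0, C'.hv, C'.hw0, C'.hw, C'.ne, hbig'⟩
    have hl : finrank F ↥(img E g v ⊓ ln E y₂) = 1 := le_antisymm (by omega) C'.le
    rcases good_step_or hO hk C' le_rfl (by omega) ⟨y₁, hy₁, hy₁n, by rw [polar_comm]; exact hy₁₂⟩ with h | h
    · exact Or.inl (h.mono (by omega))
    obtain ⟨-, -, -, y', y'', -, hy', hy'', -, -, hwy', hq', hq'', hyy⟩ := h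
    refine (half_turn_or_alt hO hk C' (xw := y₂) ⟨hy₂, self_mem_ln y₂⟩ hy₂0 hy' hq' hy'' hq'' hyy
      (Or.inr hwy')).imp id ?_
    rintro ⟨ψ, hψ0, hψ⟩
    exact ⟨v, ψ, C.hv0, C.hv, hψ0, hψ⟩
  refine (half_turn_or_alt hO hk C hxw hxw0 hy₁ hy₁q hy₂ hq₂ hy₁₂ (Or.inl hns)).imp id ?_
  rintro ⟨ψ, hψ0, hψ⟩
  exact ⟨v, ψ, C.hv0, C.hv, hψ0, hψ⟩

end Cfsg.Agent.Lib.OrthExt
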