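import Cfsg.Agent.Lib.OrthExt.ThreePlane
import Cfsg.Agent.Lib.Coprime.Generation

/-!
Dimension three over the extension: the pointwise stabiliser of an intersection of dimension at least two would
have the root group as an abelian self-normalising Sylow subgroup, unless an element is supported on the line.
-/

set_option autoImplicit false

namespace Cfsg.Agent.Lib.OrthExt

open QuadraticMap Module Cfsg.Agent.Lib Cfsg.Agent.Lib.SympExt

variable {F E V : Type*} [Field F] [Field E] [Algebra F E] [AddCommGroup V] [Module F V] [Module E V]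
  [IsScalarTower F E V] {Q : QuadraticForm F V} [Finite E] {D : ExtData E Q} {M : Subgroup (V ≃ₗ[F] V)}

/-- A semilinear map fixing two independent elements is the identity. -/
theorem semi_fix (D : ExtData E Q) {τ : E →ₗ[F] E} (hτi : Function.Injective τ) {σ : E → E}
    (hσ : Function.Bijective σ) (hτ : ∀ a e, τ (σ a * e) = a * τ e) {x x' : E} (hx : τ x = x)
    (hx' : τ x' = x') (hli : x' ∉ Submodule.span F ({x} : Set E)) (hx0 : x ≠ 0) :
    (∀ a, σ a = a) ∧ ∀ e, τ e = e := by
  obtain ⟨φ, hφ⟩ := semi_algEquiv hτi hσ hτ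
  obtain ⟨a, ha⟩ := hσ.2 (x' / x)
  have h := hτ a x
  rw [ha, div_mul_cancel₀ _ hx0, hx', hx] at h
  have hfix : σ a = a := by rw [ha, h, mul_div_cancel_right₀ _ hx0]
  have haF : ¬ IsF F a := fun hF => hli (by
    obtain ⟨k, hk⟩ := isF_iff.mp hF
    exact Submodule.mem_span_singleton.mpr ⟨k, by rw [Algebra.smul_def, hk, h]⟩)
  have hle : Algebra.adjoin F ({a} : Set E) ≤ AlgHom.equalizer φ.toAlgHom (AlgHom.id F E) :=
    Algebra.adjoin_le fun y hy => by
      rw [Set.mem_singleton_iff] at hy
      subst hy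
      show φ y = y
      rw [hφ, hfix]
  rw [adjoin_eq_top D.prime haF] at hle
  have hid : ∀ b, σ b = b := fun b => by
    rw [← hφ]
    exact hle (Algebra.mem_top : b ∈ ⊤)
  refine ⟨hid, fun e => ?_⟩
  have h1 := hτ (e / x) x
  rwa [hid, div_mul_cancel₀ _ hx0, hx, div_mul_cancel₀ _ hx0] at h1

/-- Over the base the reflection in odd degree has determinant `-1`. -/
theorem det_rs_refl (D : ExtData E Q) (hk : finrank E V = 3) (hodd : finrank F E ≠ 2) {w w' c : V}
    (W : Frame D w w' c) :
    LinearMap.det ((rs (F := F) (refl D.qE c W.hc) : V ≃ₗ[F] V) : V →ₗ[F] V) = -1 := by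
  haveI := D.finV
  haveI := D.finE
  have hw'w : polar D.qE w' w = 1 := by rw [polar_comm, W.hww]
  have hcw : polar D.qE c w = 0 := by rw [polar_comm, W.hcw]
  have hcw' : polar D.qE c w' = 0 := by rw [polar_comm, W.hcw']
  have hli : LinearIndependent E ![w, w', c] := by
    rw [Fintype.linearIndependent_iff]
    intro k hk0 i
    simp only [Fin.sum_univ_three, Matrix.cons_val_zero, Matrix.cons_val_one, Matrix.cons_val_two,
      Matrix.tail_cons, Matrix.head_cons] at hk0
    have h1 := congrArg (fun u => polar D.qE u w') hk0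
    have h2 := congrArg (fun u => polar D.qE u w) hk0
    have h3 := congrArg (fun u => polar D.qE u c) hk0
    simp [polar_add_left, polar_smul_left, polar_self', W.hw, W.hw', W.hww, hw'w, W.hcw, hcw, W.hcw', hcw',
      D.two, W.hc] at h1 h2 h3
    fin_cases i <;> assumption
  let b := basisOfLinearIndependentOfCardEqFinrank hli (by rw [hk]; simp)
  have hb : ∀ i, b i = ![w, w', c] i := fun i => by
    rw [coe_basisOfLinearIndependentOfCardEqFinrank]
  have hcoef : ∀ i, refl D.qE c W.hc (b i) = (![1, 1, -1] : Fin 3 → E) i • b i := fun i => by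
    rw [hb]
    fin_cases i
    · simp [refl_of_perp W.hc W.hcw]
    · simp [refl_of_perp W.hc W.hcw']
    · simp [refl_self c W.hc]
  have hmat : LinearMap.toMatrix b b (refl D.qE c W.hc : V →ₗ[E] V) = Matrix.diagonal ![1, 1, -1] := by
    ext i j
    rw [LinearMap.toMatrix_apply, LinearEquiv.coe_coe, hcoef, map_smul, b.repr_self, Finsupp.smul_apply,
      Finsupp.single_apply, smul_eq_mul, Matrix.diagonal_apply]
    by_cases hij : i = j
    · subst hij; simp
    · simp [hij, Ne.symm hij]
  have hdet : LinearMap.det (refl D.qE c W.hc : V →ₗ[E] V) = -1 := by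
    rw [← LinearMap.det_toMatrix b, hmat, Matrix.det_diagonal, Fin.prod_univ_three]
    simp
  have hr : LinearMap.det ((refl D.qE c W.hc : V →ₗ[E] V).restrictScalars F)
      = Algebra.norm F (-1 : E) := by
    rw [LinearMap.det_restrictScalars, hdet]
  show LinearMap.det ((refl D.qE c W.hc : V →ₗ[E] V).restrictScalars F) = -1
  rw [hr, show (-1 : E) = algebraMap F E (-1) by simp, Algebra.norm_algebraMap,
    (D.prime.odd_of_ne_two hodd).neg_one_pow]

/-- A unipotent map of class three has determinant one in odd characteristic. -/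
theorem det_unipotent {K W : Type*} [Field K] [Finite K] [AddCommGroup W] [Module K W] (h2 : (2 : K) ≠ 0)
    (N : W →ₗ[K] W) (hN : ∀ x, N (N (N x)) = 0) : LinearMap.det (LinearMap.id + N) = 1 := by
  set p := ringChar K
  haveI : Fact p.Prime := ⟨CharP.char_is_prime K p⟩
  have hp2 : p ≠ 2 := fun e => h2 (by
    have h := CharP.cast_eq_zero K p
    rw [e] at h
    exact_mod_cast h)
  let T : Module.End K W := LinearMap.id + N
  have hpow : ∀ m : ℕ, ∀ x, (T ^ m) x = x + (m : K) • N x + ((m.choose 2 : ℕ) : K) • N (N x) := by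
    intro m
    induction m with
    | zero => intro x; simp
    | succ m ih =>
      intro x
      rw [pow_succ', Module.End.mul_apply, ih, show ∀ y, T y = y + N y from fun y => rfl, map_add, map_add,
        map_smul, map_smul, hN, Nat.choose_succ_succ', Nat.choose_one_right]
      push_cast
      module
  have hone : T ^ p = 1 := LinearMap.ext fun x => by
    have hp0 : (p : K) = 0 := CharP.cast_eq_zero K p
    have hc : ((p.choose 2 : ℕ) : K) = 0 := by
      rw [CharP.cast_eq_zero_iff K p]
      exact Nat.Prime.dvd_choose_self (Fact.out) two_ne_zero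
        (lt_of_le_of_ne (Fact.out : p.Prime).two_le (Ne.symm hp2))
    rw [hpow, hp0, hc]; simp
  have h : LinearMap.det T ^ p = 1 := by rw [← map_pow, hone, map_one]
  have h' : (LinearMap.det T - 1) ^ p = 0 := by
    rw [sub_pow_char, h, one_pow, sub_self]
  exact sub_eq_zero.mp (eq_zero_of_pow_eq_zero h')

/-- An element fixing two independent points of a line and stabilising it is a root element, or some element is
supported on the line. -/
theorem stab_mem_root (hO : Over D M) (hk : finrank E V = 3) {w w' c : V} (W : Frame D w w' c)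
    (hnone : ∀ ψ, AltMem D M w ψ → ψ = 0) {x x' : E} (hx0 : x ≠ 0)
    (hli : x' ∉ Submodule.span F ({x} : Set E)) {n : V ≃ₗ[F] V} (hnM : n ∈ M)
    (hstab : ∀ e : E, n (e • w) ∈ ln (F := F) E w) (hx : n (x • w) = x • w) (hx' : n (x' • w) = x' • w) :
    ∃ t : E, n = rho D w (t • c) W.hw (W.perp_smul t) := by
  haveI := D.finE
  haveI : Finite F := finite_base (E := E)
  have hodd := odd_of_three D hk
  have hw'w : polar D.qE w' w = 1 := by rw [polar_comm, W.hww]
  have hcw : polar D.qE c w = 0 := by rw [polar_comm, W.hcw]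
  have hcw' : polar D.qE c w' = 0 := by rw [polar_comm, W.hcw']
  let τ : E →ₗ[F] E := ((QuadraticMap.polarBilin D.qE).flip w').restrictScalars F ∘ₗ (n : V →ₗ[F] V)
    ∘ₗ (LinearMap.toSpanSingleton E V w).restrictScalars F
  have hτe : ∀ e, τ e = polar D.qE (n (e • w)) w' := fun e => rfl
  have hnτ : ∀ e : E, n (e • w) = τ e • w := fun e => by
    obtain ⟨f, hf⟩ := hstab e
    change f • w = _ at hf
    rw [hτe, ← hf, polar_smul_left, W.hww, smul_eq_mul, mul_one]
  rcases exists_alt_or_semi hO W.hw0 W.hw hnM hnτ with ⟨ψ, hψ0, hψ⟩ | ⟨σ, hσ, hτ, hσb⟩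
  · exact absurd (hnone ψ hψ) hψ0
  have hτx : τ x = x := by rw [hτe, hx, polar_smul_left, W.hww, smul_eq_mul, mul_one]
  have hτx' : τ x' = x' := by rw [hτe, hx', polar_smul_left, W.hww, smul_eq_mul, mul_one]
  obtain ⟨hσid, hτid⟩ := semi_fix D (tau_bij W.hw0 hnτ).1 hσ hτ hτx hτx' hli hx0
  have hnw : ∀ e : E, n (e • w) = e • w := fun e => by rw [hnτ, hτid]
  have hwc : ∀ e : E, polar D.qE w (e • c) = 0 := fun e => W.perp_smul e
  have htadj : ∀ a, tadj τ a = a := fun a => tadj_unique τ fun e => by rw [hτid]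
  have hpolw : ∀ z, polar D.qE (n z) w = polar D.qE z w := fun z => by
    have h := symm_polar hO hnM hnτ (n z)
    rw [n.symm_apply_apply, htadj] at h
    exact h.symm
  set a₀ := polar D.qE (n c) c / (2 * D.qE c) with ha₀
  have hquot : ∀ e : E, polar D.qE (n (e • c)) c = e * polar D.qE (n c) c := fun e => by
    have h := hσb e c c W.hcw W.hcw
    rwa [hσid] at h
  have hnc : ∀ e : E, n (e • c) = polar D.qE (n (e • c)) w' • w + (e * a₀) • c := fun e => by
    conv_lhs => rw [W.decomp hk (n (e • c))]
    rw [hpolw, polar_smul_left, hcw, smul_zero, zero_smul, add_zero, hquot, ha₀, mul_div_assoc]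
  have ha₀2 : a₀ * a₀ = 1 := by
    rw [← sub_eq_zero]
    apply (mul_eq_zero.mp (eq_zero_of_trace_sq (F := F) D.two (x := (a₀ * a₀ - 1) * D.qE c) fun e => ?_)).resolve_right
      W.hc
    have h := hO.iso hnM (e • c)
    rw [D.Q_eq, D.Q_eq, hnc, QuadraticMap.map_add (⇑D.qE), QuadraticMap.map_smul, QuadraticMap.map_smul,
      QuadraticMap.map_smul, W.hw, polar_smul_left, polar_smul_right, W.hcw] at h
    simp only [smul_eq_mul, mul_zero, zero_add, add_zero] at h
    rw [show e * e * ((a₀ * a₀ - 1) * D.qE c) = e * a₀ * (e * a₀) * D.qE c - e * e * D.qE c by ring, map_sub, h,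
      sub_self]
  have hpos : a₀ = 1 := by
    rcases mul_self_eq_one_iff.mp ha₀2 with h | h
    · exact h
    exfalso
    -- the determinant would be `-1`
    let S : V ≃ₗ[F] V := rs (refl D.qE c W.hc)
    have hS : ∀ z, polar D.qE z c = 0 → S z = z := fun z hz => refl_of_perp W.hc hz
    have hSc : ∀ e : E, S (e • c) = -(e • c) := fun e => by
      show refl D.qE c W.hc (e • c) = _
      rw [map_smul, refl_self, smul_neg]
    have hSw : ∀ e : E, S (e • w) = e • w := fun e => hS _ (by rw [polar_smul_left, W.hcw, smul_zero])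
    have hSpol : ∀ z, polar D.qE (S z) w = polar D.qE z w := fun z => by
      show polar D.qE (refl D.qE c W.hc z) w = _
      rw [refl_apply, polar_sub_left, polar_smul_left, hcw, smul_zero, sub_zero]
    let N : V →ₗ[F] V := (S : V →ₗ[F] V) ∘ₗ (n : V →ₗ[F] V) - LinearMap.id
    have hNa : ∀ z, N z = S (n z) - z := fun z => rfl
    have hNw : ∀ e : E, N (e • w) = 0 := fun e => by rw [hNa, hnw, hSw, sub_self]
    have hNc : ∀ e : E, N (e • c) = polar D.qE (n (e • c)) w' • w := fun e => by
      rw [hNa, hnc, map_add, hSw, hSc, h, mul_neg_one, neg_smul, neg_neg, add_sub_cancel_right,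
        ← neg_smul, ← mul_neg_one e, ← h, ← hnc]
    have hNp : ∀ z, polar D.qE (N z) w = 0 := fun z => by rw [hNa, polar_sub_left, hSpol, hpolw, sub_self]
    have hN3 : ∀ z, N (N (N z)) = 0 := fun z => by
      conv_lhs => arg 2; arg 2; rw [W.decomp hk (N z)]
      rw [hNp, zero_smul, add_zero, map_add, hNw, hNc, zero_add, hNw]
    have h1 := det_unipotent D.nd.two N hN3
    rw [show LinearMap.id + N = (S : V →ₗ[F] V) ∘ₗ (n : V →ₗ[F] V) from LinearMap.ext fun z => by
      simp [hNa], LinearMap.det_comp, det_rs_refl D hk hodd W, hO.det n hnM, mul_one] at h1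
    exact D.nd.two (by linear_combination -h1)
  set κ : E → E := fun e => polar D.qE (n (e • c)) w' with hκ
  have hnc1 : ∀ e : E, n (e • c) = κ e • w + e • c := fun e => by rw [hnc, hpos, mul_one]
  -- it commutes with the root elements
  have hcomm : ∀ (t : E) (z : V), n (rho D w (t • c) W.hw (W.perp_smul t) z)
      = rho D w (t • c) W.hw (W.perp_smul t) (n z) := by
    intro t z
    set R := rho D w (t • c) W.hw (W.perp_smul t) with hR
    have hRM : R ∈ M := hO.rho_mem _ _ _ _
    let δ : V → E := fun z => polar D.qE (n (R z) - R (n z)) w'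
    have hdiff : ∀ z, n (R z) - R (n z) = δ z • w := fun z => by
      have e1 : polar D.qE (n (R z) - R (n z)) w = 0 := by
        rw [polar_sub_left, hpolw, hR, W.rho_smul_c, W.rho_smul_c]
        simp [polar_add_left, polar_sub_left, polar_smul_left, polar_self', W.hw, hcw, hpolw]
      have e2 : polar D.qE (n (R z) - R (n z)) c = 0 := by
        rw [hR, W.rho_smul_c, W.rho_smul_c, map_sub, map_add, hnw, hnc1, hpolw]
        simp [polar_add_left, polar_sub_left, polar_smul_left, polar_self', W.hcw]
      conv_lhs => rw [W.decomp hk (n (R z) - R (n z))]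
      rw [e1, e2, zero_smul, zero_div, zero_smul, add_zero, add_zero]
    have hker : ∀ z, polar D.qE z w = 0 → n (R z) = R (n z) := fun z hz => by
      obtain ⟨α, γ, rfl⟩ : ∃ α γ : E, z = α • w + γ • c := by
        refine ⟨polar D.qE z w', polar D.qE z c / (2 * D.qE c), (W.decomp hk z).trans ?_⟩
        rw [hz, zero_smul, add_zero]
      rw [map_add n, hnw, hnc1, hR, W.rho_smul_c, W.rho_smul_c, map_sub, map_add, map_add, hnw, hnw, hnc1, hnc1]
      simp only [polar_add_left, polar_smul_left, polar_self', W.hw, W.hcw, hcw, smul_eq_mul, mul_zero, add_zero,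
        zero_smul, sub_zero, zero_add]
      have hκ0 : κ 0 = 0 := by simp [hκ]
      rw [hκ0, zero_smul]
      abel
    let ψ : E →ₗ[F] E := ((QuadraticMap.polarBilin D.qE).flip w').restrictScalars F ∘ₗ
      ((n : V →ₗ[F] V) ∘ₗ (R : V →ₗ[F] V) - (R : V →ₗ[F] V) ∘ₗ (n : V →ₗ[F] V)) ∘ₗ
        (LinearMap.toSpanSingleton E V w').restrictScalars F
    have hψ : ∀ z, n (R z) = R (n z) + ψ (polar D.qE z w) • w := fun z => by
      rw [← sub_eq_iff_eq_add']
      have hz' : polar D.qE (z - polar D.qE z w • w') w = 0 := by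
        rw [polar_sub_left, polar_smul_left, hw'w, smul_eq_mul, mul_one, sub_self]
      have h := hker _ hz'
      rw [map_sub, map_sub, map_sub, map_sub] at h
      rw [show n (R z) - R (n z)
          = n (R (polar D.qE z w • w')) - R (n (polar D.qE z w • w')) by
        rw [sub_eq_sub_iff_add_eq_add] at h ⊢; rw [h, add_comm],
        hdiff]
      rfl
    have hmem : AltMem D M w ψ := by
      refine ⟨n * R * n⁻¹ * R⁻¹, mul_mem (mul_mem (mul_mem hnM hRM) (inv_mem hnM)) (inv_mem hRM), fun u => ?_⟩
      obtain ⟨u', rfl⟩ := R.surjective u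
      obtain ⟨y, rfl⟩ := n.surjective u'
      show n (R (n.symm (R.symm (R (n y))))) = _
      rw [R.symm_apply_apply, n.symm_apply_apply, hψ]
      congr 3
      rw [hR, W.rho_smul_c, polar_sub_left, polar_add_left, polar_smul_left, polar_smul_left, polar_self', W.hw,
        hcw, hpolw]
      simp
    have h0 := hnone ψ hmem
    rw [hψ z, h0, LinearMap.zero_apply, zero_smul, add_zero]
  -- the middle part is linear
  set φ : E → E := fun a => polar D.qE (n (a • w')) c with hφ
  have hκmul : ∀ t a : E, κ (t * a) = -(t * φ a) := fun t a => by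
    have h := hcomm t (a • w')
    rw [W.rho_smul_c, W.rho_smul_c, map_sub, map_add, hnw, hnc1, hpolw] at h
    have h' := congrArg (fun u => polar D.qE u w') h
    simp only [polar_sub_left, polar_add_left, polar_smul_left, polar_self', W.hw', W.hww, hw'w, W.hcw', hcw',
      smul_eq_mul, mul_one, mul_zero, sub_zero, zero_sub, zero_add, add_zero] at h'
    simp only [hφ]
    linear_combination -h'
  have hκlin : ∀ e, κ e = e * κ 1 := fun e => by
    have h1 := hκmul e 1
    rw [mul_one] at h1
    have h2 := hκmul 1 1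
    rw [one_mul, one_mul] at h2
    rw [h1, h2, mul_neg]
  set t₀ := κ 1 / (2 * D.qE c) with ht₀
  refine ⟨t₀, ?_⟩
  set R₀ := rho D w (t₀ • c) W.hw (W.perp_smul t₀) with hR₀
  have hR₀M : R₀ ∈ M := hO.rho_mem _ _ _ _
  have hc' : ∀ e : E, n (e • c) = R₀ (e • c) := fun e => by
    rw [hnc1, hR₀, W.rho_smul_c, polar_smul_left, polar_smul_left, hcw, polar_self', hκlin, ht₀]
    simp only [smul_eq_mul, mul_zero, zero_smul, sub_zero]
    rw [add_comm]
    congr 2
    field_simp
    rw [mul_assoc (e * κ 1), mul_div_assoc, div_self (mul_ne_zero D.two W.hc), mul_one]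
  have hR₀fix : ∀ z, polar D.qE z w = 0 → R₀.symm (n z) = z := fun z hz => by
    rw [LinearEquiv.symm_apply_eq, W.decomp hk z, hz]
    simp only [zero_smul, add_zero, map_add, hc', hnw, hR₀, W.rho_c_fix t₀ (smul_mem_ln _ w)]
  have hR₀w : ∀ z, polar D.qE (R₀ z) w = polar D.qE z w := fun z => by
    rw [hR₀, W.rho_smul_c]; simp [polar_add_left, polar_sub_left, polar_smul_left, polar_self', W.hw, hcw]
  have hR₀pol : ∀ z, polar D.qE (R₀.symm z) w = polar D.qE z w := fun z => by
    conv_rhs => rw [← R₀.apply_symm_apply z, hR₀w]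
  let n' := R₀⁻¹ * n
  have hn'a : ∀ z, n' z = R₀.symm (n z) := fun z => rfl
  have hn'M : n' ∈ M := mul_mem (inv_mem hR₀M) hnM
  let ψ : E →ₗ[F] E := ((QuadraticMap.polarBilin D.qE).flip w').restrictScalars F ∘ₗ
      ((n' : V →ₗ[F] V) - LinearMap.id) ∘ₗ (LinearMap.toSpanSingleton E V w').restrictScalars F
  have hψc : ∀ a : E, polar D.qE (n' (a • w')) c = 0 := fun a => by
    apply eq_zero_of_trace (F := F)
    intro e
    rw [D.trace_polar, D.adj]
    have h2 : n' (e • c) = e • c := hR₀fix _ (by rw [polar_smul_left, hcw, smul_zero])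
    rw [← h2, hO.iso_polar hn'M, D.polar_eq, polar_smul_left, polar_smul_right, W.hcw']
    simp
  have hψ : AltMem D M w ψ := ⟨n', hn'M, fun z => by
    have hz' : polar D.qE (z - polar D.qE z w • w') w = 0 := by
      rw [polar_sub_left, polar_smul_left, hw'w, smul_eq_mul, mul_one, sub_self]
    have h1 : n' (z - polar D.qE z w • w') = z - polar D.qE z w • w' := hR₀fix _ hz'
    set a := polar D.qE z w
    rw [map_sub, sub_eq_iff_eq_add] at h1
    have hp : polar D.qE (n' (a • w')) w = a := by
      rw [hn'a, hR₀pol, hpolw, polar_smul_left, hw'w, smul_eq_mul, mul_one]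
    have e : n' (a • w') = a • w' + ψ a • w := by
      conv_lhs => rw [W.decomp hk (n' (a • w'))]
      rw [hp, hψc, zero_div, zero_smul, add_zero]
      show _ = a • w' + polar D.qE (n' (a • w') - a • w') w' • w
      rw [polar_sub_left, polar_smul_left, polar_self', W.hw']
      simp [add_comm]
    rw [h1, e]
    abel⟩
  have h0 := hnone ψ hψ
  obtain ⟨z, hz, ez⟩ := hψ
  refine LinearEquiv.ext fun u => ?_
  have hz' : polar D.qE (u - polar D.qE u w • w') w = 0 := by
    rw [polar_sub_left, polar_smul_left, hw'w, smul_eq_mul, mul_one, sub_self]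
  have h1 : n' (u - polar D.qE u w • w') = u - polar D.qE u w • w' := hR₀fix _ hz'
  have h2 : n' (polar D.qE u w • w') = polar D.qE u w • w' := by
    set a := polar D.qE u w
    conv_lhs => rw [W.decomp hk (n' (a • w'))]
    have hp : polar D.qE (n' (a • w')) w = a := by
      rw [hn'a, hR₀pol, hpolw, polar_smul_left, hw'w, smul_eq_mul, mul_one]
    have hq : polar D.qE (n' (a • w') - a • w') w' = 0 := LinearMap.congr_fun h0 a
    rw [polar_sub_left, polar_smul_left, polar_self', W.hw', sub_eq_zero] at hq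
    rw [hp, hψc, hq]
    simp
  rw [map_sub, h2, sub_left_inj, hn'a, LinearEquiv.symm_apply_eq] at h1
  exact h1

end Cfsg.Agent.Lib.OrthExt
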