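import Cfsg.Agent.Lib.OrthExt.Quad

/-!
Reflections, hyperbolic scalings and Eichler transformations as commutators of isometries.
-/

set_option autoImplicit false

namespace Cfsg.Agent.Lib.OrthExt

open QuadraticMap Module Cfsg.Agent.Lib

variable {K W : Type*} [Field K] [AddCommGroup W] [Module K W] {q : QuadraticForm K W}

/-- The reflection in an anisotropic vector. -/
def refl (q : QuadraticForm K W) (a : W) (ha : q a ≠ 0) : W ≃ₗ[K] W where
  toFun x := x - (polar q x a / q a) • a
  invFun x := x - (polar q x a / q a) • a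
  left_inv x := by
    simp only [polar_sub_left, polar_smul_left, polar_self', smul_eq_mul]
    match_scalars <;> field_simp <;> ring
  right_inv x := by
    simp only [polar_sub_left, polar_smul_left, polar_self', smul_eq_mul]
    match_scalars <;> field_simp <;> ring
  map_add' x y := by
    simp only [polar_add_left, add_div, add_smul]
    abel
  map_smul' c x := by
    simp only [polar_smul_left, smul_eq_mul, RingHom.id_apply, smul_sub, smul_smul, mul_div_assoc]

theorem refl_apply (a : W) (ha : q a ≠ 0) (x : W) : refl q a ha x = x - (polar q x a / q a) • a := rfl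

theorem refl_mem (a : W) (ha : q a ≠ 0) : refl q a ha ∈ Classical.isoGroup ⇑q := fun x => by
  rw [refl_apply, sub_eq_add_neg, ← neg_smul, QuadraticMap.map_add (⇑q), QuadraticMap.map_smul,
    polar_smul_right, smul_eq_mul, smul_eq_mul]
  field_simp
  ring

theorem refl_mul_self (a : W) (ha : q a ≠ 0) : refl q a ha * refl q a ha = 1 :=
  LinearEquiv.ext fun x => (refl q a ha).left_inv x

theorem refl_inv (a : W) (ha : q a ≠ 0) : (refl q a ha)⁻¹ = refl q a ha :=
  inv_eq_of_mul_eq_one_right (refl_mul_self a ha)

theorem refl_of_perp {a x : W} (ha : q a ≠ 0) (h : polar q x a = 0) : refl q a ha x = x := by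
  rw [refl_apply, h, zero_div, zero_smul, sub_zero]

theorem refl_self (a : W) (ha : q a ≠ 0) : refl q a ha a = -a := by
  rw [refl_apply, polar_self', mul_div_assoc, div_self ha, mul_one, two_smul]
  abel

theorem refl_conj (a : W) (ha : q a ≠ 0) {g : W ≃ₗ[K] W} (hg : g ∈ Classical.isoGroup ⇑q) :
    g * refl q a ha * g⁻¹ = refl q (g a) (by rwa [hg]) := by
  refine LinearEquiv.ext fun x => ?_
  obtain ⟨y, rfl⟩ := g.surjective x
  rw [LinearEquiv.mul_apply, LinearEquiv.mul_apply, show g⁻¹ (g y) = y from g.symm_apply_apply y, refl_apply,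
    refl_apply, map_sub, map_smul, Classical.isometry_polar hg, hg a]

theorem refl_congr {a b : W} (e : a = b) (ha : q a ≠ 0) (hb : q b ≠ 0) : refl q a ha = refl q b hb := by
  subst e; rfl

theorem refl_neg (a : W) (ha : q a ≠ 0) :
    refl q (-a) (by rwa [QuadraticMap.map_neg]) = refl q a ha := LinearEquiv.ext fun x => by
  simp only [refl_apply, polar_neg_right, QuadraticMap.map_neg, neg_div, neg_smul, smul_neg, neg_neg]

/-- Two orthogonal vectors of one value: the product of their reflections is a commutator. -/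
theorem refl_mul_eq_comm (h2 : (2 : K) ≠ 0) {a b : W} (ha : q a ≠ 0) (hb : q b ≠ 0) (hab : q a = q b)
    (hperp : polar q a b = 0) :
    ∃ X ∈ Classical.isoGroup ⇑q, ∃ Y ∈ Classical.isoGroup ⇑q,
      refl q a ha * refl q b hb = X * Y * X⁻¹ * Y⁻¹ := by
  have hc : q (a - b) ≠ 0 := by
    rw [sub_eq_add_neg, QuadraticMap.map_add (⇑q), QuadraticMap.map_neg, polar_neg_right, hperp, neg_zero,
      add_zero, ← hab, ← two_mul]
    exact mul_ne_zero h2 ha
  refine ⟨refl q a ha, refl_mem a ha, refl q (a - b) hc, refl_mem _ hc, ?_⟩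
  have hmap : refl q (a - b) hc a = b := by
    rw [refl_apply, polar_sub_right, polar_self', hperp, sub_zero]
    rw [show 2 * q a / q (a - b) = 1 by
      rw [div_eq_one_iff_eq hc, sub_eq_add_neg, QuadraticMap.map_add (⇑q), QuadraticMap.map_neg, polar_neg_right,
        hperp, neg_zero, add_zero, ← hab, two_mul]]
    rw [one_smul, sub_sub_cancel]
  have h := refl_conj a ha (refl_mem (q := q) (a - b) hc)
  rw [refl_congr hmap _ hb] at h
  rw [← h]
  simp only [refl_inv, mul_assoc]

/-- The reflections in two vectors of one value: the product is a commutator. -/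
theorem refl_mul_eq_comm_of_eq (h2 : (2 : K) ≠ 0) {a b : W} (ha : q a ≠ 0) (hb : q b ≠ 0) (hab : q a = q b) :
    ∃ X ∈ Classical.isoGroup ⇑q, ∃ Y ∈ Classical.isoGroup ⇑q,
      refl q a ha * refl q b hb = X * Y * X⁻¹ * Y⁻¹ := by
  have e1 : q (a - b) = 2 * q a - polar q a b := by
    rw [sub_eq_add_neg, QuadraticMap.map_add (⇑q), QuadraticMap.map_neg, polar_neg_right, ← hab]; ring
  have e2 : q (a + b) = 2 * q a + polar q a b := by rw [QuadraticMap.map_add (⇑q), ← hab]; ring
  obtain ⟨Y, hY, hYb⟩ : ∃ Y ∈ Classical.isoGroup ⇑q, Y a = b ∨ Y a = -b := by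
    by_cases hm : q (a - b) ≠ 0
    · refine ⟨refl q (a - b) hm, refl_mem _ hm, Or.inl ?_⟩
      have e : polar q a (a - b) / q (a - b) = 1 := by
        rw [div_eq_one_iff_eq hm, e1, polar_sub_right, polar_self']
      rw [refl_apply, e, one_smul, sub_sub_cancel]
    · push Not at hm
      have hp : q (a + b) ≠ 0 := fun h0 => mul_ne_zero (mul_ne_zero h2 h2) ha (by
        linear_combination h0 + hm - e1 - e2)
      refine ⟨refl q (a + b) hp, refl_mem _ hp, Or.inr ?_⟩
      have e : polar q a (a + b) / q (a + b) = 1 := by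
        rw [div_eq_one_iff_eq hp, e2, polar_add_right, polar_self']
      rw [refl_apply, e, one_smul, sub_add_cancel_left]
  refine ⟨refl q a ha, refl_mem a ha, Y, hY, ?_⟩
  have h := refl_conj a ha hY
  have e : refl q (Y a) (by rwa [hY a]) = refl q b hb := by
    rcases hYb with e | e
    · exact refl_congr e _ hb
    · rw [refl_congr e _ (by rwa [QuadraticMap.map_neg]), refl_neg b hb]
  rw [← e, ← h]
  simp only [refl_inv, mul_assoc]

/-- The product of two reflections, squared, is a commutator. -/
theorem refl_sq_eq_comm {a b : W} (ha : q a ≠ 0) (hb : q b ≠ 0) :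
    refl q a ha * refl q b hb * refl q a ha * refl q b hb
      = refl q a ha * refl q b hb * (refl q a ha)⁻¹ * (refl q b hb)⁻¹ := by
  rw [refl_inv, refl_inv]

/-- Scaling of a hyperbolic pair. -/
def tor (q : QuadraticForm K W) (u u' : W) (hu : q u = 0) (hu' : q u' = 0) (h : polar q u u' = 1) (t : Kˣ) :
    W ≃ₗ[K] W where
  toFun x := x + ((t : K) - 1) • polar q x u' • u + (((t⁻¹ : Kˣ) : K) - 1) • polar q x u • u'
  invFun x := x + (((t⁻¹ : Kˣ) : K) - 1) • polar q x u' • u + ((t : K) - 1) • polar q x u • u'
  left_inv x := by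
    have h' : polar q u' u = 1 := by rw [polar_comm, h]
    simp only [polar_add_left, polar_smul_left, polar_self', hu, hu', h, h', smul_eq_mul, mul_zero, mul_one,
      zero_add, add_zero, smul_smul]
    match_scalars <;> simp [Units.val_inv_eq_inv_val] <;> field_simp <;> ring
  right_inv x := by
    have h' : polar q u' u = 1 := by rw [polar_comm, h]
    simp only [polar_add_left, polar_smul_left, polar_self', hu, hu', h, h', smul_eq_mul, mul_zero, mul_one,
      zero_add, add_zero, smul_smul]
    match_scalars <;> simp [Units.val_inv_eq_inv_val] <;> field_simp <;> ring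
  map_add' x y := by
    simp only [polar_add_left]
    module
  map_smul' c x := by
    simp only [polar_smul_left, smul_eq_mul, RingHom.id_apply]
    module

variable {u u' : W} {hu : q u = 0} {hu' : q u' = 0} {h : polar q u u' = 1}

theorem tor_apply (t : Kˣ) (x : W) : tor q u u' hu hu' h t x
    = x + ((t : K) - 1) • polar q x u' • u + (((t⁻¹ : Kˣ) : K) - 1) • polar q x u • u' := rfl

theorem tor_of_perp (t : Kˣ) {x : W} (h1 : polar q x u = 0) (h2 : polar q x u' = 0) :
    tor q u u' hu hu' h t x = x := by
  simp [tor_apply, h1, h2]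

theorem tor_left (t : Kˣ) : tor q u u' hu hu' h t u = (t : K) • u := by
  rw [tor_apply, polar_self', hu, h]
  module

theorem tor_right (t : Kˣ) : tor q u u' hu hu' h t u' = ((t⁻¹ : Kˣ) : K) • u' := by
  rw [tor_apply, polar_self', hu', polar_comm q u' u, h]
  module

theorem tor_mem (t : Kˣ) : tor q u u' hu hu' h t ∈ Classical.isoGroup ⇑q := fun x => by
  have h' : polar q u' u = 1 := by rw [polar_comm, h]
  have ht : (t : K) * ((t⁻¹ : Kˣ) : K) = 1 := t.mul_inv
  rw [tor_apply, QuadraticMap.map_add (⇑q), QuadraticMap.map_add (⇑q)]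
  simp only [QuadraticMap.map_smul, polar_add_left, polar_smul_left, polar_smul_right, hu, hu', h, smul_eq_mul,
    mul_zero, add_zero]
  linear_combination polar q x u * polar q x u' * ht

theorem eichler_smul {w : W} (hw : polar q u w = 0) (c : K) :
    Classical.eichlerEquiv q (c • u) w (by rw [QuadraticMap.map_smul, hu, smul_zero])
        (by rw [polar_smul_left, hw, smul_zero])
      = Classical.eichlerEquiv q u (c • w) hu (by rw [polar_smul_right, hw, smul_zero]) :=
  LinearEquiv.ext fun x => by
    simp only [Classical.eichlerEquiv_apply, polar_smul_right, QuadraticMap.map_smul, smul_eq_mul]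
    module

theorem eichler_mul {w w' : W} (hw : polar q u w = 0) (hw' : polar q u w' = 0) :
    Classical.eichlerEquiv q u w hu hw * Classical.eichlerEquiv q u w' hu hw'
      = Classical.eichlerEquiv q u (w + w') hu (by rw [polar_add_right, hw, hw', add_zero]) :=
  LinearEquiv.ext fun x => by
    have e1 : polar q w u = 0 := by rw [polar_comm, hw]
    have e2 : polar q w' u = 0 := by rw [polar_comm, hw']
    simp only [LinearEquiv.mul_apply, Classical.eichlerEquiv_apply, polar_add_left, polar_sub_left, polar_smul_left,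
      polar_add_right, QuadraticMap.map_add (⇑q), polar_self', hu, hw, e2, smul_eq_mul, mul_zero,
      polar_comm q w' w]
    module

theorem eichler_zero (hw : polar q u (0 : W) = 0) : Classical.eichlerEquiv q u 0 hu hw = 1 :=
  LinearEquiv.ext fun x => by simp [Classical.eichlerEquiv_apply]

theorem eichler_inv {w : W} (hw : polar q u w = 0) :
    (Classical.eichlerEquiv q u w hu hw)⁻¹
      = Classical.eichlerEquiv q u (-w) hu (by rw [polar_neg_right, hw, neg_zero]) :=
  inv_eq_of_mul_eq_one_right <| by
    rw [eichler_mul hw (by rw [polar_neg_right, hw, neg_zero])]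
    refine LinearEquiv.ext fun x => ?_
    simp [Classical.eichlerEquiv_apply, add_neg_cancel]

theorem eichler_add_smul {w : W} (hw : polar q u w = 0) (c : K) :
    Classical.eichlerEquiv q u (w + c • u) hu
        (by rw [polar_add_right, hw, polar_smul_right, polar_self', hu]; simp)
      = Classical.eichlerEquiv q u w hu hw :=
  LinearEquiv.ext fun x => by
    have e1 : polar q w u = 0 := by rw [polar_comm, hw]
    simp only [Classical.eichlerEquiv_apply, polar_add_right, polar_smul_right, QuadraticMap.map_add (⇑q),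
      QuadraticMap.map_smul, hu, e1, smul_eq_mul, mul_zero]
    module

/-- The square of a scaling is a commutator. -/
theorem tor_sq_eq_comm (N : Nd q) (t : Kˣ) :
    ∃ X ∈ Classical.isoGroup ⇑q, ∃ Y ∈ Classical.isoGroup ⇑q,
      tor q u u' hu hu' h t * tor q u u' hu hu' h t = X * Y * X⁻¹ * Y⁻¹ := by
  have h' : polar q u' u = 1 := by rw [polar_comm, h]
  have hd : q (u - u') ≠ 0 := by
    rw [sub_eq_add_neg, QuadraticMap.map_add (⇑q), QuadraticMap.map_neg, polar_neg_right, hu, hu', h]
    simp
  refine ⟨tor q u u' hu hu' h t, tor_mem t, refl q (u - u') hd, refl_mem _ hd, ?_⟩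
  set T := tor q u u' hu hu' h t with hT
  have key : refl q (u - u') hd * T⁻¹ * (refl q (u - u') hd)⁻¹ = T := by
    rw [refl_inv]
    refine LinearEquiv.ext fun x => ?_
    have e : q (u - u') = -1 := by
      rw [sub_eq_add_neg, QuadraticMap.map_add (⇑q), QuadraticMap.map_neg, polar_neg_right, hu, hu', h]; simp
    have hinv : ∀ y, T⁻¹ y = y + (((t⁻¹ : Kˣ) : K) - 1) • polar q y u' • u + ((t : K) - 1) • polar q y u • u' :=
      fun y => rfl
    rw [LinearEquiv.mul_apply, LinearEquiv.mul_apply, hinv, hT]
    simp only [refl_apply, tor_apply, e, polar_sub_right, polar_sub_left,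
      polar_add_left, polar_smul_left, polar_self', hu, hu', h, h', smul_eq_mul]
    match_scalars <;> field_simp <;> ring
  calc T * T = T * (refl q (u - u') hd * T⁻¹ * (refl q (u - u') hd)⁻¹) := by rw [key]
    _ = _ := by simp only [mul_assoc]

/-- An Eichler transformation is a commutator of isometries. -/
theorem eichler_eq_comm (N : Nd q) (hu0 : u ≠ 0) {w : W} (hw : polar q u w = 0) :
    ∃ X ∈ Classical.isoGroup ⇑q, ∃ Y ∈ Classical.isoGroup ⇑q,
      Classical.eichlerEquiv q u w hu hw = X * Y * X⁻¹ * Y⁻¹ := by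
  obtain ⟨u', hu', h⟩ := N.exists_partner hu0 hu
  set w₀ := w - polar q w u' • u with hw₀
  have hw₀u : polar q u w₀ = 0 := by
    rw [hw₀, polar_sub_right, hw, polar_smul_right, polar_self', hu]; simp
  have hw₀u' : polar q w₀ u' = 0 := by
    rw [hw₀, polar_sub_left, polar_smul_left, h]; simp
  have hm2 : (-1 : K) ≠ 0 := neg_ne_zero.mpr one_ne_zero
  let t : Kˣ := Units.mk0 (-1) hm2
  set c : K := -(1 / 2)
  have hcw : polar q u (c • w₀) = 0 := by rw [polar_smul_right, hw₀u, smul_zero]
  refine ⟨tor q u u' hu hu' h t, tor_mem t, Classical.eichlerEquiv q u (c • w₀) hu hcw,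
    Classical.eichlerEquiv_mem q u _ hu hcw, ?_⟩
  rw [Classical.eichlerEquiv_conj q u _ hu hcw (tor_mem (hu := hu) (hu' := hu') (h := h) t)]
  have e1 : tor q u u' hu hu' h t u = (-1 : K) • u := tor_left t
  have e2 : tor q u u' hu hu' h t (c • w₀) = c • w₀ := by
    rw [map_smul, tor_of_perp t (by rw [polar_comm, hw₀u]) hw₀u']
  rw [Classical.eichlerEquiv_congr q e1 e2 (hu' := by rw [QuadraticMap.map_smul, hu, smul_zero])
    (huw' := by rw [polar_smul_left, hcw, smul_zero]), eichler_smul (hu := hu) hcw, eichler_inv, eichler_mul]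
  rw [← eichler_add_smul (hu := hu) hw (-(polar q w u'))]
  refine Classical.eichlerEquiv_congr q rfl ?_
  have h2 := N.two
  rw [show w + -polar q w u' • u = w₀ by rw [hw₀]; module]
  simp only [c]
  match_scalars <;> field_simp <;> ring

end Cfsg.Agent.Lib.OrthExt
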